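import Cfsg.Agent.H31.RC.Spor.Gen
import Cfsg.Agent.H916.RG.Pair_m3
import Cfsg.Agent.H202.RC.Point_mg_m3
import Mathlib.RingTheory.AdjoinRoot
import Mathlib.RingTheory.Trace.Basic
import Mathlib.FieldTheory.Finite.Basic
import Mathlib
import Cfsg.Agent.LieClassical.OrthTrans
import Cfsg.Agent.H198.TwComp
import Cfsg.Agent.H727.GW.Isom
import Cfsg.Agent.LieClassical.OrthFinite
import Cfsg.Agent.H198.TriCls
import Cfsg.Agent.H198.TriTC
import Cfsg.Agent.H198.TriDia
import Cfsg.Agent.H16.Og.Seven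
import Cfsg.Agent.H182.Torus
import Cfsg.Agent.H150.SignCount
import Cfsg.Agent.H200.RowOrthL_m3
import Cfsg.Agent.H319.FC.Defs
import Cfsg.Agent.H193.FC.TorTwo
import Cfsg.Agent.H319.FC.Sem
import Cfsg.Agent.S0281
import Cfsg.Agent.H189.SN.Fam
import Cfsg.Agent.LieClassical.SLGen
import Cfsg.Agent.FastGrp
import Cfsg.Agent.Prune
set_option linter.all false

section
prune_inst 0x7f00000000000000000000000000000000000000000000000000000000000000000000000000000000000000000000000000000000000000000000000000000000000000000000000000000000000000003ffffffffcffffffffffffffffffaeffbdffffffff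

section
prune_inst 0xf2e8f9abb8a1dfdfff7e7da698cdfc19901fffa4dff94b7fe06bff0bff030009c5238d01e010fe0ed6401410a87803f9ffceffe26bd87ffffd1ff41ffb6e0fa5e7b50811d488240f300ffe03f0678e7f000000000300000000000000000000000000000000

-- part: H579/RC/Line
section
prune_inst 0x170644431e200000018259673201e66ce0005b2006b0801d8400f400683ff620d8327e18ea01d121a3a224500310060031000d0424000000e0004000119000000881402b1490008c20016800184000000000000000000000000000000051004000000000
set_option linter.all false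
open scoped Cfsg.Agent.FastGrp

-- part: H579/RC/Cover
section
/-!
# S3510: covers of the orbits of an abelian subgroup, elements of arbitrary coprime orders (helper579)
-/

set_option autoImplicit false
set_option linter.unusedSectionVars false

namespace Cfsg.Agent.H579.RC

open MulAction Cfsg.Agent.H202.RC Cfsg.Agent.H106.RC

/-- `x i` : commuting permutations normalising `U`, of orders prime to `|U|` -/
structure Cop {U D ι : Type*} [Group U] [MulAction U D] (x : ι → Equiv.Perm D) (α : ι → MulAut U) (r : ι → ℕ) :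
    Prop where
  cop : ∀ i, (r i).Coprime (Nat.card U)
  comm : ∀ i j d, x i (x j d) = x j (x i d)
  acomm : ∀ i j u, α i (α j u) = α j (α i u)
  act : ∀ i u d, x i (u • d) = α i u • x i d
  pow : ∀ i, x i ^ r i = 1
  apow : ∀ i, α i ^ r i = 1

/-- **The abelian case, arbitrary orders.** -/
theorem exists_moved' {U D ι : Type*} [CommGroup U] [Finite U] [MulAction U D] {x : ι → Equiv.Perm D} {α : ι → MulAut U}
    {r : ι → ℕ} [Finite ι] [Nonempty D] (h : Cop x α r) (htr : ∀ d d' : D, ∃ u : U, u • d = d')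
    (hne : ∀ i, ∃ d, x i d ≠ d) : ∃ d, ∀ i, x i d ≠ d := by
  classical
  set A : Set ℕ := {n : ℕ | ∃ d : D, n = Set.ncard {i | x i d ≠ d}} with hA
  have hbd : BddAbove A := by
    refine ⟨Nat.card ι, ?_⟩
    rintro n ⟨d, rfl⟩
    exact Set.ncard_le_card _
  have hAn : A.Nonempty := ⟨_, Classical.arbitrary D, rfl⟩
  have hmem := Nat.sSup_mem hAn hbd
  obtain ⟨d, hn⟩ := hmem
  refine ⟨d, ?_⟩
  by_contra hcon
  push Not at hcon
  obtain ⟨i, hi⟩ := hcon
  have hri : (r i).Coprime (Nat.card U) := h.cop i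
  obtain ⟨d1, hd1⟩ := hne i
  obtain ⟨u, rfl⟩ := htr d d1
  set w : U := u⁻¹ * α i u with hw
  have hwn : nrm (α i) (r i) w = 1 := nrm_sub (h.apow i) u
  have hwd : w • d ≠ d := by
    intro h1
    apply hd1
    rw [h.act, hi]
    have h2 : α i u = u * w := by rw [hw]; group
    rw [h2, mul_smul, h1]
  have hmove : ∀ j, (x j d ≠ d ∨ j = i) → x j (w • d) ≠ w • d := by
    intro j hj h1
    by_cases hji : j = i
    · rw [hji] at h1
      exact hwd (key hri (h.act i) hi hwn h1)
    · have hj' := hj.resolve_right hji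
      apply hj'
      rw [h.act] at h1
      have h2 : x j d = ((α j w)⁻¹ * w) • d := by rw [mul_smul, ← h1, inv_smul_smul]
      have h3 : nrm (α i) (r i) ((α j w)⁻¹ * w) = 1 := by
        rw [map_mul, map_inv, nrm_comm (h.acomm i j), hwn, map_one, inv_one, one_mul]
      have h4 : x i (((α j w)⁻¹ * w) • d) = ((α j w)⁻¹ * w) • d := by
        rw [← h2, h.comm i j, hi]
      rw [h2]
      exact key hri (h.act i) hi h3 h4
  have hlt : Set.ncard {j | x j d ≠ d} < Set.ncard {j | x j (w • d) ≠ w • d} := by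
    refine Set.ncard_lt_ncard (ssubset_iff_subset_not_subset.2 ⟨fun j hj => hmove j (Or.inl hj), fun hsub => ?_⟩)
      (Set.toFinite _)
    exact hsub (show i ∈ {j | x j (w • d) ≠ w • d} from hmove i (Or.inr rfl)) hi
  have hle : Set.ncard {j | x j (w • d) ≠ w • d} ≤ Set.ncard {j | x j d ≠ d} := by
    rw [← hn]
    exact le_csSup hbd ⟨w • d, rfl⟩
  omega

section cover

variable {G Ω ι : Type*} [Group G] [MulAction G Ω]

variable [Finite ι] {x : ι → G} {r : ι → ℕ} in
/-- **Local cover rule** (`U` abelian, arbitrary orders prime to `|U|`). -/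
theorem cover_ab (hr : ∀ i, 0 < r i) (hx : ∀ i, x i ^ r i = 1) (hc : ∀ i j, x i * x j = x j * x i)
    {U : Subgroup G} [Finite U] {ω : Ω} (hcov : ∀ u ∈ U, ∃ i, x i • u • ω = u • ω) (hU : ∀ i, ∀ u ∈ U, x i * u * (x i)⁻¹ ∈ U)
    (hab : ∀ u ∈ U, ∀ v ∈ U, u * v = v * u) (hco : ∀ i, (r i).Coprime (Nat.card U)) :
    ∃ i, ∀ u ∈ U, x i • u • ω = u • ω := by
  classical
  by_contra hcon
  push Not at hcon
  have hU' : ∀ i u, u ∈ U ↔ x i * u * (x i)⁻¹ ∈ U := by
    intro i u
    refine ⟨hU i u, fun h => ?_⟩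
    have h1 : ∀ n : ℕ, x i ^ n * (x i * u * (x i)⁻¹) * (x i ^ n)⁻¹ ∈ U := by
      intro n
      induction n with
      | zero => simpa using h
      | succ n ih =>
        have h2 := hU i _ ih
        have h3 : x i * (x i ^ n * (x i * u * (x i)⁻¹) * (x i ^ n)⁻¹) * (x i)⁻¹ =
            x i ^ (n + 1) * (x i * u * (x i)⁻¹) * (x i ^ (n + 1))⁻¹ := by
          rw [pow_succ']
          group
        rwa [h3] at h2
    obtain ⟨n, hn⟩ : ∃ n, r i = n + 1 := ⟨r i - 1, by have := hr i; omega⟩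
    have h4 := h1 n
    have h5 : x i ^ n = (x i)⁻¹ := by
      rw [eq_inv_iff_mul_eq_one, ← pow_succ, ← hn]
      exact hx i
    rw [h5] at h4
    have h6 : (x i)⁻¹ * (x i * u * (x i)⁻¹) * ((x i)⁻¹)⁻¹ = u := by group
    rwa [h6] at h4
  -- the `x i` with a fixed point in the orbit
  let I := {i : ι // ∃ u ∈ U, x i • u • ω = u • ω}
  have hpres : ∀ (i : I) (y : Ω), y ∈ MulAction.orbit U ω ↔ x i.1 • y ∈ MulAction.orbit U ω := by
    rintro ⟨i, u, hu, hi⟩ y
    constructor
    · rintro ⟨v, rfl⟩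
      refine ⟨⟨x i * (v * u⁻¹) * (x i)⁻¹ * u, U.mul_mem (hU i _ (U.mul_mem v.2 (U.inv_mem hu))) hu⟩, ?_⟩
      change (x i * (v * u⁻¹) * (x i)⁻¹ * u) • ω = x i • (v : G) • ω
      have h1 : (x i)⁻¹ • u • ω = u • ω := by rw [inv_smul_eq_iff, hi]
      rw [mul_smul, mul_smul, h1, mul_smul, mul_smul, inv_smul_smul]
    · rintro ⟨v, hv⟩
      change (v : G) • ω = x i • y at hv
      have h1 : (x i)⁻¹ * (v * u⁻¹) * x i ∈ U := by
        rw [hU' i]
        have h2 : x i * ((x i)⁻¹ * (v * u⁻¹) * x i) * (x i)⁻¹ = v * u⁻¹ := by group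
        rw [h2]
        exact U.mul_mem v.2 (U.inv_mem hu)
      refine ⟨⟨(x i)⁻¹ * (v * u⁻¹) * x i * u, U.mul_mem h1 hu⟩, ?_⟩
      change ((x i)⁻¹ * (v * u⁻¹) * x i * u) • ω = y
      rw [mul_smul, mul_smul, hi, mul_smul, mul_smul, inv_smul_smul, hv, inv_smul_smul]
  let y : I → Equiv.Perm (MulAction.orbit U ω) := fun i =>
    { toFun := fun d => ⟨x i.1 • (d : Ω), (hpres i d).1 d.2⟩
      invFun := fun d => ⟨(x i.1)⁻¹ • (d : Ω), (hpres i _).2 (by rw [smul_inv_smul]; exact d.2)⟩
      left_inv := fun d => Subtype.ext (inv_smul_smul _ _)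
      right_inv := fun d => Subtype.ext (smul_inv_smul _ _) }
  have hy : ∀ (i : I) (d : MulAction.orbit U ω), ((y i d : _) : Ω) = x i.1 • (d : Ω) := fun i d => rfl
  have hypow : ∀ (i : I) (m : ℕ) (d : MulAction.orbit U ω), (((y i ^ m) d : _) : Ω) = x i.1 ^ m • (d : Ω) := by
    intro i m
    induction m with
    | zero => intro d; simp
    | succ m ih => intro d; rw [pow_succ, Equiv.Perm.mul_apply, ih, hy, pow_succ, mul_smul]
  have hαpow : ∀ (i : ι) (m : ℕ) (u : U), (((conjU (x i) (hU' i) ^ m) u : U) : G) = x i ^ m * u * (x i ^ m)⁻¹ := by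
    intro i m
    induction m with
    | zero => intro u; simp
    | succ m ih =>
      intro u
      rw [pow_succ, MulAut.mul_apply, ih, conjU_coe, pow_succ]
      group
  let _ : CommGroup U :=
    { (inferInstance : Group U) with mul_comm := fun a b => Subtype.ext (hab a a.2 b b.2) }
  have hN : Cop y (fun i => conjU (x i.1) (hU' i.1)) (fun i => r i.1) := by
    refine ⟨fun i => hco _, ?_, ?_, ?_, ?_, ?_⟩
    · intro i j d
      apply Subtype.ext
      rw [hy, hy, hy, hy, ← mul_smul, ← mul_smul, hc]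
    · intro i j u
      apply Subtype.ext
      rw [conjU_coe, conjU_coe, conjU_coe, conjU_coe]
      have h1 := hc i.1 j.1
      have h2 : x i.1 * (x j.1 * (u : G) * (x j.1)⁻¹) * (x i.1)⁻¹ = (x i.1 * x j.1) * u * (x i.1 * x j.1)⁻¹ := by group
      rw [h2, h1]
      group
    · intro i u d
      apply Subtype.ext
      change x i.1 • (u : G) • (d : Ω) = (x i.1 * u * (x i.1)⁻¹) • x i.1 • (d : Ω)
      rw [← mul_smul, ← mul_smul]
      group
    · intro i
      ext d
      rw [hypow, hx, one_smul]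
      rfl
    · intro i
      ext u
      rw [hαpow, hx]
      simp
  have hne : ∀ i : I, ∃ d, y i d ≠ d := by
    intro i
    obtain ⟨u, hu, h1⟩ := hcon i.1
    exact ⟨⟨u • ω, ⟨⟨u, hu⟩, rfl⟩⟩, fun h2 => h1 (congrArg Subtype.val h2)⟩
  have hno : Nonempty (MulAction.orbit U ω) := ⟨⟨ω, MulAction.mem_orbit_self _⟩⟩
  have htr : ∀ d d' : MulAction.orbit U ω, ∃ u : U, u • d = d' := fun d d' => MulAction.exists_smul_eq U d d'
  obtain ⟨d, hd⟩ := exists_moved' hN htr hne
  obtain ⟨u, hu⟩ := d.2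
  have hu' : (u : G) • ω = d := hu
  obtain ⟨i, hi⟩ := hcov u u.2
  rw [hu'] at hi
  have hiI : ∃ u ∈ U, x i • u • ω = u • ω := ⟨u, u.2, by rw [hu', hi]⟩
  exact hd ⟨i, hiI⟩ (Subtype.ext hi)

end cover

end Cfsg.Agent.H579.RC
end

-- part: H579/RC/Line
section
/-!
# S3510: the line rule (helper579)

`a : R → G` additive (`R` a finite field), commuting elements `z i` with `z i * a c * (z i)⁻¹ = a (ν i * c)`, `ν i ≠ 1`.
Then the `z i` do not cover `Ω` (no condition on the orders of the `z i`).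
-/

set_option autoImplicit false

namespace Cfsg.Agent.H579.RC

open MulAction Cfsg.Agent.H106.RC

/-- **Line rule.** -/
theorem line_rule {G Ω κ R : Type*} [Group G] [Finite G] [MulAction G Ω] [Nonempty Ω] {N : Subgroup G}
    (hE : Env G Ω N) [Field R] [Finite R] [Finite κ] {z : κ → G} (hc : ∀ i j, z i * z j = z j * z i)
    (hcov : Cov Ω z) {a : R → G} (ha : ∀ c d, a (c + d) = a c * a d) (ha1 : ∃ c, a c ≠ 1) {ν : κ → R}
    (hν : ∀ i, ν i ≠ 1) (hz : ∀ i c, z i * a c * (z i)⁻¹ = a (ν i * c)) : False := by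
  classical
  have := Fintype.ofFinite R
  obtain ⟨p, hchar⟩ := CharP.exists R
  obtain ⟨⟨n, hn0⟩, hp, hR⟩ := FiniteField.card R p
  simp only [PNat.mk_coe] at hR
  have hfp : Fact p.Prime := ⟨hp⟩
  obtain ⟨k, m, hm, hG⟩ := Nat.exists_eq_pow_mul_and_not_dvd (n := Nat.card G) Nat.card_pos.ne' p hp.ne_one
  have hm0 : 0 < m := by
    rcases Nat.eq_zero_or_pos m with h | h
    · exact absurd (h ▸ dvd_zero p) hm
    · exact h
  -- the additive group
  have ha0 : a 0 = 1 := by
    have h1 := ha 0 0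
    rw [add_zero] at h1
    exact (left_eq_mul.1 h1)
  let φ : Multiplicative R →* G :=
    { toFun := fun c => a c.toAdd
      map_one' := ha0
      map_mul' := fun c d => ha _ _ }
  let U : Subgroup G := φ.range
  have hUmem : ∀ u ∈ U, ∃ c : R, u = a c := by
    rintro _ ⟨c, rfl⟩
    exact ⟨c.toAdd, rfl⟩
  have hUa : ∀ c, a c ∈ U := fun c => ⟨Multiplicative.ofAdd c, rfl⟩
  have hUcard : Nat.card U ∣ p ^ n := by
    have h1 : Nat.card U ∣ Nat.card (Multiplicative R) := Subgroup.card_range_dvd φ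
    rwa [show Nat.card (Multiplicative R) = p ^ n by
      rw [← hR, ← Nat.card_eq_fintype_card]
      exact Nat.card_congr Multiplicative.toAdd] at h1
  have hmco : m.Coprime (Nat.card U) :=
    Nat.Coprime.coprime_dvd_right hUcard (Nat.Coprime.pow_right n ((hp.coprime_iff_not_dvd.2 hm).symm))
  -- the powers
  have hpw : ∀ (i : κ) (j : ℕ) (c : R), z i ^ j * a c * (z i ^ j)⁻¹ = a (ν i ^ j * c) := by
    intro i j
    induction j with
    | zero => intro c; simp
    | succ j ih =>
      intro c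
      have h1 : z i ^ (j + 1) * a c * (z i ^ (j + 1))⁻¹ = z i * (z i ^ j * a c * (z i ^ j)⁻¹) * (z i)⁻¹ := by
        rw [pow_succ']
        group
      rw [h1, ih, hz, pow_succ', mul_assoc]
  have hν' : ∀ i, ν i ^ p ^ k ≠ 1 := by
    intro i h
    apply hν i
    have h1 : (ν i - 1) ^ p ^ k = 0 := by
      rw [sub_pow_char_pow, h, one_pow, sub_self]
    exact sub_eq_zero.1 (pow_eq_zero_iff (pow_pos hp.pos k).ne' |>.1 h1)
  obtain ⟨c, hc1⟩ := ha1
  apply hc1
  apply hE.single
  intro ω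
  obtain ⟨i, hi⟩ := cover_ab (x := fun i => z i ^ p ^ k) (r := fun _ => m) (ω := ω) (U := U) (fun _ => hm0)
    (by
      intro i
      show (z i ^ p ^ k) ^ m = 1
      rw [← pow_mul, ← hG, pow_card_eq_one'])
    (by
      intro i j
      exact (Commute.pow_pow (hc i j) _ _).eq)
    (by
      intro u _
      obtain ⟨i, hi⟩ := hcov (u • ω)
      refine ⟨i, ?_⟩
      have h1 : ∀ j : ℕ, z i ^ j • u • ω = u • ω := by
        intro j
        induction j with
        | zero => rw [pow_zero, one_smul]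
        | succ j ih => rw [pow_succ, mul_smul, hi, ih]
      exact h1 _)
    (by
      intro i u hu
      obtain ⟨c, rfl⟩ := hUmem u hu
      rw [hpw]
      exact hUa _)
    (by
      intro u hu v hv
      obtain ⟨c, rfl⟩ := hUmem u hu
      obtain ⟨d, rfl⟩ := hUmem v hv
      rw [← ha, ← ha, add_comm])
    (fun _ => hmco)
  have hi' : ∀ c, (z i ^ p ^ k) • a c • ω = a c • ω := fun c => hi (a c) (hUa c)
  have h0 : (z i ^ p ^ k) • ω = ω := by
    have := hi' 0
    rwa [ha0, one_smul] at this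
  have h0' : (z i ^ p ^ k)⁻¹ • ω = ω := by rw [inv_smul_eq_iff, h0]
  have hfix : ∀ d, a (ν i ^ p ^ k * d) • ω = a d • ω := by
    intro d
    rw [← hpw, mul_smul, mul_smul, h0', hi']
  have hne : ν i ^ p ^ k - 1 ≠ 0 := sub_ne_zero.2 (hν' i)
  have h1 := hfix ((ν i ^ p ^ k - 1)⁻¹ * c)
  have h2 : ν i ^ p ^ k * ((ν i ^ p ^ k - 1)⁻¹ * c) = c + (ν i ^ p ^ k - 1)⁻¹ * c := by
    field_simp
    ring
  rw [h2, add_comm, ha, mul_smul] at h1
  exact smul_left_cancel _ h1

end Cfsg.Agent.H579.RC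
end
end

-- part: H810/RC/Core_mg
section
prune_inst 0xd0306104058000000018201462001e62fa00000200080800000009000480ac400d0208a0b090051218a2004440340000020000000040000004000400091c05810080100080490000400000000100000000000000000000000000000000010000200000000
set_option linter.all false
open scoped Cfsg.Agent.FastGrp

-- part: H810/RC/Lin
section
/-!
# S3510, row D, box D7b: linear algebra (helper810)

* `compl`, `nd_orth`, `inv_orth` : orthogonal complement of a nondegenerate subspace;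
* `comm_lf` : lifts of commuting elements of different prime orders commute;
* `exists_unip` : an element of order `p` with a linear lift is the image of an isometry `t` with `t ^ p = 1`;
* `plane_unip` : an isometry of order `p` on an invariant nondegenerate plane is a transvection; the `p'`-lifts are
  scalars there;
* `ord_five` : prime orders of maps of a plane over `F_5`.
-/

set_option autoImplicit false
open Cfsg

namespace Cfsg.Agent.H810.RC

open MulAction Module Cfsg.Agent.H106.RC Cfsg.Agent.H520.RC Cfsg.Agent.H727.GW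

section orth

variable {F : Type*} {V : Type*} [Field F] [AddCommGroup V] [Module F V] [FiniteDimensional F V]
  {B : LinearMap.BilinForm F V}

/-- nondegenerate subspace -/
def Nd (B : LinearMap.BilinForm F V) (A : Submodule F V) : Prop := ∀ a ∈ A, (∀ b ∈ A, B a b = 0) → a = 0

omit [FiniteDimensional F V] in
theorem mem_orth (h : NAlt B) {A : Submodule F V} {v : V} : v ∈ B.orthogonal A ↔ ∀ a ∈ A, B v a = 0 := by
  rw [LinearMap.BilinForm.mem_orthogonal_iff]
  constructor
  · intro hv a ha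
    exact h.swap0 (hv a ha)
  · intro hv a ha
    exact h.swap0 (hv a ha)

theorem compl (h : NAlt B) {A : Submodule F V} (hA : Nd B A) : IsCompl A (B.orthogonal A) := by
  have hr : B.IsRefl := fun x y hxy => h.swap0 hxy
  rw [LinearMap.BilinForm.isCompl_orthogonal_iff_disjoint hr, Submodule.disjoint_def]
  intro x hx hx'
  exact hA x hx ((mem_orth h).1 hx')

theorem finrank_orth (h : NAlt B) {A : Submodule F V} (hA : Nd B A) :
    finrank F A + finrank F (B.orthogonal A) = finrank F V := Submodule.finrank_add_eq_of_isCompl (compl h hA)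

theorem decomp (h : NAlt B) {A : Submodule F V} (hA : Nd B A) (v : V) :
    ∃ a ∈ A, ∃ b ∈ B.orthogonal A, v = a + b := by
  have h1 : v ∈ A ⊔ B.orthogonal A := by rw [(compl h hA).sup_eq_top]; trivial
  obtain ⟨a, ha, b, hb, e⟩ := Submodule.mem_sup.1 h1
  exact ⟨a, ha, b, hb, e.symm⟩

theorem nd_orth (h : NAlt B) {A : Submodule F V} (hA : Nd B A) : Nd B (B.orthogonal A) := by
  intro x hx hx'
  apply h.nd
  intro v
  obtain ⟨a, ha, b, hb, rfl⟩ := decomp h hA v
  rw [map_add, (mem_orth h).1 hx a ha, hx' b hb, add_zero]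

theorem inv_orth (h : NAlt B) {A : Submodule F V} {L : SS B} (hl : L.IsLin) (hi : ∀ v ∈ A, L v ∈ A) :
    ∀ v ∈ B.orthogonal A, L v ∈ B.orthogonal A := by
  intro v hv
  rw [mem_orth h] at hv ⊢
  have h1 : A.map (hl.lin : V →ₗ[F] V) ≤ A := by
    rintro _ ⟨a, ha, rfl⟩
    exact hi a ha
  have h2 : A.map (hl.lin : V →ₗ[F] V) = A :=
    Submodule.eq_of_le_of_finrank_eq h1 (LinearEquiv.finrank_map_eq hl.lin A)
  intro a ha
  rw [← h2] at ha
  obtain ⟨a', ha', rfl⟩ := ha
  show B (L v) (L a') = 0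
  rw [hl.form, hv a' ha', mul_zero]

theorem even_nd (h : NAlt B) {A : Submodule F V} (hA : Nd B A) : Even (finrank F A) :=
  even_finrank _ A (B.restrict A) (fun x => h.alt x.1) (fun x hx => Subtype.ext (hA x.1 x.2 fun b hb => hx ⟨b, hb⟩)) rfl

theorem orth_ne_bot (h : NAlt B) {A : Submodule F V} (hA : Nd B A) (h1 : A ≠ ⊤) : B.orthogonal A ≠ ⊥ := by
  intro h2
  have h3 := (compl h hA).sup_eq_top
  rw [h2, sup_bot_eq] at h3
  exact h1 h3

theorem orth_ne_top (h : NAlt B) {A : Submodule F V} (hA : Nd B A) (h1 : A ≠ ⊥) : B.orthogonal A ≠ ⊤ := by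
  intro h2
  have h3 := (compl h hA).inf_eq_bot
  rw [h2, inf_top_eq] at h3
  exact h1 h3

end orth

section lifts

variable {F : Type*} {V : Type*} [Field F] [AddCommGroup V] [Module F V]
  {B : LinearMap.BilinForm F V} {G : Type*} [Group G] {Ω : Type*} [MulAction G Ω]
  {N : Subgroup G} {ρ : ↥(Sp B) →* G}

theorem exists_vec (E : SpEnv Ω N ρ) : ∃ v : V, v ≠ 0 := by
  have h1 := E.dim
  have : Nontrivial V := Module.nontrivial_of_finrank_pos (R := F) (by omega)
  exact exists_ne 0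

/-- iterates of a linear map -/
theorem iter_smul {f : V → V} (hf : ∀ (a : F) (v : V), f (a • v) = a • f v) (n : ℕ) (a : F) (v : V) :
    f^[n] (a • v) = a • f^[n] v := by
  induction n generalizing v with
  | zero => rfl
  | succ n ih => rw [Function.iterate_succ_apply, hf, ih, Function.iterate_succ_apply]

theorem iter_comm {f g : V → V} {a : F} (hf : ∀ (a : F) (v : V), f (a • v) = a • f v)
    (h : ∀ v, f (g v) = a • g (f v)) (n : ℕ) (v : V) : f^[n] (g v) = a ^ n • g (f^[n] v) := by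
  induction n generalizing v with
  | zero => rw [pow_zero, one_smul]; rfl
  | succ n ih =>
    rw [Function.iterate_succ_apply, h, iter_smul hf, ih, smul_smul, Function.iterate_succ_apply, pow_succ']

theorem comm_lf [FiniteDimensional F V] (E : SpEnv Ω N ρ) {x y : G} {M L : SS B} (hM : Lf ρ x M) (hL : Lf ρ y L)
    (hMl : M.IsLin) (hLl : L.IsLin) (hc : x * y = y * x) {m n : ℕ} (hmn : m.Coprime n) (hx : x ^ m = 1)
    (hy : y ^ n = 1) (v : V) : M (L v) = L (M v) := by
  obtain ⟨a, ha, h1⟩ := E.lf_comm hM hL hc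
  obtain ⟨b, hb, h2⟩ := E.pow_scal hM hx
  obtain ⟨c, hc, h3⟩ := E.pow_scal hL hy
  obtain ⟨w, hw⟩ := exists_vec E
  have e1 : a ^ m = 1 := by
    have h4 := iter_comm (f := M) (g := L) (fun a v => hMl.map_smul a v) h1 m w
    rw [h2, h2, hLl.map_smul] at h4
    have h5 : (b - a ^ m * b) • L w = 0 := by rw [sub_smul, mul_smul, ← h4, sub_self]
    rcases smul_eq_zero.1 h5 with h6 | h6
    · have h7 : (1 - a ^ m) * b = 0 := by linear_combination h6
      rcases mul_eq_zero.1 h7 with h8 | h8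
      · exact (sub_eq_zero.1 h8).symm
      · exact absurd h8 hb
    · exfalso
      apply hw
      apply L.injective
      rw [h6, L.map_zero]
  have e2 : a ^ n = 1 := by
    have h1' : ∀ v, L (M v) = a⁻¹ • M (L v) := fun v => by
      rw [h1, smul_smul, inv_mul_cancel₀ ha, one_smul]
    have h4 := iter_comm (f := L) (g := M) (fun a v => hLl.map_smul a v) h1' n w
    rw [h3, h3, hMl.map_smul] at h4
    have h5 : (c - a⁻¹ ^ n * c) • M w = 0 := by rw [sub_smul, mul_smul, ← h4, sub_self]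
    rcases smul_eq_zero.1 h5 with h6 | h6
    · have h7 : (1 - a⁻¹ ^ n) * c = 0 := by linear_combination h6
      rcases mul_eq_zero.1 h7 with h8 | h8
      · have h9 := (sub_eq_zero.1 h8).symm
        rw [inv_pow, inv_eq_one] at h9
        exact h9
      · exact absurd h8 hc
    · exfalso
      apply hw
      apply M.injective
      rw [h6, M.map_zero]
  have e3 : a = 1 := by
    have h4 : orderOf a ∣ m := orderOf_dvd_of_pow_eq_one e1
    have h5 : orderOf a ∣ n := orderOf_dvd_of_pow_eq_one e2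
    have h6 : orderOf a ∣ 1 := by
      rw [← hmn.gcd_eq_one]
      exact Nat.dvd_gcd h4 h5
    exact orderOf_eq_one_iff.1 (Nat.dvd_one.1 h6)
  rw [h1, e3, one_smul]

theorem exists_unip [Finite F] [FiniteDimensional F V] (E : SpEnv Ω N ρ) {p : ℕ} (hp : p.Prime) [CharP F p] {x : G}
    {M : SS B} (hM : Lf ρ x M) (hl : M.IsLin) (hx : x ^ p = 1) :
    ∃ (t : ↥(Sp B)) (c : F), c ≠ 0 ∧ (∀ v, M v = c • t.1 v) ∧ x = ρ t ∧ ∀ v, t.1^[p] v = v := by
  have : Fact p.Prime := ⟨hp⟩
  obtain ⟨b, hb, h2⟩ := E.pow_scal hM hx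
  have hinj : Function.Injective (fun a : F => a ^ p) := frobenius_inj F p
  obtain ⟨c, hc⟩ := (Finite.injective_iff_surjective.1 hinj) b
  change c ^ p = b at hc
  have hc0 : c ≠ 0 := by
    rintro rfl
    rw [zero_pow hp.ne_zero] at hc
    exact hb hc.symm
  obtain ⟨w, hw⟩ := exists_vec E
  obtain ⟨w', hw'⟩ := E.form.exists_one hw
  have hlp : ∀ n : ℕ, ∀ u v, B (M^[n] u) (M^[n] v) = M.l ^ n * B u v := by
    intro n
    induction n with
    | zero => intro u v; rw [pow_zero, one_mul]; rfl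
    | succ n ih =>
      intro u v
      rw [Function.iterate_succ_apply, Function.iterate_succ_apply, ih, hl.form, pow_succ, mul_assoc]
  have hl2 : M.l = c * c := by
    apply hinj
    show M.l ^ p = (c * c) ^ p
    have h3 := hlp p w w'
    rw [h2, h2, hw', mul_one, _root_.map_smul, LinearMap.map_smul₂, hw', smul_eq_mul, smul_eq_mul, mul_one] at h3
    rw [← h3, mul_pow, hc]
  let t0 : V ≃ₗ[F] V := (hl.lin).trans (LinearEquiv.smulOfUnit (Units.mk0 c⁻¹ (inv_ne_zero hc0)))
  have ht0 : ∀ v, t0 v = c⁻¹ • M v := fun v => rfl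
  have htm : t0 ∈ Sp B := by
    intro u v
    rw [ht0, ht0, _root_.map_smul, LinearMap.map_smul₂, hl.form, hl2, smul_eq_mul, smul_eq_mul]
    field_simp
  refine ⟨⟨t0, htm⟩, c, hc0, ?_, ?_, ?_⟩
  · intro v
    show M v = c • t0 v
    rw [ht0, smul_smul, mul_inv_cancel₀ hc0, one_smul]
  · apply E.eq_of_lf hM hc0
    intro v
    show M v = c • t0 v
    rw [ht0, smul_smul, mul_inv_cancel₀ hc0, one_smul]
  · intro v
    have h3 : ∀ (n : ℕ) (v : V), t0^[n] v = (c⁻¹) ^ n • M^[n] v := by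
      intro n
      induction n with
      | zero => intro v; rw [pow_zero, one_smul]; rfl
      | succ n ih =>
        intro v
        rw [Function.iterate_succ_apply, ih, ht0, iter_smul (fun a v => hl.map_smul a v), smul_smul,
          Function.iterate_succ_apply, pow_succ]
    show t0^[p] v = v
    rw [h3, h2, smul_smul, inv_pow, hc, inv_mul_cancel₀ hb, one_smul]

end lifts

section plane

variable {F : Type*} {V : Type*} [Field F] [AddCommGroup V] [Module F V] [FiniteDimensional F V]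
  {B : LinearMap.BilinForm F V}

omit [FiniteDimensional F V] in
/-- a fixed vector of a unipotent isometry -/
theorem exists_fix {p : ℕ} (hp : p.Prime) [CharP F p] {t : V ≃ₗ[F] V} (ht : ∀ v, t^[p] v = v)
    {A : Submodule F V} (hA : A ≠ ⊥) (hi : ∀ v ∈ A, t v ∈ A) : ∃ e ∈ A, e ≠ 0 ∧ t e = e := by
  classical
  have : Fact p.Prime := ⟨hp⟩
  obtain ⟨v, hv, hv0⟩ := Submodule.exists_mem_ne_zero_of_ne_bot hA
  have : Nontrivial V := ⟨⟨v, 0, hv0⟩⟩
  have : CharP (Module.End F V) p := charP_of_injective_algebraMap (algebraMap F (Module.End F V)).injective p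
  let D : Module.End F V := (t : V →ₗ[F] V) - 1
  have hD : ∀ v, D v = t v - v := fun v => rfl
  have hDp : D ^ p = 0 := by
    have h1 : D ^ p = (t : V →ₗ[F] V) ^ p - 1 ^ p := sub_pow_char_of_commute p (Commute.one_right _)
    rw [h1, one_pow, sub_eq_zero]
    apply LinearMap.ext
    intro v
    rw [Module.End.pow_apply]
    exact ht v
  have hex : ∃ k, (D ^ k) v = 0 := ⟨p, by rw [hDp]; rfl⟩
  have hk0 : Nat.find hex ≠ 0 := by
    intro h0
    have := Nat.find_spec hex
    rw [h0, pow_zero] at this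
    exact hv0 this
  obtain ⟨k, hk⟩ := Nat.exists_eq_succ_of_ne_zero hk0
  have hmem : ∀ n : ℕ, (D ^ n) v ∈ A := by
    intro n
    induction n with
    | zero => exact hv
    | succ n ih =>
      rw [pow_succ', Module.End.mul_apply, hD]
      exact A.sub_mem (hi _ ih) ih
  refine ⟨(D ^ k) v, hmem k, ?_, ?_⟩
  · exact Nat.find_min hex (by omega)
  · have h1 := Nat.find_spec hex
    rw [hk, pow_succ', Module.End.mul_apply, hD, sub_eq_zero] at h1
    exact h1

/-- a hyperbolic basis of a nondegenerate plane -/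
theorem plane_basis (h : NAlt B) {A : Submodule F V} (hA : Nd B A) (h2 : finrank F A = 2) {e : V} (he : e ∈ A)
    (he0 : e ≠ 0) : ∃ f ∈ A, B e f = 1 ∧ ∀ v ∈ A, v = (B v f) • e + (B e v) • f := by
  obtain ⟨f0, hf0, hef0⟩ : ∃ f ∈ A, B e f ≠ 0 := by
    by_contra hno
    push Not at hno
    exact he0 (hA e he hno)
  refine ⟨(B e f0)⁻¹ • f0, A.smul_mem _ hf0, ?_, ?_⟩
  · rw [_root_.map_smul, smul_eq_mul, inv_mul_cancel₀ hef0]
  · set f := (B e f0)⁻¹ • f0 with hf
    have hfA : f ∈ A := A.smul_mem _ hf0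
    have hef : B e f = 1 := by rw [hf, _root_.map_smul, smul_eq_mul, inv_mul_cancel₀ hef0]
    have hfe : B f e = -1 := by rw [h.swap, hef]
    have hli : LinearIndependent F ![e, f] := by
      rw [LinearIndependent.pair_iff]
      intro s t hst
      have h3 := congrArg (fun v => B e v) hst
      have h4 := congrArg (fun v => B v f) hst
      simp only [map_add, _root_.map_smul, LinearMap.add_apply, LinearMap.smul_apply, smul_eq_mul, h.alt, hef,
        mul_zero, mul_one, zero_add, add_zero, map_zero, LinearMap.zero_apply] at h3 h4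
      exact ⟨h4, h3⟩
    have hspan : Submodule.span F (Set.range ![e, f]) = A := by
      apply Submodule.eq_of_le_of_finrank_eq
      · rw [Submodule.span_le]
        rintro _ ⟨i, rfl⟩
        fin_cases i
        · exact he
        · exact hfA
      · rw [finrank_span_eq_card hli, h2]
        rfl
    intro v hv
    rw [← hspan, Matrix.range_cons_cons_empty, Submodule.mem_span_pair] at hv
    obtain ⟨a, b, rfl⟩ := hv
    have h3 : B (a • e + b • f) f = a := by
      rw [map_add, LinearMap.add_apply, LinearMap.map_smul₂, LinearMap.map_smul₂, hef, h.alt, smul_zero, add_zero,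
        smul_eq_mul, mul_one]
    have h4 : B e (a • e + b • f) = b := by
      rw [map_add, _root_.map_smul, _root_.map_smul, hef, h.alt, smul_zero, zero_add, smul_eq_mul, mul_one]
    rw [h3, h4]

/-- an isometry of order `p` of an invariant nondegenerate plane -/
theorem plane_unip (h : NAlt B) {p : ℕ} (hp : p.Prime) [CharP F p] {t : ↥(Sp B)} (ht : ∀ v, t.1^[p] v = v)
    {A : Submodule F V} (hA : Nd B A) (h2 : finrank F A = 2) (hi : ∀ v ∈ A, t.1 v ∈ A)
    (hne : ∃ v ∈ A, t.1 v ≠ v) :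
    ∃ e ∈ A, e ≠ 0 ∧ ∃ c : F, c ≠ 0 ∧ (∀ v ∈ A, t.1 v = (tv h e c).1 v) ∧
      ∀ (L : SS B) (n : ℕ), L.IsLin → (∀ v ∈ A, L v ∈ A) → (∀ v, L (t.1 v) = t.1 (L v)) → (n : F) ≠ 0 →
        (∃ b : F, ∀ v, L^[n] v = b • v) → L.ScalOn A := by
  have hA0 : A ≠ ⊥ := by
    rintro rfl
    rw [finrank_bot] at h2
    omega
  obtain ⟨e, he, he0, hte⟩ := exists_fix hp ht hA0 hi
  obtain ⟨f, hf, hef, hdec⟩ := plane_basis h hA h2 he he0
  have hfe : B f e = -1 := by rw [h.swap, hef]
  obtain ⟨β, hβ⟩ : ∃ β : F, t.1 f = β • e + f := by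
    have h3 := hdec _ (hi f hf)
    have h4 : B e (t.1 f) = 1 := by
      rw [← hef, ← t.2 e f, hte]
    rw [h4, one_smul] at h3
    exact ⟨_, h3⟩
  have hact : ∀ v ∈ A, t.1 v = v + (β * B e v) • e := by
    intro v hv
    have h3 := hdec v hv
    have h5 : t.1 v = (B v f) • e + (B e v) • (β • e + f) := by
      conv_lhs => rw [h3]
      rw [_root_.map_add, _root_.map_smul, _root_.map_smul, hte, hβ]
    rw [h5]
    conv_rhs => rw [show v + (β * B e v) • e = ((B v f) • e + (B e v) • f) + (β * B e v) • e by rw [← h3]]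
    rw [smul_add, smul_smul, mul_comm β]
    abel
  have hβ0 : β ≠ 0 := by
    rintro rfl
    obtain ⟨v, hv, hv'⟩ := hne
    apply hv'
    rw [hact v hv, zero_mul, zero_smul, add_zero]
  refine ⟨e, he, he0, -β, neg_ne_zero.2 hβ0, ?_, ?_⟩
  · intro v hv
    rw [hact v hv, tv_apply, h.swap v e, neg_mul_neg]
  · intro L n hl hLA hLt hn hLn
    obtain ⟨b, hb⟩ := hLn
    -- L e = a e
    have h3 := hact _ (hLA e he)
    rw [← hLt, hte] at h3
    have h4 : B e (L e) = 0 := by
      have h5 : (β * B e (L e)) • e = 0 := by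
        have h6 := h3
        rw [eq_comm, add_eq_left] at h6
        exact h6
      rcases smul_eq_zero.1 h5 with h6 | h6
      · rcases mul_eq_zero.1 h6 with h7 | h7
        · exact absurd h7 hβ0
        · exact h7
      · exact absurd h6 he0
    obtain ⟨a, ha⟩ : ∃ a : F, L e = a • e := by
      have h5 := hdec _ (hLA e he)
      rw [h4, zero_smul, add_zero] at h5
      exact ⟨_, h5⟩
    have ha0 : a ≠ 0 := by
      rintro rfl
      rw [zero_smul] at ha
      apply he0
      apply L.injective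
      rw [ha, L.map_zero]
    obtain ⟨x, y, hxy⟩ : ∃ x y : F, L f = x • e + y • f := ⟨_, _, hdec _ (hLA f hf)⟩
    -- y = a
    have hya : y = a := by
      have h5 := hact _ (hLA f hf)
      rw [← hLt, hβ, L.map_add, hl.map_smul, ha, smul_smul, add_comm, add_right_inj] at h5
      have h6 : B e (L f) = y := by
        rw [hxy, map_add, _root_.map_smul, _root_.map_smul, h.alt, hef, smul_zero, zero_add, smul_eq_mul, mul_one]
      rw [h6] at h5
      have h7 : (β * a - β * y) • e = 0 := by rw [sub_smul, h5, sub_self]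
      rcases smul_eq_zero.1 h7 with h8 | h8
      · have h9 : β * (a - y) = 0 := by linear_combination h8
        rcases mul_eq_zero.1 h9 with h10 | h10
        · exact absurd h10 hβ0
        · exact (sub_eq_zero.1 h10).symm
      · exact absurd h8 he0
    subst hya
    have hLe : ∀ k : ℕ, L^[k] e = y ^ k • e := by
      intro k
      induction k with
      | zero => rw [pow_zero, one_smul]; rfl
      | succ k ih => rw [Function.iterate_succ_apply', ih, hl.map_smul, ha, smul_smul, pow_succ]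
    have hLf : ∀ k : ℕ, L^[k + 1] f = ((k + 1 : ℕ) * (y ^ k * x)) • e + y ^ (k + 1) • f := by
      intro k
      induction k with
      | zero =>
        show L f = _
        rw [hxy, pow_zero, zero_add, pow_one, Nat.cast_one, one_mul, one_mul]
      | succ k ih =>
        rw [Function.iterate_succ_apply', ih, L.map_add, hl.map_smul, hl.map_smul, ha, hxy, smul_add, smul_smul,
          smul_smul, smul_smul, ← add_assoc, ← add_smul, ← pow_succ]
        congr 2
        push_cast
        ring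
    have hx0 : x = 0 := by
      obtain ⟨k, rfl⟩ : ∃ k, n = k + 1 := by
        rcases n with _ | k
        · rw [Nat.cast_zero] at hn
          exact absurd rfl hn
        · exact ⟨k, rfl⟩
      have h5 := hLf k
      rw [hb] at h5
      have h6 := congrArg (fun v => B v f) h5
      simp only [map_add, LinearMap.add_apply, LinearMap.map_smul₂, h.alt, hef, smul_eq_mul, mul_one, mul_zero,
        add_zero] at h6
      have h7 : ((k + 1 : ℕ) : F) * (y ^ k * x) = 0 := h6.symm
      rcases mul_eq_zero.1 h7 with h8 | h8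
      · exact absurd h8 hn
      · rcases mul_eq_zero.1 h8 with h9 | h9
        · exact absurd h9 (pow_ne_zero k ha0)
        · exact h9
    refine ⟨y, ha0, fun v hv => ?_⟩
    have h5 := hdec v hv
    have h6 : L v = (B v f) • L e + (B e v) • L f := by
      conv_lhs => rw [h5]
      rw [L.map_add, hl.map_smul, hl.map_smul]
    rw [h6, ha, hxy, hx0, zero_smul, zero_add, smul_comm _ y, smul_comm _ y, ← smul_add, ← h5]

/-- prime orders of maps on a subspace -/
theorem ord_dvd [Finite F] {L : SS B} (hl : L.IsLin) {A : Submodule F V} (hi : ∀ v ∈ A, L v ∈ A) {r : ℕ}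
    (hr : r.Prime) (hb : ∃ b : F, b ≠ 0 ∧ ∀ v, L^[r] v = b • v) (hns : ¬ L.ScalOn A) :
    r ∣ Nat.card (A ≃ₗ[F] A) := by
  by_contra hnd
  have hco : r.Coprime (Nat.card (A ≃ₗ[F] A)) := (hr.coprime_iff_not_dvd).2 hnd
  apply hns
  let g0 : A →ₗ[F] A := (hl.lin : V →ₗ[F] V).restrict hi
  have hg0 : Function.Injective g0 := by
    intro u v huv
    apply Subtype.ext
    apply L.injective
    exact congrArg Subtype.val huv
  let g : A ≃ₗ[F] A := LinearEquiv.ofInjectiveEndo g0 hg0
  have hg : ∀ v : A, ((g v : A) : V) = L v := by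
    intro v
    rfl
  let Z : Subgroup (A ≃ₗ[F] A) :=
    { carrier := {g | ∃ b : F, b ≠ 0 ∧ ∀ v, g v = b • v}
      mul_mem' := by
        rintro a b ⟨c, hc, h1⟩ ⟨d, hd, h2⟩
        refine ⟨c * d, mul_ne_zero hc hd, fun v => ?_⟩
        show a (b v) = _
        rw [h2, _root_.map_smul, h1, smul_smul, mul_comm]
      one_mem' := ⟨1, one_ne_zero, fun v => by rw [one_smul]; rfl⟩
      inv_mem' := by
        rintro a ⟨c, hc, h1⟩
        refine ⟨c⁻¹, inv_ne_zero hc, fun v => ?_⟩
        apply a.injective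
        show a (a.symm v) = _
        rw [LinearEquiv.apply_symm_apply, _root_.map_smul, h1, smul_smul, inv_mul_cancel₀ hc, one_smul] }
  have hgr : g ^ r ∈ Z := by
    obtain ⟨b, hb0, hb⟩ := hb
    refine ⟨b, hb0, fun v => ?_⟩
    apply Subtype.ext
    have h1 : ∀ n : ℕ, (((g ^ n) v : A) : V) = L^[n] v := by
      intro n
      induction n with
      | zero => rfl
      | succ n ih =>
        rw [pow_succ', Function.iterate_succ_apply', ← ih]
        exact hg _
    rw [h1, hb]
    rfl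
  have hgn : g ^ (Nat.card (A ≃ₗ[F] A)) = 1 := pow_card_eq_one'
  have hgZ : g ∈ Z := by
    have h1 := Nat.gcd_eq_gcd_ab r (Nat.card (A ≃ₗ[F] A))
    rw [hco.gcd_eq_one] at h1
    have h2 : g = (g ^ r) ^ (Nat.gcdA r (Nat.card (A ≃ₗ[F] A))) := by
      have h3 : g ^ ((1 : ℕ) : ℤ) = g := by simp
      conv_lhs => rw [← h3, h1, zpow_add, zpow_mul, zpow_mul, zpow_natCast, zpow_natCast, hgn, one_zpow, mul_one]
    rw [h2]
    exact Z.zpow_mem hgr _
  obtain ⟨b, hb0, hb⟩ := hgZ
  refine ⟨b, hb0, fun v hv => ?_⟩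
  have h1 := congrArg Subtype.val (hb ⟨v, hv⟩)
  rw [hg] at h1
  exact h1

omit [FiniteDimensional F V] in
theorem card_plane [Finite F] (h5 : Nat.card F = 5) {A : Submodule F V} (h2 : finrank F A = 2) :
    Nat.card (A ≃ₗ[F] A) = 480 := by
  classical
  have := Fintype.ofFinite F
  have : FiniteDimensional F A := FiniteDimensional.of_finrank_pos (by omega)
  let e : A ≃ₗ[F] (Fin 2 → F) := LinearEquiv.ofFinrankEq _ _ (by rw [h2]; simp)
  have h1 : Nat.card (A ≃ₗ[F] A) = Nat.card (GL (Fin 2) F) := by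
    refine Nat.card_congr ((LinearMap.GeneralLinearGroup.generalLinearEquiv F A).symm.trans
      ((LinearMap.GeneralLinearGroup.congrLinearEquiv e).trans Matrix.GeneralLinearGroup.toLin.symm)).toEquiv
  rw [h1, Matrix.card_GL_field, ← Nat.card_eq_fintype_card, h5, Fin.prod_univ_two]
  norm_num

theorem ord_five [Finite F] (h5 : Nat.card F = 5) {L : SS B} (hl : L.IsLin) {A : Submodule F V}
    (h2 : finrank F A = 2) (hi : ∀ v ∈ A, L v ∈ A) {r : ℕ} (hr : r.Prime) (hr5 : r.Coprime (Nat.card F))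
    (hb : ∃ b : F, b ≠ 0 ∧ ∀ v, L^[r] v = b • v) (hns : ¬ L.ScalOn A) : r = 2 ∨ r = 3 := by
  have h1 := ord_dvd hl hi hr hb hns
  rw [card_plane h5 h2, show 480 = 2 ^ 5 * 3 * 5 by norm_num] at h1
  rw [h5] at hr5
  rcases (Nat.Prime.dvd_mul hr).1 h1 with h3 | h3
  · rcases (Nat.Prime.dvd_mul hr).1 h3 with h4 | h4
    · left
      exact (Nat.prime_dvd_prime_iff_eq hr Nat.prime_two).1 (hr.dvd_of_dvd_pow h4)
    · right
      exact (Nat.prime_dvd_prime_iff_eq hr Nat.prime_three).1 h4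
  · exfalso
    have h4 := (Nat.prime_dvd_prime_iff_eq hr Nat.prime_five).1 h3
    rw [h4] at hr5
    norm_num at hr5

end plane

end Cfsg.Agent.H810.RC
end

-- part: H810/RC/Core
section
/-!
# S3510, row D, box D7b: the case distinction for linear lifts, `q` odd (helper810)

`dead_lin_core` : the contradiction from the boxes D1 (`lr_tv`), D3 (`dead_D`), D4 (`dead_dec`), D5 (`m_rule_K`),
D6 (`dead_sym`, `dead_her`), D7a (`four_cases`), which are hypotheses here (instances for the given family).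
-/

set_option autoImplicit false
open Cfsg

namespace Cfsg.Agent.H810.RC

open MulAction Module Cfsg.Agent.H106.RC Cfsg.Agent.H520.RC Cfsg.Agent.H727.GW

variable {F : Type} {V : Type} [Field F] [Finite F] [AddCommGroup V] [Module F V] [FiniteDimensional F V]
  {B : LinearMap.BilinForm F V} {G : Type} [Group G] {Ω : Type} [Nonempty Ω] [MulAction G Ω]
  {N : Subgroup G} {ρ : ↥(Sp B) →* G} {ι : Type} {x : ι → G} {r : ι → ℕ} {M : ι → SS B}

omit [Finite F] [Nonempty Ω] in
/-- the members commute exactly -/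
theorem comm_all (E : SpEnv Ω N ρ) (hx : PF x r) (hM : ∀ i, Lf ρ (x i) (M i)) (hl : ∀ i, (M i).IsLin) (i j : ι)
    (v : V) : M i (M j v) = M j (M i v) := by
  by_cases hij : i = j
  · rw [hij]
  · exact comm_lf E (hM i) (hM j) (hl i) (hl j) (hx.comm i j)
      ((Nat.coprime_primes (hx.prime i) (hx.prime j)).2 fun h => hij (hx.inj h)) (hx.pow i) (hx.pow j) v

/-- the prime of the field -/
theorem charP_of (hx : PF x r) {i : ι} (hi : ¬ (r i).Coprime (Nat.card F)) : CharP F (r i) := by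
  have := Fintype.ofFinite F
  obtain ⟨p, hp⟩ := CharP.exists F
  obtain ⟨n, hpp, hc⟩ := FiniteField.card F p
  rw [Nat.card_eq_fintype_card, hc] at hi
  have h1 : r i ∣ p ^ (n : ℕ) := by
    by_contra h
    exact hi (((hx.prime i).coprime_iff_not_dvd).2 h)
  have h2 : r i = p := (Nat.prime_dvd_prime_iff_eq (hx.prime i) hpp).1 ((hx.prime i).dvd_of_dvd_pow h1)
  rw [h2]
  exact hp

theorem cast_ne {p : ℕ} [CharP F p] {n : ℕ} (hn : n.Coprime (Nat.card F)) (hp : p.Prime) : (n : F) ≠ 0 := by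
  intro h
  rw [CharP.cast_eq_zero_iff F p] at h
  have := Fintype.ofFinite F
  obtain ⟨q, hq⟩ := CharP.exists F
  obtain ⟨m, hqp, hc⟩ := FiniteField.card F q
  have h1 : p = q := CharP.eq F ‹CharP F p› hq
  subst h1
  rw [Nat.card_eq_fintype_card, hc] at hn
  have h2 : p ∣ n.gcd (p ^ (m : ℕ)) := Nat.dvd_gcd h (dvd_pow_self p m.pos.ne')
  rw [hn.gcd_eq_one] at h2
  exact hp.one_lt.ne' (Nat.dvd_one.1 h2)

omit [Nonempty Ω] in
/-- case (i): an invariant nondegenerate subspace -/
theorem case_dec (E : SpEnv Ω N ρ) (h2 : (2 : F) ≠ 0) (hx : PF x r) (hcov : Cov Ω x)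
    (hM : ∀ i, Lf ρ (x i) (M i)) (hl : ∀ i, (M i).IsLin)
    (hex : ¬ (Nat.card F = 3 ∧ finrank F V = 4))
    (h5 : Nat.card F = 5 → finrank F V = 4 → ∀ i j, r i = 2 → r j = 3 → False)
    (bLR : ∀ (i0 : ι) (e : V) (c : F), e ≠ 0 → c ≠ 0 →
      (∀ ω : Ω, ρ (tv E.form e c) • ω = ω ∨ ∃ i, i ≠ i0 ∧ x i • ω = ω) →
      (∀ i, i ≠ i0 → ∃ a : F, M i e = a • e) → (∀ i, i ≠ i0 → (r i).Coprime (Nat.card F)) → False)
    (bDec : ∀ A : Submodule F V, A ≠ ⊥ → A ≠ ⊤ → (∀ a ∈ A, (∀ b ∈ A, B a b = 0) → a = 0) →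
      (∀ i, ∀ v ∈ A, M i v ∈ A) → (∀ i, ¬ (r i).Coprime (Nat.card F) → ¬ (M i).ScalOn A) →
      (4 ≤ finrank F A ∨ 5 < Nat.card F ∨
        (3 < Nat.card F ∧ ∀ i j, ¬ (M i).ScalOn A → ¬ (M j).ScalOn A → i = j)) → False)
    {A : Submodule F V} (hA0 : A ≠ ⊥) (hA1 : A ≠ ⊤) (hA : Nd B A) (hi : ∀ i, ∀ v ∈ A, M i v ∈ A) : False := by
  have hcard : 3 ≤ Nat.card F := by
    have := Fintype.ofFinite F
    have h0 : 1 < Nat.card F := Finite.one_lt_card
    by_contra hlt
    have h3 : Nat.card F = 2 := by omega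
    rw [Nat.card_eq_fintype_card] at h3
    apply h2
    have h4 := FiniteField.cast_card_eq_zero F
    rw [h3] at h4
    exact_mod_cast h4
  have hodd : Nat.card F ≠ 4 := by
    intro h4
    have := Fintype.ofFinite F
    rw [Nat.card_eq_fintype_card] at h4
    have h5 := FiniteField.cast_card_eq_zero F
    rw [h4] at h5
    have h6 : (2 : F) * 2 = 0 := by
      have : ((4 : ℕ) : F) = 2 * 2 := by norm_num
      rw [← this, h5]
    rcases mul_eq_zero.1 h6 with h7 | h7 <;> exact h2 h7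
  -- the two summands
  have hdim := E.dim
  have hAe := even_nd E.form hA
  have hBn := nd_orth E.form hA
  have hBe := even_nd E.form hBn
  have hsum := finrank_orth E.form hA
  have hB0 := orth_ne_bot E.form hA hA1
  have hB1 := orth_ne_top E.form hA hA0
  have hBi : ∀ i, ∀ v ∈ B.orthogonal A, M i v ∈ B.orthogonal A := fun i => inv_orth E.form (hl i) (hi i)
  have hpos : ∀ {W : Submodule F V}, W ≠ ⊥ → 0 < finrank F W := fun {W} hW => by
    rw [Nat.pos_iff_ne_zero]
    intro h0
    exact hW (Submodule.finrank_eq_zero.1 h0)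
  have hA2 : 2 ≤ finrank F A := by
    have := hpos hA0
    obtain ⟨k, hk⟩ := hAe
    omega
  have hB2 : 2 ≤ finrank F (B.orthogonal A) := by
    have := hpos hB0
    obtain ⟨k, hk⟩ := hBe
    omega
  have hpow : ∀ i, ∃ b : F, b ≠ 0 ∧ ∀ v, (M i)^[r i] v = b • v := fun i => E.pow_scal (hM i) (hx.pow i)
  -- (K2) a plane when `dim V = 4`
  have K2 : finrank F V = 4 → ∀ W : Submodule F V, W ≠ ⊥ → W ≠ ⊤ → Nd B W → (∀ i, ∀ v ∈ W, M i v ∈ W) →
      finrank F W = 2 → (∀ i, ¬ (r i).Coprime (Nat.card F) → ¬ (M i).ScalOn W) → False := by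
    intro h4 W hW0 hW1 hW hWi hWd hWu
    have hF3 : 3 < Nat.card F := by
      rcases lt_or_eq_of_le hcard with h | h
      · exact h
      · exact absurd ⟨h.symm, h4⟩ hex
    by_cases h6 : 5 < Nat.card F
    · exact bDec W hW0 hW1 hW hWi hWu (Or.inr (Or.inl h6))
    have hF5 : Nat.card F = 5 := by omega
    refine bDec W hW0 hW1 hW hWi hWu (Or.inr (Or.inr ⟨hF3, ?_⟩))
    by_cases hu : ∃ i0, ¬ (r i0).Coprime (Nat.card F)
    · obtain ⟨i0, hi0⟩ := hu
      have : CharP F (r i0) := charP_of hx hi0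
      obtain ⟨t, c, hc, hMt, hxt, htp⟩ := exists_unip E (hx.prime i0) (hM i0) (hl i0) (hx.pow i0)
      have hti : ∀ v ∈ W, t.1 v ∈ W := by
        intro v hv
        have h7 := W.smul_mem c⁻¹ (hWi i0 v hv)
        rw [hMt, smul_smul, inv_mul_cancel₀ hc, one_smul] at h7
        exact h7
      have hne : ∃ v ∈ W, t.1 v ≠ v := by
        by_contra hno
        push Not at hno
        apply hWu i0 hi0
        refine ⟨c, hc, fun v hv => ?_⟩
        rw [hMt, hno v hv]
      obtain ⟨e, -, -, c', -, -, hsc⟩ := plane_unip E.form (hx.prime i0) htp hW hWd hti hne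
      have key : ∀ j, j ≠ i0 → (M j).ScalOn W := by
        intro j hj
        refine hsc (M j) (r j) (hl j) (hWi j) ?_ ?_ ?_
        · intro v
          have h7 := comm_all E hx hM hl i0 j v
          rw [hMt, hMt, (hl j).map_smul] at h7
          have h8 := congrArg (fun w => c⁻¹ • w) h7
          simp only [smul_smul, inv_mul_cancel₀ hc, one_smul] at h8
          exact h8.symm
        · have hco : (r j).Coprime (Nat.card F) := by
            by_contra hno
            have h9 := charP_of hx hno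
            exact hj (hx.inj (CharP.eq F h9 this))
          exact cast_ne hco (hx.prime i0)
        · obtain ⟨b, -, hb⟩ := hpow j
          exact ⟨b, hb⟩
      intro i j hni hnj
      have h7 : i = i0 := by
        by_contra h
        exact hni (key i h)
      have h8 : j = i0 := by
        by_contra h
        exact hnj (key j h)
      rw [h7, h8]
    · push Not at hu
      intro i j hni hnj
      have h7 := ord_five hF5 (hl i) hWd (hWi i) (hx.prime i) (hu i) (hpow i) hni
      have h8 := ord_five hF5 (hl j) hWd (hWi j) (hx.prime j) (hu j) (hpow j) hnj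
      apply hx.inj
      rcases h7 with h7 | h7 <;> rcases h8 with h8 | h8
      · rw [h7, h8]
      · exact (h5 hF5 h4 i j h7 h8).elim
      · exact (h5 hF5 h4 j i h8 h7).elim
      · rw [h7, h8]
  -- both summands admissible
  have K12 : (∀ i, ¬ (r i).Coprime (Nat.card F) → ¬ (M i).ScalOn A) →
      (∀ i, ¬ (r i).Coprime (Nat.card F) → ¬ (M i).ScalOn (B.orthogonal A)) → False := by
    intro hu1 hu2
    by_cases h4 : 4 ≤ finrank F A
    · exact bDec A hA0 hA1 hA hi hu1 (Or.inl h4)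
    by_cases h4' : 4 ≤ finrank F (B.orthogonal A)
    · exact bDec _ hB0 hB1 hBn hBi hu2 (Or.inl h4')
    obtain ⟨k, hk⟩ := hAe
    obtain ⟨k', hk'⟩ := hBe
    exact K2 (by omega) A hA0 hA1 hA hi (by omega) hu1
  by_cases hu : ∃ i0, ¬ (r i0).Coprime (Nat.card F)
  swap
  · push Not at hu
    exact K12 (fun i h => absurd (hu i) h) (fun i h => absurd (hu i) h)
  obtain ⟨i0, hi0⟩ := hu
  have hcp : CharP F (r i0) := charP_of hx hi0
  obtain ⟨t, c, hc, hMt, hxt, htp⟩ := exists_unip E (hx.prime i0) (hM i0) (hl i0) (hx.pow i0)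
  have honly : ∀ j, j ≠ i0 → (r j).Coprime (Nat.card F) := by
    intro j hj
    by_contra hno
    have h9 := charP_of hx hno
    exact hj (hx.inj (CharP.eq F h9 hcp))
  have htc : ∀ j v, (M j) (t.1 v) = t.1 (M j v) := by
    intro j v
    have h7 := comm_all E hx hM hl i0 j v
    rw [hMt, hMt, (hl j).map_smul] at h7
    have h8 := congrArg (fun w => c⁻¹ • w) h7
    simp only [smul_smul, inv_mul_cancel₀ hc, one_smul] at h8
    exact h8.symm
  -- one summand on which `u` is a scalar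
  have key : ∀ W : Submodule F V, W ≠ ⊥ → W ≠ ⊤ → Nd B W → (∀ i, ∀ v ∈ W, M i v ∈ W) →
      ¬ (M i0).ScalOn W → (M i0).ScalOn (B.orthogonal W) → False := by
    intro W hW0 hW1 hW hWi hns hs
    have hev := even_nd E.form hW
    have hWu : ∀ i, ¬ (r i).Coprime (Nat.card F) → ¬ (M i).ScalOn W := by
      intro i hi
      by_cases h : i = i0
      · rw [h]; exact hns
      · exact absurd (honly i h) hi
    by_cases h4 : 4 ≤ finrank F W
    · exact bDec W hW0 hW1 hW hWi hWu (Or.inl h4)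
    have hWd : finrank F W = 2 := by
      have := hpos hW0
      obtain ⟨k, hk⟩ := hev
      omega
    have hti : ∀ v ∈ W, t.1 v ∈ W := by
      intro v hv
      have h7 := W.smul_mem c⁻¹ (hWi i0 v hv)
      rw [hMt, smul_smul, inv_mul_cancel₀ hc, one_smul] at h7
      exact h7
    have hne : ∃ v ∈ W, t.1 v ≠ v := by
      by_contra hno
      push Not at hno
      apply hns
      refine ⟨c, hc, fun v hv => ?_⟩
      rw [hMt, hno v hv]
    obtain ⟨e, he, he0, c', hc', htv, hsc⟩ := plane_unip E.form (hx.prime i0) htp hW hWd hti hne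
    have hscal : ∀ j, j ≠ i0 → (M j).ScalOn W := by
      intro j hj
      refine hsc (M j) (r j) (hl j) (hWi j) (htc j) (cast_ne (honly j hj) (hx.prime i0)) ?_
      obtain ⟨b, -, hb⟩ := hpow j
      exact ⟨b, hb⟩
    -- `t = 1` on the complement
    have ht1 : ∀ v ∈ B.orthogonal W, t.1 v = v := by
      obtain ⟨a, ha, hsa⟩ := hs
      have h7 : ∀ v ∈ B.orthogonal W, t.1 v = (c⁻¹ * a) • v := by
        intro v hv
        have h8 := hsa v hv
        rw [hMt] at h8
        rw [mul_smul, ← h8, smul_smul, inv_mul_cancel₀ hc, one_smul]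
      have h8 : ∀ (n : ℕ) (v : V), v ∈ B.orthogonal W → t.1^[n] v = (c⁻¹ * a) ^ n • v := by
        intro n
        induction n with
        | zero => intro v _; rw [pow_zero, one_smul]; rfl
        | succ n ih =>
          intro v hv
          rw [Function.iterate_succ_apply, h7 v hv, iter_smul (fun a v => _root_.map_smul t.1 a v), ih v hv,
            smul_smul, pow_succ']
      obtain ⟨v, hv, hv0⟩ := Submodule.exists_mem_ne_zero_of_ne_bot (orth_ne_bot E.form hW hW1)
      have h9 : (c⁻¹ * a) ^ (r i0) = 1 := by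
        have h10 := h8 (r i0) v hv
        rw [htp] at h10
        have h11 : ((c⁻¹ * a) ^ (r i0) - 1) • v = 0 := by rw [sub_smul, one_smul, ← h10, sub_self]
        rcases smul_eq_zero.1 h11 with h12 | h12
        · exact sub_eq_zero.1 h12
        · exact absurd h12 hv0
      have : Fact (r i0).Prime := ⟨hx.prime i0⟩
      have h10 : c⁻¹ * a = 1 := by
        apply frobenius_inj F (r i0)
        show (c⁻¹ * a) ^ (r i0) = 1 ^ (r i0)
        rw [h9, one_pow]
      intro v hv
      rw [h7 v hv, h10, one_smul]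
    have htt : t = tv E.form e c' := by
      apply Subtype.ext
      apply LinearEquiv.ext
      intro v
      obtain ⟨a, ha, b, hb, rfl⟩ := decomp E.form hW v
      rw [_root_.map_add, _root_.map_add, htv a ha, ht1 b hb]
      congr 1
      rw [tv_apply, (mem_orth E.form).1 hb e he, mul_zero, zero_smul, add_zero]
    refine bLR i0 e c' he0 hc' ?_ ?_ honly
    · intro ω
      obtain ⟨i, hi⟩ := hcov ω
      by_cases h : i = i0
      · left
        rw [← htt, ← hxt, ← h]
        exact hi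
      · right
        exact ⟨i, h, hi⟩
    · intro i hi
      obtain ⟨a, -, ha⟩ := hscal i hi
      exact ⟨a, ha e he⟩
  have hu1 : ∀ W : Submodule F V, ¬ (M i0).ScalOn W → ∀ i, ¬ (r i).Coprime (Nat.card F) → ¬ (M i).ScalOn W := by
    intro W hns i hi
    by_cases h : i = i0
    · rw [h]; exact hns
    · exact absurd (honly i h) hi
  by_cases hsA : (M i0).ScalOn A
  · by_cases hsB : (M i0).ScalOn (B.orthogonal A)
    · -- `t` would be trivial
      have h7 : ∀ W : Submodule F V, W ≠ ⊥ → (M i0).ScalOn W → ∀ v ∈ W, t.1 v = v := by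
        intro W hW0 hs
        obtain ⟨a, ha, hsa⟩ := hs
        have h7 : ∀ v ∈ W, t.1 v = (c⁻¹ * a) • v := by
          intro v hv
          have h8 := hsa v hv
          rw [hMt] at h8
          rw [mul_smul, ← h8, smul_smul, inv_mul_cancel₀ hc, one_smul]
        have h8 : ∀ (n : ℕ) (v : V), v ∈ W → t.1^[n] v = (c⁻¹ * a) ^ n • v := by
          intro n
          induction n with
          | zero => intro v _; rw [pow_zero, one_smul]; rfl
          | succ n ih =>
            intro v hv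
            rw [Function.iterate_succ_apply, h7 v hv, iter_smul (fun a v => _root_.map_smul t.1 a v), ih v hv,
              smul_smul, pow_succ']
        obtain ⟨v, hv, hv0⟩ := Submodule.exists_mem_ne_zero_of_ne_bot hW0
        have h9 : (c⁻¹ * a) ^ (r i0) = 1 := by
          have h10 := h8 (r i0) v hv
          rw [htp] at h10
          have h11 : ((c⁻¹ * a) ^ (r i0) - 1) • v = 0 := by rw [sub_smul, one_smul, ← h10, sub_self]
          rcases smul_eq_zero.1 h11 with h12 | h12
          · exact sub_eq_zero.1 h12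
          · exact absurd h12 hv0
        have : Fact (r i0).Prime := ⟨hx.prime i0⟩
        have h10 : c⁻¹ * a = 1 := by
          apply frobenius_inj F (r i0)
          show (c⁻¹ * a) ^ (r i0) = 1 ^ (r i0)
          rw [h9, one_pow]
        intro v hv
        rw [h7 v hv, h10, one_smul]
      apply hx.ne i0
      rw [E.eq_one_iff (hM i0)]
      refine ⟨c, hc, fun v => ?_⟩
      obtain ⟨a, ha, b, hb, rfl⟩ := decomp E.form hA v
      rw [hMt, _root_.map_add, h7 A hA0 hsA a ha, h7 _ hB0 hsB b hb]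
    · refine key _ hB0 hB1 hBn hBi hsB ?_
      -- the double complement
      have h8 : B.orthogonal (B.orthogonal A) = A := by
        symm
        apply Submodule.eq_of_le_of_finrank_eq
        · intro a ha
          rw [mem_orth E.form]
          intro b hb
          exact E.form.swap0 ((mem_orth E.form).1 hb a ha)
        · have h9 := finrank_orth E.form hBn
          omega
      rw [h8]
      exact hsA
  · by_cases hsB : (M i0).ScalOn (B.orthogonal A)
    · exact key A hA0 hA1 hA hi hsA hsB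
    · exact K12 (hu1 A hsA) (hu1 _ hsB)

omit [Finite F] [FiniteDimensional F V] in
/-- a polynomial in a self-adjoint map is self-adjoint -/
theorem aeval_adj {θ : Module.End F V} (hθs : ∀ u v, B (θ u) v = B u (θ v)) (P : Polynomial F) (u v : V) :
    B (Polynomial.aeval θ P u) v = B u (Polynomial.aeval θ P v) := by
  have hpow : ∀ (n : ℕ) (u v : V), B ((θ ^ n) u) v = B u ((θ ^ n) v) := by
    intro n
    induction n with
    | zero => intro u v; rfl
    | succ n ih =>
      intro u v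
      rw [pow_succ, Module.End.mul_apply, ih, hθs]
      rw [← Module.End.mul_apply, ← pow_succ', pow_succ]
  induction P using Polynomial.induction_on' with
  | add P Q hP hQ =>
    rw [map_add, LinearMap.add_apply, LinearMap.add_apply, map_add, LinearMap.add_apply, map_add, hP, hQ]
  | monomial n a =>
    rw [Polynomial.aeval_monomial, Module.End.mul_apply, Module.End.mul_apply, Module.algebraMap_end_apply,
      Module.algebraMap_end_apply, LinearMap.map_smul₂, _root_.map_smul, hpow]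

omit [Finite F] in
/-- case (ii): a field of self-adjoint operators -/
theorem case_K (E : SpEnv Ω N ρ) (hx : PF x r) (hcov : Cov Ω x)
    (hM : ∀ i, Lf ρ (x i) (M i)) (hl : ∀ i, (M i).IsLin)
    (θ : Module.End F V) (hθs : ∀ u v, B (θ u) v = B u (θ v)) (hθ : Irreducible (minpoly F θ))
    (hcm : ∀ i v, M i (θ v) = θ (M i v))
    (bK : ∀ ω : Ω, (∀ t : ↥(Sp B), (∀ v, t.1 (θ v) = θ (t.1 v)) → ρ t • ω = ω) ∨
      ∃ i, (∃ P : Polynomial F, ∀ v, M i v = Polynomial.aeval θ P v) ∧ x i • ω = ω)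
    (bSym : ∀ (i0 : ι) (δ : F), ¬ IsSquare δ → (∀ v, M i0 (M i0 v) = δ • v) → (M i0).l = δ → False) : False := by
  -- members in the field
  by_cases hJ : ∃ i, ∃ P : Polynomial F, ∀ v, M i v = Polynomial.aeval θ P v
  · obtain ⟨i, P, hP⟩ := hJ
    have hsq : ∀ v, M i (M i v) = (M i).l • v := by
      intro v
      have h1 : ∀ u, B u (M i (M i v) - (M i).l • v) = 0 := by
        intro u
        have h3 : B (M i u) (M i v) = B u (M i (M i v)) := by
          rw [hP u, aeval_adj hθs P u (M i v), ← hP]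
        rw [map_sub, _root_.map_smul, smul_eq_mul, ← h3, (hl i).form, sub_self]
      exact sub_eq_zero.1 (E.form.nd' _ h1)
    refine bSym i _ ?_ hsq rfl
    rintro ⟨a, ha⟩
    have h1 : Polynomial.aeval θ ((P - Polynomial.C a) * (P + Polynomial.C a)) = 0 := by
      apply LinearMap.ext
      intro v
      have h2 : (P - Polynomial.C a) * (P + Polynomial.C a) = P * P - Polynomial.C (a * a) := by
        rw [Polynomial.C_mul]; ring
      rw [h2, map_sub, map_mul, Polynomial.aeval_C, LinearMap.sub_apply, Module.End.mul_apply,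
        Module.algebraMap_end_apply, ← hP, ← hP, hsq, ha, sub_self]
      rfl
    have h2 : minpoly F θ ∣ (P - Polynomial.C a) * (P + Polynomial.C a) := minpoly.dvd F θ h1
    have hscal : ∀ b : F, b * b = a * a → (∀ v, M i v = b • v) → False := by
      intro b hb h
      apply hx.ne i
      rw [E.eq_one_iff (hM i)]
      refine ⟨b, ?_, h⟩
      rintro rfl
      rw [mul_zero] at hb
      exact (M i).hl (by rw [ha, ← hb])
    rcases hθ.prime.dvd_or_dvd h2 with h3 | h3
    · obtain ⟨R, hR⟩ := h3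
      refine hscal a rfl fun v => ?_
      have h4 : Polynomial.aeval θ (P - Polynomial.C a) = 0 := by rw [hR, map_mul, minpoly.aeval, zero_mul]
      have h5 := LinearMap.congr_fun h4 v
      rw [map_sub, Polynomial.aeval_C, LinearMap.sub_apply, Module.algebraMap_end_apply, LinearMap.zero_apply,
        sub_eq_zero] at h5
      rw [hP, h5]
    · obtain ⟨R, hR⟩ := h3
      refine hscal (-a) (by ring) fun v => ?_
      have h4 : Polynomial.aeval θ (P + Polynomial.C a) = 0 := by rw [hR, map_mul, minpoly.aeval, zero_mul]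
      have h5 := LinearMap.congr_fun h4 v
      rw [map_add, Polynomial.aeval_C, LinearMap.add_apply, Module.algebraMap_end_apply, LinearMap.zero_apply,
        add_eq_zero_iff_eq_neg] at h5
      rw [hP, h5, neg_smul]
  · have hall : ∀ ω : Ω, ∀ t : ↥(Sp B), (∀ v, t.1 (θ v) = θ (t.1 v)) → ρ t • ω = ω := by
      intro ω
      rcases bK ω with h | ⟨i, h, -⟩
      · exact h
      · exact absurd ⟨i, h⟩ hJ
    by_cases h2 : ∃ k, r k ≠ 2
    · obtain ⟨k, hk⟩ := h2
      have hl0 := (M k).hl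
      let t0 : V ≃ₗ[F] V := ((hl k).lin.trans (hl k).lin).trans
        (LinearEquiv.smulOfUnit (Units.mk0 (M k).l⁻¹ (inv_ne_zero hl0)))
      have ht0 : ∀ v, t0 v = (M k).l⁻¹ • M k (M k v) := fun v => rfl
      have htm : t0 ∈ Sp B := by
        intro u v
        rw [ht0, ht0, _root_.map_smul, LinearMap.map_smul₂, (hl k).form, (hl k).form, smul_eq_mul, smul_eq_mul]
        field_simp
      have h3 : x k * x k = ρ ⟨t0, htm⟩ := by
        refine E.eq_of_lf ((hM k).mul (hM k)) hl0 fun v => ?_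
        show M k (M k v) = (M k).l • t0 v
        rw [ht0, smul_smul, mul_inv_cancel₀ hl0, one_smul]
      have h4 : ∀ v, t0 (θ v) = θ (t0 v) := by
        intro v
        rw [ht0, ht0, hcm, hcm, _root_.map_smul]
      have h5 : x k * x k = 1 := by
        apply E.env.single
        intro ω
        rw [h3]
        exact hall ω _ h4
      rw [← pow_two] at h5
      have h6 : orderOf (x k) ∣ 2 := orderOf_dvd_of_pow_eq_one h5
      have h7 : orderOf (x k) ∣ r k := orderOf_dvd_of_pow_eq_one (hx.pow k)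
      rcases (Nat.dvd_prime (hx.prime k)).1 h7 with h8 | h8
      · exact hx.ne k (orderOf_eq_one_iff.1 h8)
      · rw [h8] at h6
        rcases (Nat.dvd_prime Nat.prime_two).1 h6 with h9 | h9
        · exact (hx.prime k).one_lt.ne' h9
        · exact hk h9
    · push Not at h2
      obtain ⟨ω0⟩ := (inferInstance : Nonempty Ω)
      obtain ⟨k, -⟩ := hcov ω0
      apply hx.ne k
      apply E.env.single
      intro ω
      obtain ⟨i, hi⟩ := hcov ω
      have h3 : i = k := hx.inj (by rw [h2 i, h2 k])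
      rw [← h3]
      exact hi

end Cfsg.Agent.H810.RC
end

-- part: H579/RC/DeadSym
section
/-!
# S3510, row D: the case (SYM) (helper579)
-/

set_option autoImplicit false
set_option linter.unusedSimpArgs false
open Cfsg

namespace Cfsg.Agent.H579.RC

open MulAction Module Cfsg.Agent.H106.RC Cfsg.Agent.H520.RC

section lin

variable {F V : Type*} [Field F] [AddCommGroup V] [Module F V] {B : LinearMap.BilinForm F V}

/-- a hyperbolic partner of `e`, orthogonal to `f` -/
theorem exists_partner (h : NAlt B) {e f : V} (hef : ∀ s : F, e ≠ s • f) : ∃ e', B e e' = 1 ∧ B f e' = 0 := by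
  have h1 : ∃ g, B f g = 0 ∧ B e g ≠ 0 := by
    by_contra hno
    push Not at hno
    by_cases hf : f = 0
    · apply hef 0
      rw [zero_smul]
      apply h.nd
      intro y
      apply hno
      rw [hf]; simp
    · obtain ⟨g, hg⟩ := h.exists_ne hf
      apply hef (B e g * (B f g)⁻¹)
      rw [← sub_eq_zero]
      apply h.nd
      intro y
      have h2 := hno (y - (B f y * (B f g)⁻¹) • g) (by
        rw [map_sub, map_smul, smul_eq_mul, mul_assoc, inv_mul_cancel₀ hg, mul_one, sub_self])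
      rw [map_sub, map_smul, smul_eq_mul] at h2
      rw [map_sub, LinearMap.sub_apply, map_smul, LinearMap.smul_apply, smul_eq_mul]
      linear_combination h2
  obtain ⟨g, hg, hg1⟩ := h1
  refine ⟨(B e g)⁻¹ • g, ?_, ?_⟩
  · rw [map_smul, smul_eq_mul, inv_mul_cancel₀ hg1]
  · rw [map_smul, hg, smul_zero]

/-- the diagonal element `(b, b⁻¹)`, `b = α + β θ`, of the hyperbolic plane `⟨e, e'⟩` over `F[θ]` -/
theorem exists_dg (h : NAlt B) (h2 : (2 : F) ≠ 0) {θ : V →ₗ[F] V} {δ : F} (hδ : δ ≠ 0) (hsq : ∀ v, θ (θ v) = δ • v)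
    (hθs : ∀ u v, B (θ u) v = B u (θ v)) {e e' : V} (h1 : B e e' = 1) (h0 : B (θ e) e' = 0) {α β : F}
    (hN : α * α - δ * β * β ≠ 0) :
    ∃ y : Sp B, (∀ v, y.1 (θ v) = θ (y.1 v)) ∧ y.1 e = α • e + β • θ e := by
  have hself : ∀ v, B v (θ v) = 0 := by
    intro v
    have h3 : B v (θ v) = - B v (θ v) := (hθs v v).symm.trans (h.swap _ _)
    have h4 : (2 : F) * B v (θ v) = 0 := by linear_combination h3
    exact (mul_eq_zero.1 h4).resolve_left h2
  have hself' : ∀ v, B (θ v) v = 0 := fun v => by rw [hθs]; exact hself v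
  have h1' : B e' e = -1 := by rw [h.swap, h1]
  have h0a : B e (θ e') = 0 := by rw [← hθs, h0]
  have h0b : B e' (θ e) = 0 := h.swap0 h0
  have h0c : B (θ e') e = 0 := h.swap0 h0a
  have h5 : B (θ e) (θ e') = δ := by rw [hθs, hsq, map_smul, h1, smul_eq_mul, mul_one]
  have h5' : B (θ e') (θ e) = -δ := by rw [h.swap, h5]
  -- the maps
  let f : F → F → F → F → V → V := fun α β α' β' v =>
    v + ((α - 1) * B v e' + β * B v (θ e')) • e + (β * B v e' + (α - 1) * (δ⁻¹ * B v (θ e'))) • θ e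
      + (-((α' - 1) * B v e) - β' * B v (θ e)) • e' + (-(β' * B v e) - (α' - 1) * (δ⁻¹ * B v (θ e))) • θ e'
  have hf : ∀ α β α' β' v, f α β α' β' v =
    v + ((α - 1) * B v e' + β * B v (θ e')) • e + (β * B v e' + (α - 1) * (δ⁻¹ * B v (θ e'))) • θ e
      + (-((α' - 1) * B v e) - β' * B v (θ e)) • e' + (-(β' * B v e) - (α' - 1) * (δ⁻¹ * B v (θ e))) • θ e' :=
    fun _ _ _ _ _ => rfl
  have fa : ∀ α β α' β' v, B (f α β α' β' v) e' = α * B v e' + β * B v (θ e') := by
    intro α β α' β' v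
    rw [hf]
    simp only [map_add, LinearMap.add_apply, map_smul, LinearMap.smul_apply, smul_eq_mul, h.alt, h1, h0, h0a, h0b, h0c,
      hself', hself, h5, h5', h1']
    ring
  have fc : ∀ α β α' β' v, B (f α β α' β' v) (θ e') = δ * β * B v e' + α * B v (θ e') := by
    intro α β α' β' v
    rw [hf]
    simp only [map_add, LinearMap.add_apply, map_smul, LinearMap.smul_apply, smul_eq_mul, h.alt, h1, h0, h0a, h0b, h0c,
      hself', hself, h5, h5', h1']
    field_simp
    ring
  have fa' : ∀ α β α' β' v, B (f α β α' β' v) e = α' * B v e + β' * B v (θ e) := by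
    intro α β α' β' v
    rw [hf]
    simp only [map_add, LinearMap.add_apply, map_smul, LinearMap.smul_apply, smul_eq_mul, h.alt, h1, h0, h0a, h0b, h0c,
      hself', hself, h5, h5', h1']
    ring
  have fc' : ∀ α β α' β' v, B (f α β α' β' v) (θ e) = δ * β' * B v e + α' * B v (θ e) := by
    intro α β α' β' v
    rw [hf]
    simp only [map_add, LinearMap.add_apply, map_smul, LinearMap.smul_apply, smul_eq_mul, h.alt, h1, h0, h0a, h0b, h0c,
      hself', hself, h5, h5', h1']
    field_simp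
    ring
  -- composition
  have hcomp : ∀ α β α' β' : F, α * α' + δ * β * β' = 1 → α * β' + β * α' = 0 →
      ∀ v, f α' β' α β (f α β α' β' v) = v := by
    intro α β α' β' e1 e2 v
    rw [hf α' β' α β, fa, fc, fa', fc', hf]
    have c1 : ((α - 1) * B v e' + β * B v (θ e')) + ((α' - 1) * (α * B v e' + β * B v (θ e')) +
        β' * (δ * β * B v e' + α * B v (θ e'))) = 0 := by
      linear_combination (B v e') * e1 + (B v (θ e')) * e2
    have c2 : (β * B v e' + (α - 1) * (δ⁻¹ * B v (θ e'))) + (β' * (α * B v e' + β * B v (θ e')) +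
        (α' - 1) * (δ⁻¹ * (δ * β * B v e' + α * B v (θ e')))) = 0 := by
      field_simp
      linear_combination (B v (θ e')) * e1 + (δ * B v e') * e2
    have c3 : (-((α' - 1) * B v e) - β' * B v (θ e)) + (-((α - 1) * (α' * B v e + β' * B v (θ e))) -
        β * (δ * β' * B v e + α' * B v (θ e))) = 0 := by
      linear_combination (-(B v e)) * e1 + (-(B v (θ e))) * e2
    have c4 : (-(β' * B v e) - (α' - 1) * (δ⁻¹ * B v (θ e))) + (-(β * (α' * B v e + β' * B v (θ e))) -
        (α - 1) * (δ⁻¹ * (δ * β' * B v e + α' * B v (θ e)))) = 0 := by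
      field_simp
      linear_combination (-(B v (θ e))) * e1 + (-(δ * B v e)) * e2
    calc _ = v + (((α - 1) * B v e' + β * B v (θ e')) + ((α' - 1) * (α * B v e' + β * B v (θ e')) +
          β' * (δ * β * B v e' + α * B v (θ e')))) • e
        + ((β * B v e' + (α - 1) * (δ⁻¹ * B v (θ e'))) + (β' * (α * B v e' + β * B v (θ e')) +
          (α' - 1) * (δ⁻¹ * (δ * β * B v e' + α * B v (θ e'))))) • θ e
        + ((-((α' - 1) * B v e) - β' * B v (θ e)) + (-((α - 1) * (α' * B v e + β' * B v (θ e))) -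
          β * (δ * β' * B v e + α' * B v (θ e)))) • e'
        + ((-(β' * B v e) - (α' - 1) * (δ⁻¹ * B v (θ e))) + (-(β * (α' * B v e + β' * B v (θ e))) -
          (α - 1) * (δ⁻¹ * (δ * β' * B v e + α' * B v (θ e))))) • θ e' := by
          module
      _ = v := by
          rw [c1, c2, c3, c4]
          simp only [zero_smul, add_zero]
  have hfadd : ∀ α β α' β' u v, f α β α' β' (u + v) = f α β α' β' u + f α β α' β' v := by
    intro α β α' β' u v
    rw [hf, hf, hf]
    simp only [map_add, LinearMap.add_apply]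
    module
  have hfsmul : ∀ α β α' β' (c : F) v, f α β α' β' (c • v) = c • f α β α' β' v := by
    intro α β α' β' c v
    rw [hf, hf]
    simp only [map_smul, LinearMap.smul_apply, smul_eq_mul]
    module
  have hfθ : ∀ α β α' β' v, f α β α' β' (θ v) = θ (f α β α' β' v) := by
    intro α β α' β' v
    rw [hf, hf]
    simp only [map_add, map_smul, hsq, hθs]
    have d1 : (α - 1) * B v (θ e') + β * (δ * B v e') = (β * B v e' + (α - 1) * (δ⁻¹ * B v (θ e'))) * δ := by
      field_simp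
      ring
    have d2 : β * B v (θ e') + (α - 1) * (δ⁻¹ * (δ * B v e')) = (α - 1) * B v e' + β * B v (θ e') := by
      field_simp
      ring
    have d3 : -((α' - 1) * B v (θ e)) - β' * (δ * B v e) = (-(β' * B v e) - (α' - 1) * (δ⁻¹ * B v (θ e))) * δ := by
      field_simp
      ring
    have d4 : -(β' * B v (θ e)) - (α' - 1) * (δ⁻¹ * (δ * B v e)) = -((α' - 1) * B v e) - β' * B v (θ e) := by
      field_simp
      ring
    simp only [smul_eq_mul]
    rw [d1, d2, d3, d4]
    module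
  have hfB : ∀ α β α' β' : F, α * α' + δ * β * β' = 1 → α * β' + β * α' = 0 →
      ∀ u v, B (f α β α' β' u) (f α β α' β' v) = B u v := by
    intro α β α' β' e1 e2 u v
    -- adjoint
    have hadj : ∀ u v, B (f α β α' β' u) v = B u (f α' β' α β v) := by
      intro u v
      rw [hf, hf]
      simp only [map_add, LinearMap.add_apply, map_smul, LinearMap.smul_apply, smul_eq_mul]
      rw [h.swap e v, h.swap e' v, h.swap (θ e) v, h.swap (θ e') v]
      ring
    rw [hadj, hcomp α β α' β' e1 e2]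
  -- the inverse of `b`
  set n := α * α - δ * β * β with hn
  have e1 : α * (α * n⁻¹) + δ * β * (-(β * n⁻¹)) = 1 := by
    field_simp
    rw [hn]
    ring
  have e2 : α * (-(β * n⁻¹)) + β * (α * n⁻¹) = 0 := by ring
  have e1' : (α * n⁻¹) * α + δ * (-(β * n⁻¹)) * β = 1 := by linear_combination e1
  have e2' : (α * n⁻¹) * β + (-(β * n⁻¹)) * α = 0 := by ring
  refine ⟨⟨{ toFun := f α β (α * n⁻¹) (-(β * n⁻¹))
             invFun := f (α * n⁻¹) (-(β * n⁻¹)) α β
             left_inv := hcomp _ _ _ _ e1 e2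
             right_inv := hcomp _ _ _ _ e1' e2'
             map_add' := hfadd _ _ _ _
             map_smul' := hfsmul _ _ _ _ }, hfB _ _ _ _ e1 e2⟩, fun v => hfθ _ _ _ _ v, ?_⟩
  show f α β (α * n⁻¹) (-(β * n⁻¹)) e = _
  rw [hf, h.alt, h1, h0a, hself]
  module

/-- two commuting transvections with `F[θ]`-diagonal coefficient -/
theorem tv_pair (h : NAlt B) (h2 : (2 : F) ≠ 0) {θ : V →ₗ[F] V} {δ : F} (hδ : δ ≠ 0) (hsq : ∀ v, θ (θ v) = δ • v)
    (hθs : ∀ u v, B (θ u) v = B u (θ v)) (e : V) (α β c : F) :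
    tv h (α • e + β • θ e) c * tv h (θ (α • e + β • θ e)) (-δ⁻¹ * c) =
      tv h e ((α * α - δ * β * β) * c) * tv h (θ e) (-δ⁻¹ * ((α * α - δ * β * β) * c)) := by
  have hself : ∀ v, B v (θ v) = 0 := by
    intro v
    have h3 : B v (θ v) = - B v (θ v) := (hθs v v).symm.trans (h.swap _ _)
    have h4 : (2 : F) * B v (θ v) = 0 := by linear_combination h3
    exact (mul_eq_zero.1 h4).resolve_left h2
  have hself' : ∀ v, B (θ v) v = 0 := fun v => by rw [hθs]; exact hself v
  apply Subtype.ext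
  apply LinearEquiv.ext
  intro v
  show (tv h (α • e + β • θ e) c).1 ((tv h (θ (α • e + β • θ e)) (-δ⁻¹ * c)).1 v) =
    (tv h e ((α * α - δ * β * β) * c)).1 ((tv h (θ e) (-δ⁻¹ * ((α * α - δ * β * β) * c))).1 v)
  simp only [tv_apply]
  simp only [map_add, LinearMap.add_apply, map_smul, LinearMap.smul_apply, smul_eq_mul, h.alt, hself', hself, hsq]
  match_scalars <;> field_simp <;> ring

end lin

section main

variable {F V : Type*} [Field F] [Finite F] [AddCommGroup V] [Module F V] [FiniteDimensional F V]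
  {B : LinearMap.BilinForm F V} {G : Type*} [Group G] [Finite G] {Ω : Type*} [Nonempty Ω] [MulAction G Ω]
  {N : Subgroup G} {ρ : ↥(Sp B) →* G}

/-- the last step of (SYM) -/
theorem sym_core (E : SpEnv Ω N ρ) (h2 : (2 : F) ≠ 0) {x : G} {M : SS B} (hM : Lf ρ x M) (hl : M.IsLin) {δ : F}
    (hδ : ¬ IsSquare δ) (hsq : ∀ v, M (M v) = δ • v) (hmu : M.l = δ)
    (hcov : ∀ ω : Ω, (∀ t : ↥(Sp B), (∀ v, t.1 (M v) = M (t.1 v)) → ρ t • ω = ω) ∨ x • ω = ω) : False := by
  classical
  have hδ0 : δ ≠ 0 := by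
    rintro rfl
    exact hδ ⟨0, by rw [mul_zero]⟩
  set θ : V →ₗ[F] V := hl.lin.toLinearMap with hθ
  have hθM : ∀ v, θ v = M v := fun _ => rfl
  have hsq' : ∀ v, θ (θ v) = δ • v := hsq
  have h := E.form
  have hθs : ∀ u v, B (θ u) v = B u (θ v) := by
    intro u v
    have h3 := hl.form (M u) v
    rw [hsq, hmu, LinearMap.map_smul₂, smul_eq_mul] at h3
    exact (mul_left_cancel₀ hδ0 h3).symm
  have hself : ∀ v, B v (θ v) = 0 := by
    intro v
    have h3 : B v (θ v) = - B v (θ v) := (hθs v v).symm.trans (h.swap _ _)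
    have h4 : (2 : F) * B v (θ v) = 0 := by linear_combination h3
    exact (mul_eq_zero.1 h4).resolve_left h2
  -- the vector
  have hnt : Nontrivial V := Module.nontrivial_of_finrank_pos (R := F) (by have := E.dim; omega)
  obtain ⟨e, he⟩ := exists_ne (0 : V)
  have hef : ∀ s : F, e ≠ s • θ e := by
    intro s hs
    have h3 : θ e = (s * δ) • e := by
      conv_lhs => rw [hs]
      rw [map_smul, hsq', smul_smul]
    have h4 : (s * (s * δ)) • e = (1 : F) • e := by
      rw [mul_smul, ← h3, ← hs, one_smul]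
    have h5 : s * (s * δ) = 1 := smul_left_injective F he h4
    have hs0 : s ≠ 0 := by
      rintro rfl
      rw [zero_mul] at h5
      exact zero_ne_one h5
    apply hδ
    refine ⟨s⁻¹, ?_⟩
    field_simp
    linear_combination h5
  obtain ⟨e', h1, h0⟩ := exists_partner h hef
  -- the element of `F[θ]`
  obtain ⟨α, β, hN0, hN1⟩ : ∃ α β : F, α * α - δ * β * β ≠ 0 ∧ α * α - δ * β * β ≠ 1 := by
    by_cases hd : δ = -1
    · refine ⟨1, 1, ?_, ?_⟩
      · rw [hd]
        intro h3
        apply h2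
        linear_combination h3
      · rw [hd]
        intro h3
        apply one_ne_zero (α := F)
        linear_combination h3
    · refine ⟨0, 1, ?_, ?_⟩
      · intro h3
        apply hδ0
        linear_combination -h3
      · intro h3
        apply hd
        linear_combination -h3
  obtain ⟨y, hy, hye⟩ := exists_dg h h2 hδ0 hsq' hθs h1 h0 hN0
  set n := α * α - δ * β * β with hn
  have hyM : ∀ v, y.1 (M v) = M (y.1 v) := hy
  have hxy : x * ρ y = ρ y * x := by
    have h3 := hM y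
    rw [SS.cj_eq (M := M) (s := y) (t := y) hyM] at h3
    exact mul_inv_eq_iff_eq_mul.1 h3
  -- the line
  let A : F → ↥(Sp B) := fun c => tv h e c * tv h (θ e) (-δ⁻¹ * c)
  have hA : ∀ c, A c = tv h e c * tv h (θ e) (-δ⁻¹ * c) := fun _ => rfl
  have hcomm : ∀ c d, tv h e c * tv h (θ e) d = tv h (θ e) d * tv h e c := by
    intro c d
    apply Subtype.ext
    apply LinearEquiv.ext
    intro v
    show (tv h e c).1 ((tv h (θ e) d).1 v) = (tv h (θ e) d).1 ((tv h e c).1 v)
    simp only [tv_apply, map_add, LinearMap.add_apply, map_smul, LinearMap.smul_apply, smul_eq_mul, hself, mul_zero,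
      add_zero]
    rw [h.swap0 (hself e)]
    module
  have hAadd : ∀ c d, A (c + d) = A c * A d := by
    intro c d
    rw [hA, hA, hA, mul_add, tv_add, tv_add]
    calc tv h e c * tv h e d * (tv h (θ e) (-δ⁻¹ * c) * tv h (θ e) (-δ⁻¹ * d)) =
        tv h e c * (tv h e d * tv h (θ e) (-δ⁻¹ * c)) * tv h (θ e) (-δ⁻¹ * d) := by group
      _ = tv h e c * (tv h (θ e) (-δ⁻¹ * c) * tv h e d) * tv h (θ e) (-δ⁻¹ * d) := by rw [hcomm]
      _ = _ := by group
  have hAy : ∀ c, y * A c * y⁻¹ = A (n * c) := by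
    intro c
    rw [← SS.cj_tg, hA, map_mul, cj_tv, cj_tv, SS.tg_apply, SS.tg_apply, hy, hye]
    have h3 : ∀ d : F, (SS.tg y).σ d * (SS.tg y).l⁻¹ = d := by
      intro d
      show d * (1 : F)⁻¹ = d
      rw [inv_one, mul_one]
    rw [h3, h3, tv_pair h h2 hδ0 hsq' hθs]
  have hAx : ∀ c, SS.cj M (A c) = A (-1 * c) := by
    intro c
    have h3 : ∀ d : F, M.σ d = d := by
      intro d
      rw [show M.σ = 1 from hl]
      rfl
    rw [hA, map_mul, cj_tv, cj_tv, h3, h3, hmu, ← hθM, ← hθM, hsq', tv_smul, ← hcomm, hA]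
    congr 2
    · field_simp
    · ring
  refine line_rule E.env (R := F) (κ := Bool) (z := fun b => cond b (ρ y) x) (ν := fun b => cond b n (-1))
    (a := fun c => ρ (A c)) ?_ ?_ ?_ ?_ ?_ ?_
  · rintro (_ | _) (_ | _)
    · rfl
    · exact hxy
    · exact hxy.symm
    · rfl
  · intro ω
    rcases hcov ω with h3 | h3
    · exact ⟨true, h3 y hyM⟩
    · exact ⟨false, h3⟩
  · intro c d
    show ρ (A (c + d)) = ρ (A c) * ρ (A d)
    rw [hAadd, map_mul]
  · refine ⟨1, fun h3 => ?_⟩
    obtain ⟨s, hs⟩ := (E.ker _).1 h3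
    have h4 : ∀ v, (A 1).1 v = (tv h e 1).1 ((tv h (θ e) (-δ⁻¹ * 1)).1 v) := fun _ => rfl
    have h5 := hs e
    rw [h4, tv_apply, tv_apply, hself, mul_zero, zero_smul, add_zero, h.alt, mul_zero, zero_smul, add_zero] at h5
    have h6 : s = 1 := by
      apply smul_left_injective F he
      show s • e = (1 : F) • e
      rw [← h5, one_smul]
    have h7 := hs e'
    rw [h4, h6, one_smul, tv_apply, tv_apply, h.swap0 h0, mul_zero, zero_smul, add_zero, add_eq_left, one_mul,
      h.swap, h1, neg_smul, one_smul, neg_eq_zero] at h7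
    exact he h7
  · rintro (_ | _)
    · show (-1 : F) ≠ 1
      intro h3
      apply h2
      linear_combination -h3
    · exact hN1
  · rintro (_ | _) c
    · show x * ρ (A c) * x⁻¹ = ρ (A (-1 * c))
      rw [hM, hAx]
    · show ρ y * ρ (A c) * (ρ y)⁻¹ = ρ (A (n * c))
      rw [← map_inv, ← map_mul, ← map_mul, hAy]

end main

/-- the conclusion of the M-rule for a field `F[θ]` of self-adjoint operators (helper575, D5), for the family `x, M` -/
def MK {F V : Type*} [Field F] [AddCommGroup V] [Module F V]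
    {B : LinearMap.BilinForm F V} {G : Type*} [Group G] {Ω : Type*} [MulAction G Ω]
    (ρ : ↥(Sp B) →* G) {ι : Type*} (x : ι → G) (M : ι → SS B) (θ : Module.End F V) (ω : Ω) : Prop :=
  (∀ t : ↥(Sp B), (∀ v, t.1 (θ v) = θ (t.1 v)) → ρ t • ω = ω) ∨
      ∃ i, (∃ P : Polynomial F, ∀ v, M i v = Polynomial.aeval θ P v) ∧ x i • ω = ω

/-- polynomials in a self-adjoint operator are self-adjoint -/
theorem aeval_self {F V : Type*} [Field F] [AddCommGroup V] [Module F V] {B : LinearMap.BilinForm F V}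
    {θ : Module.End F V} (hθs : ∀ u v, B (θ u) v = B u (θ v)) (P : Polynomial F) (u v : V) :
    B (Polynomial.aeval θ P u) v = B u (Polynomial.aeval θ P v) := by
  induction P using Polynomial.induction_on' with
  | add p q hp hq =>
    rw [map_add, LinearMap.add_apply, LinearMap.add_apply, map_add, map_add, LinearMap.add_apply, hp, hq]
  | monomial n a =>
    have h1 : ∀ (n : ℕ) (u v : V), B ((θ ^ n) u) v = B u ((θ ^ n) v) := by
      intro n
      induction n with
      | zero => intro u v; rfl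
      | succ n ih =>
        intro u v
        rw [pow_succ]
        show B ((θ ^ n) (θ u)) v = B u ((θ ^ n) (θ v))
        rw [ih, hθs]
        congr 1
        have h2 : θ * θ ^ n = θ ^ n * θ := by rw [← pow_succ', pow_succ]
        exact congrArg (fun f : Module.End F V => f v) h2
    rw [Polynomial.aeval_monomial]
    show B (algebraMap F (Module.End F V) a ((θ ^ n) u)) v = B u (algebraMap F (Module.End F V) a ((θ ^ n) v))
    rw [Module.algebraMap_end_apply, Module.algebraMap_end_apply, map_smul, map_smul, LinearMap.smul_apply, h1]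

/-- the minimal polynomial of a square root of a nonsquare -/
theorem minpoly_irr {F A : Type*} [Field F] [Ring A] [Nontrivial A] [Algebra F A] {θ : A} {δ : F} (hδ : ¬ IsSquare δ)
    (h : θ * θ = algebraMap F A δ) : Irreducible (minpoly F θ) := by
  have h1 : Irreducible (Polynomial.X ^ 2 - Polynomial.C δ : Polynomial F) := by
    apply X_pow_sub_C_irreducible_of_prime Nat.prime_two
    intro b hb
    exact hδ ⟨b, by rw [← hb, sq]⟩
  have h2 : Polynomial.aeval θ (Polynomial.X ^ 2 - Polynomial.C δ : Polynomial F) = 0 := by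
    rw [map_sub, map_pow, Polynomial.aeval_X, Polynomial.aeval_C, sq, h, sub_self]
  have h3 : (Polynomial.X ^ 2 - Polynomial.C δ : Polynomial F).Monic := Polynomial.monic_X_pow_sub_C δ two_ne_zero
  rw [← minpoly.eq_of_irreducible_of_monic h1 h2 h3]
  exact h1

section main2

variable {F V : Type} [Field F] [Finite F] [AddCommGroup V] [Module F V] [FiniteDimensional F V]
  {B : LinearMap.BilinForm F V} {G : Type} [Group G] [Finite G] {Ω : Type} [Finite Ω] [Nonempty Ω] [MulAction G Ω]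
  {N : Subgroup G} {ρ : ↥(Sp B) →* G} {ι : Type} [Finite ι] {x : ι → G} {r : ι → ℕ} {M : ι → SS B}

/-- (SYM), given the M-rule for `F[θ]` -/
theorem dead_sym_of (E : SpEnv Ω N ρ) (h2 : (2 : F) ≠ 0) (hx : PF x r) 
    (hM : ∀ i, Lf ρ (x i) (M i)) (hl : ∀ i, (M i).IsLin) (i0 : ι) {δ : F} (hδ : ¬ IsSquare δ)
    (hsq : ∀ v, M i0 (M i0 v) = δ • v) (hmu : (M i0).l = δ)
    (hex : Nat.card F = 3 → finrank F V = 4 → ∀ i j, i ≠ i0 → j ≠ i0 → i = j)
    (mrk : ¬ (Nat.card F = 2 ∧ finrank F V = 4) → ∀ (θ : Module.End F V)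
      (_ : ∀ u v, B (θ u) v = B u (θ v)) (_ : Irreducible (minpoly F θ)) (_ : ∀ a : F, θ ≠ algebraMap F _ a)
      (_ : ∀ i v, M i (θ v) = θ (M i v))
      (_ : Nat.card F = 3 → finrank F V = 4 → ∀ i j, (¬ ∃ P : Polynomial F, ∀ v, M i v = Polynomial.aeval θ P v) →
        (¬ ∃ P : Polynomial F, ∀ v, M j v = Polynomial.aeval θ P v) → i = j) (ω : Ω), MK ρ x M θ ω) : False := by
  classical
  have hδ0 : δ ≠ 0 := by
    rintro rfl
    exact hδ ⟨0, by rw [mul_zero]⟩
  have h := E.form
  have hnt : Nontrivial V := Module.nontrivial_of_finrank_pos (R := F) (by have := E.dim; omega)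
  set θ : Module.End F V := (hl i0).lin.toLinearMap with hθ
  have hθM : ∀ v, θ v = M i0 v := fun _ => rfl
  have hθs : ∀ u v, B (θ u) v = B u (θ v) := by
    intro u v
    have h3 := (hl i0).form (M i0 u) v
    rw [hsq, hmu, LinearMap.map_smul₂, smul_eq_mul] at h3
    exact (mul_left_cancel₀ hδ0 h3).symm
  have hθ2 : θ * θ = algebraMap F (Module.End F V) δ := by
    apply LinearMap.ext
    intro v
    rw [Module.algebraMap_end_apply]
    exact hsq v
  -- a nonzero vector
  obtain ⟨e, he⟩ := exists_ne (0 : V)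
  have hscal : ∀ a b : F, (∀ v : V, a • v = b • v) → a = b := fun a b hab => smul_left_injective F he (hab e)
  -- orders
  have hord : ∀ i, (∃ a : F, ∀ v, M i (M i v) = a • v) → r i = 2 := by
    rintro i ⟨a, ha⟩
    have h3 : x i ^ 2 = 1 := by
      refine (E.eq_one_iff ((hM i).pow 2)).2 ⟨a, ?_, ?_⟩
      · rintro rfl
        apply he
        apply (M i).injective
        apply (M i).injective
        rw [ha, zero_smul, (M i).map_zero, (M i).map_zero]
      · intro v
        rw [SS.pow_apply]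
        exact ha v
    have hp := hx.prime i
    have hf : Fact (r i).Prime := ⟨hp⟩
    have h4 : orderOf (x i) = r i := orderOf_eq_prime (hx.pow i) (hx.ne i)
    have h5 : r i ∣ 2 := h4 ▸ orderOf_dvd_of_pow_eq_one h3
    exact (Nat.prime_dvd_prime_iff_eq hp Nat.prime_two).1 h5
  have hr0 : r i0 = 2 := hord i0 ⟨δ, hsq⟩
  have hcm : ∀ i v, M i (θ v) = θ (M i v) := by
    intro i v
    by_cases hi : i = i0
    · subst hi; rfl
    obtain ⟨a, ha0, ha⟩ := E.lf_comm (hM i) (hM i0) (hx.comm i i0)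
    have h3 : a ^ 2 = 1 := by
      have h4 : ∀ w, δ • M i w = (a ^ 2 * δ) • M i w := by
        intro w
        calc δ • M i w = M i (δ • w) := ((hl i).map_smul _ _).symm
          _ = M i (M i0 (M i0 w)) := by rw [hsq]
          _ = a • M i0 (a • M i0 (M i w)) := by rw [ha, ha]
          _ = (a ^ 2 * δ) • M i w := by
            rw [(hl i0).map_smul, hsq, smul_smul, smul_smul]
            congr 1
            ring
      have h5 : δ = a ^ 2 * δ := by
        apply hscal
        intro w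
        obtain ⟨w, rfl⟩ := (M i).surjective w
        exact h4 w
      have h6 : (a ^ 2 - 1) * δ = 0 := by linear_combination -h5
      exact sub_eq_zero.1 ((mul_eq_zero.1 h6).resolve_right hδ0)
    have h4 : a ^ r i = 1 := by
      obtain ⟨s, hs0, hs⟩ := E.pow_scal (hM i) (hx.pow i)
      have h5 : ∀ (n : ℕ) w, (M i)^[n] (M i0 w) = a ^ n • M i0 ((M i)^[n] w) := by
        intro n
        induction n with
        | zero => intro w; simp
        | succ n ih =>
          intro w
          rw [Function.iterate_succ_apply', Function.iterate_succ_apply', ih, (hl i).map_smul, ha, smul_smul, pow_succ]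
      have h6 : s = a ^ r i * s := by
        apply hscal
        intro w
        obtain ⟨w, rfl⟩ := (M i0).surjective w
        rw [← hs, h5, hs, (hl i0).map_smul, smul_smul]
      have h7 : (a ^ r i - 1) * s = 0 := by linear_combination -h6
      exact sub_eq_zero.1 ((mul_eq_zero.1 h7).resolve_right hs0)
    have h5 : Nat.Coprime 2 (r i) := by
      rw [Nat.coprime_primes Nat.prime_two (hx.prime i)]
      intro h6
      exact hi (hx.inj (h6.symm.trans hr0.symm))
    have h6 : a = 1 := by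
      have h7 := Nat.dvd_gcd (orderOf_dvd_of_pow_eq_one h3) (orderOf_dvd_of_pow_eq_one h4)
      rw [h5] at h7
      exact orderOf_eq_one_iff.1 (Nat.dvd_one.1 h7)
    show M i (M i0 v) = M i0 (M i v)
    rw [ha, h6, one_smul]
  have hX : ∃ P : Polynomial F, ∀ v, M i0 v = Polynomial.aeval θ P v :=
    ⟨Polynomial.X, fun v => by rw [Polynomial.aeval_X]; rfl⟩
  have h22 : ¬ (Nat.card F = 2 ∧ finrank F V = 4) := by
    rintro ⟨h3, -⟩
    apply h2
    have := Fintype.ofFinite F
    rw [Nat.card_eq_fintype_card] at h3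
    have h4 := Nat.cast_card_eq_zero F
    rw [h3] at h4
    exact_mod_cast h4
  have hmk := mrk h22 θ hθs (minpoly_irr hδ hθ2) (by
      intro a ha
      apply hδ
      refine ⟨a, ?_⟩
      apply hscal
      intro v
      have h3 : ∀ w, θ w = a • w := by
        intro w
        rw [ha, Module.algebraMap_end_apply]
      rw [← hsq, ← hθM, ← hθM, h3, h3, smul_smul]) hcm (by
      intro h3 h4 i j hi hj
      refine hex h3 h4 i j ?_ ?_
      · rintro rfl
        exact hi hX
      · rintro rfl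
        exact hj hX)
  refine sym_core E h2 (hM i0) (hl i0) hδ hsq hmu (fun ω => ?_)
  rcases hmk ω with h3 | ⟨i, ⟨P, hP⟩, hi⟩
  · exact Or.inl h3
  · right
    have h3 : i = i0 := by
      apply hx.inj
      rw [hr0]
      apply hord
      refine ⟨(M i).l, fun v => ?_⟩
      rw [← sub_eq_zero]
      apply h.nd'
      intro u
      rw [map_sub, map_smul, smul_eq_mul, ← (hl i).form, hP (M i v), ← aeval_self hθs, ← hP, sub_self]
    rw [← h3]
    exact hi

end main2

end Cfsg.Agent.H579.RC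
end

-- part: H236/RC/D5
section
/-!
# S3510, row D (symplectic groups), box D5 (helper236)

* `exists_bk` : the transfer form: `K ⊇ F` finite fields, `B` an `F`-form on the `K`-space `V` with
  `B (k u) v = B u (k v)`; then `B = Tr ∘ C` with `C` `K`-bilinear; `nalt_bk` : `C` is alternating nondegenerate;
* `jk : Sp C →* Sp B`, with image the elements of `Sp B` commuting with `K`;
* `m_rule_field` : M-rule for `Sp C`;  `m_rule_K` : the same for `K = F[θ]` (box D5).
-/

set_option autoImplicit false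
open Cfsg

namespace Cfsg.Agent.H236.RC.D5

open MulAction Module Cfsg.Agent.H106.RC Cfsg.Agent.H520.RC

section field

variable {F K V : Type*} [Field F] [Finite F] [Field K] [Finite K] [Algebra F K] [AddCommGroup V]
  [Module F V] [Module K V] [IsScalarTower F K V] {B : LinearMap.BilinForm F V}

omit [Finite K] in
theorem tr_ext [FiniteDimensional F K] {a b : K}
    (h : ∀ k, Algebra.trace F K (k * a) = Algebra.trace F K (k * b)) : a = b := by
  have h1 := traceForm_nondegenerate F K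
  have h2 : ∀ n, Algebra.traceForm F K (a - b) n = 0 := by
    intro n
    rw [Algebra.traceForm_apply, mul_comm, mul_sub, map_sub, h, sub_self]
  have h3 := h1.1 (a - b) h2
  exact sub_eq_zero.1 h3

omit [Finite K] in
/-- the transfer form -/
theorem exists_bk [FiniteDimensional F K] (hs : ∀ (k : K) (u v : V), B (k • u) v = B u (k • v)) :
    ∃ C : LinearMap.BilinForm K V, ∀ u v, Algebra.trace F K (C u v) = B u v := by
  have h1 := traceForm_nondegenerate F K
  have hex : ∀ u v : V, ∃ c : K, ∀ k : K, Algebra.trace F K (k * c) = B (k • u) v := by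
    intro u v
    let f : Module.Dual F K :=
      { toFun := fun k => B (k • u) v
        map_add' := fun k l => by rw [add_smul, map_add, LinearMap.add_apply]
        map_smul' := fun a k => by
          rw [smul_assoc, map_smul, LinearMap.smul_apply, RingHom.id_apply] }
    refine ⟨((Algebra.traceForm F K).toDual h1).symm f, fun k => ?_⟩
    have h2 := LinearMap.BilinForm.apply_toDual_symm_apply (hB := h1) (f := f) (v := k)
    rw [Algebra.traceForm_apply, mul_comm] at h2
    exact h2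
  choose c hc using hex
  refine ⟨LinearMap.mk₂ K c ?_ ?_ ?_ ?_, fun u v => ?_⟩
  · intro u u' v
    apply tr_ext (F := F)
    intro k
    rw [mul_add, map_add, hc, hc, hc, smul_add, map_add, LinearMap.add_apply]
  · intro a u v
    apply tr_ext (F := F)
    intro k
    rw [smul_eq_mul, ← mul_assoc, hc, hc, mul_smul]
  · intro u v v'
    apply tr_ext (F := F)
    intro k
    rw [mul_add, map_add, hc, hc, hc, map_add]
  · intro a u v
    apply tr_ext (F := F)
    intro k
    rw [smul_eq_mul, ← mul_assoc, hc, hc, ← hs, mul_comm k a, mul_smul]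
  · rw [LinearMap.mk₂_apply]
    have := hc u v 1
    rwa [one_mul, one_smul] at this

omit [Finite F] in
/-- a form with self-adjoint scalars -/
theorem alt_smul (hB : NAlt B) (hs : ∀ (k : K) (u v : V), B (k • u) v = B u (k • v)) (k : K) (u : V) :
    B (k • u) u = 0 := by
  by_cases h2 : ringChar K = 2
  · obtain ⟨l, rfl⟩ := FiniteField.isSquare_of_char_two h2 k
    rw [mul_smul, hs, hB.alt]
  · have h3 : B (k • u) u = - B (k • u) u := by
      conv_lhs => rw [hs, hB.swap]
    have h4 : (2 : F) * B (k • u) u = 0 := by linear_combination h3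
    have h5 : (2 : F) ≠ 0 := by
      intro h0
      apply Ring.two_ne_zero h2
      have h6 := congrArg (algebraMap F K) h0
      rwa [map_ofNat, map_zero] at h6
    exact (mul_eq_zero.1 h4).resolve_left h5

variable {C : LinearMap.BilinForm K V}

omit [Finite F] [Finite K] in
theorem tr_mul (hC : ∀ u v, Algebra.trace F K (C u v) = B u v) (k : K) (u v : V) :
    Algebra.trace F K (k * C u v) = B (k • u) v := by
  rw [← hC, map_smul, LinearMap.smul_apply, smul_eq_mul]

theorem nalt_bk [FiniteDimensional F K] (hB : NAlt B) (hs : ∀ (k : K) (u v : V), B (k • u) v = B u (k • v))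
    (hC : ∀ u v, Algebra.trace F K (C u v) = B u v) : NAlt C where
  alt u := by
    apply tr_ext (F := F)
    intro k
    rw [tr_mul hC, alt_smul hB hs, mul_zero, map_zero]
  nd u hu := by
    apply hB.nd
    intro v
    rw [← hC, hu, map_zero]

/-- `Sp C →* Sp B` -/
def jk (hC : ∀ u v, Algebra.trace F K (C u v) = B u v) : Sp C →* Sp B where
  toFun t := ⟨t.1.restrictScalars F, fun u v => by
    show B (t.1 u) (t.1 v) = B u v
    rw [← hC, ← hC, t.2]⟩
  map_one' := rfl
  map_mul' s t := rfl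

omit [Finite F] [Finite K] in
@[simp] theorem jk_apply (hC : ∀ u v, Algebra.trace F K (C u v) = B u v) (t : Sp C) (v : V) :
    (jk hC t).1 v = t.1 v := rfl

omit [Finite F] [Finite K] in
theorem jk_injective (hC : ∀ u v, Algebra.trace F K (C u v) = B u v) : Function.Injective (jk hC) := by
  intro s t h
  apply Subtype.ext
  apply LinearEquiv.ext
  intro v
  rw [← jk_apply hC, ← jk_apply hC, h]

omit [Finite K] in
/-- the image: the elements commuting with `K` -/
theorem exists_jk [FiniteDimensional F K] (hC : ∀ u v, Algebra.trace F K (C u v) = B u v) {t : Sp B}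
    (ht : ∀ (k : K) v, t.1 (k • v) = k • t.1 v) : ∃ s, jk hC s = t := by
  refine ⟨⟨{ t.1 with map_smul' := fun k v => ht k v }, fun u v => ?_⟩, rfl⟩
  show C (t.1 u) (t.1 v) = C u v
  apply tr_ext (F := F)
  intro k
  rw [tr_mul hC, tr_mul hC, ← ht, t.2]

end field

section rule

variable {F V : Type} [Field F] [Finite F] [AddCommGroup V] [Module F V] [FiniteDimensional F V]
  {B : LinearMap.BilinForm F V} {G : Type} [Group G] [Finite G] {Ω : Type} [Nonempty Ω] [MulAction G Ω]
  {N : Subgroup G} {ρ : ↥(Sp B) →* G} {ι : Type} [Finite ι] {x : ι → G} {r : ι → ℕ} {M : ι → SS B}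

/-- `K`-linear elements centralising `Sp C` are in `K` -/
theorem scal_of_comm {K : Type} [Field K] [Module K V] {C : LinearMap.BilinForm K V} (hC : NAlt C)
    [FiniteDimensional K V] (hd : 2 ≤ finrank K V) (f : V →+ V)
    (h : ∀ (t : Sp C) v, f (t.1 v) = t.1 (f v)) : ∃ c : K, ∀ v, f v = c • v := by
  apply scal_of_lines hd
  intro v
  by_cases hv : v = 0
  · exact ⟨0, by rw [hv, map_zero, smul_zero]⟩
  obtain ⟨y, hy⟩ := hC.exists_one hv
  have h1 := h (tv hC v (-1)) y
  rw [tv_apply, tv_apply, map_add, add_right_inj, hC.swap y v, hy] at h1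
  exact ⟨-1 * C (f y) v, by rw [← h1]; simp⟩

/-- the M-rule for a field of self-adjoint scalars -/
theorem m_rule_field (E : SpEnv Ω N ρ) (hIH : IH (Nat.card N)) (h22 : ¬ (Nat.card F = 2 ∧ finrank F V = 4))
    (hx : PF x r) (hcov : Cov Ω x) (hM : ∀ i, Lf ρ (x i) (M i))
    {K : Type} [Field K] [Finite K] [Algebra F K] [Module K V] [IsScalarTower F K V]
    (hK : 2 ≤ finrank F K) (hs : ∀ (k : K) (u v : V), B (k • u) v = B u (k • v))
    (hcm : ∀ i (k : K) v, M i (k • v) = k • M i v)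
    (hex : Nat.card F = 3 → finrank F V = 4 → ∀ i j, (¬ ∃ k : K, ∀ v, M i v = k • v) →
      (¬ ∃ k : K, ∀ v, M j v = k • v) → i = j) (ω : Ω) :
    (∀ t : ↥(Sp B), (∀ (k : K) v, t.1 (k • v) = k • t.1 v) → ρ t • ω = ω) ∨
      ∃ i, (∃ k : K, ∀ v, M i v = k • v) ∧ x i • ω = ω := by
  classical
  have hfV : Finite V := Module.finite_of_finite F
  have hfK : FiniteDimensional F K := Module.Finite.of_finite
  have hfKV : FiniteDimensional K V := Module.Finite.of_finite
  obtain ⟨C, hC⟩ := exists_bk (F := F) hs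
  have hCn := nalt_bk E.form hs hC
  have hdim := E.dim
  obtain ⟨m, hm⟩ := exists_dim E.form
  obtain ⟨m', hm'⟩ := exists_dim hCn
  have hmul : finrank F K * finrank K V = finrank F V := Module.finrank_mul_finrank F K V
  have hm1 : m' ≠ 0 := by
    rintro rfl
    rw [hm'] at hmul
    omega
  have hcK : Nat.card K = Nat.card F ^ finrank F K := Module.natCard_eq_pow_finrank
  have hF2 : 2 ≤ Nat.card F := Finite.one_lt_card
  have hF : Nat.card F ≠ 2 → 3 ≤ Nat.card F := by omega
  have hK4 : 4 ≤ Nat.card K := by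
    rw [hcK]
    calc 4 = 2 ^ 2 := rfl
      _ ≤ Nat.card F ^ 2 := Nat.pow_le_pow_left hF2 2
      _ ≤ _ := Nat.pow_le_pow_right (by omega) hK
  have hpB : commutator (Sp B) = ⊤ := by
    apply perfect_Sp E.form
    by_cases h6 : 6 ≤ finrank F V
    · exact Or.inl h6
    · have h4 : finrank F V = 4 := by omega
      exact Or.inr (Or.inl ⟨h4, hF fun h => h22 ⟨h, h4⟩⟩)
  have hall : 6 ≤ finrank K V ∨ (finrank K V = 4 ∧ 3 ≤ Nat.card K) ∨ (finrank K V ≠ 0 ∧ 4 ≤ Nat.card K) :=
    Or.inr (Or.inr ⟨by omega, hK4⟩)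
  have hpC : commutator (Sp C) = ⊤ := perfect_Sp hCn (Or.inr (Or.inr hK4))
  -- the centralisers
  have hcent : ∀ i, (∀ s, x i * ρ (jk hC s) = ρ (jk hC s) * x i) ↔ ∃ k : K, ∀ v, M i v = k • v := by
    intro i
    rw [E.cent_iff (hM i) (jk hC) hpC]
    constructor
    · intro h
      exact scal_of_comm hCn (by omega) (M i).f.toAddMonoidHom h
    · rintro ⟨k, hk⟩ s v
      rw [jk_apply, hk, hk, jk_apply, map_smul]
  -- not surjective
  have hns : ¬ Function.Surjective (jk hC) := by
    intro hsur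
    have h1 : ∀ k : K, ∃ c : F, ∀ v : V, k • v = c • v := by
      intro k
      apply scal_of_comm E.form (by omega) (DistribSMul.toAddMonoidHom V k)
      intro t v
      obtain ⟨s, rfl⟩ := hsur t
      show k • s.1 v = s.1 (k • v)
      rw [map_smul]
    have hnt : Nontrivial V := Module.nontrivial_of_finrank_pos (R := F) (by omega)
    obtain ⟨v, hv⟩ := exists_ne (0 : V)
    have h2 : Function.Surjective (algebraMap F K) := by
      intro k
      obtain ⟨c, hc⟩ := h1 k
      refine ⟨c, ?_⟩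
      have h3 : (algebraMap F K c - k) • v = 0 := by
        rw [sub_smul, algebraMap_smul, hc, sub_self]
      exact sub_eq_zero.1 ((smul_eq_zero.1 h3).resolve_right hv)
    have h3 : finrank F K ≤ finrank F F :=
      LinearMap.finrank_le_finrank_of_surjective (f := Algebra.linearMap F K) h2 
    rw [finrank_self] at h3
    omega
  have hfE : Finite (V ≃ₗ[K] V) := Finite.of_injective (fun e : V ≃ₗ[K] V => (e : V → V)) DFunLike.coe_injective
  have hrule := E.mrule hIH (jk hC) (jk_injective hC) (E.range_ne hpB (jk hC) hns) hpC (simple_Sp hCn hall)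
    (ncomm_Sp hCn hall) hM hx hcov (by
      intro i s
      have h1 : ∀ (k : K) v, (SS.cj (M i) (jk hC s)).1 (k • v) = k • (SS.cj (M i) (jk hC s)).1 v := by
        intro k v
        obtain ⟨v, rfl⟩ := (M i).surjective v
        rw [← hcm, SS.cj_apply, SS.cj_apply, ← hcm, jk_apply, jk_apply, map_smul]
      obtain ⟨s', hs'⟩ := exists_jk hC h1
      exact ⟨s', hs'.symm⟩) (by
      by_cases hd4 : finrank K V = 2
      · by_cases h9 : Nat.card K = 9
        · right
          have hq : Nat.card F = 3 ∧ finrank F K = 2 := by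
            have h5 : Nat.card F ^ 2 ≤ 9 := by
              rw [← h9, hcK]
              exact Nat.pow_le_pow_right (by omega) hK
            have h6 : Nat.card F ≤ 3 := by
              by_contra h7
              push Not at h7
              have : 4 ^ 2 ≤ Nat.card F ^ 2 := Nat.pow_le_pow_left (by omega) 2
              omega
            have h7 : Nat.card F = 2 ∨ Nat.card F = 3 := by omega
            rcases h7 with h7 | h7
            · exfalso
              rw [hcK, h7] at h9
              have h8 : finrank F K < 4 := by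
                by_contra h10
                push Not at h10
                have : 2 ^ 4 ≤ 2 ^ finrank F K := Nat.pow_le_pow_right (by omega) h10
                omega
              interval_cases h11 : finrank F K <;> omega
            · refine ⟨h7, ?_⟩
              rw [hcK, h7] at h9
              have h8 : finrank F K < 3 := by
                by_contra h10
                push Not at h10
                have : 3 ^ 3 ≤ 3 ^ finrank F K := Nat.pow_le_pow_right (by omega) h10
                omega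
              omega
          have h4 : finrank F V = 4 := by rw [← hmul, hq.2, hd4]
          have hh := hex hq.1 h4
          by_cases hall' : ∃ i, ¬ ∃ k : K, ∀ v, M i v = k • v
          · obtain ⟨i₀, hi₀⟩ := hall'
            refine ⟨i₀, fun i hi => (hcent i).2 ?_⟩
            by_contra hcon
            exact hi (hh i i₀ hcon hi₀)
          · push Not at hall'
            obtain ⟨i₀, _⟩ := hcov (Classical.arbitrary Ω)
            exact ⟨i₀, fun i _ => (hcent i).2 (hall' i)⟩
        · left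
          refine ⟨cl_Sp hCn hall, not_exc_Sp2 hCn hd4 ?_ ?_ h9⟩
          · intro h4
            have h5 : Nat.card F = 2 := by
              by_contra h6
              have h7 : 3 ^ 2 ≤ Nat.card F ^ finrank F K :=
                (Nat.pow_le_pow_left (hF h6) 2).trans (Nat.pow_le_pow_right (by omega) hK)
              omega
            apply h22
            refine ⟨h5, ?_⟩
            have h8 : finrank F K = 2 := by
              rw [hcK, h5] at h4
              by_contra h9
              have : 2 ^ 3 ≤ 2 ^ finrank F K := Nat.pow_le_pow_right (by omega) (by omega)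
              omega
            rw [← hmul, h8, hd4]
          · intro h5
            rw [hcK] at h5
            have h6 : (5 : ℕ).Prime := by norm_num
            rw [← h5] at h6
            exact h6.not_prime_pow hK
      · left
        refine ⟨cl_Sp hCn hall, not_exc_Sp hCn ?_⟩
        by_cases h6 : 6 ≤ finrank K V
        · exact Or.inl h6
        · exact Or.inr ⟨by omega, by omega⟩) ω
  rcases hrule with h | ⟨i, hi, hω⟩
  · left
    intro t ht
    obtain ⟨s, rfl⟩ := exists_jk hC ht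
    exact h s
  · exact Or.inr ⟨i, (hcent i).1 hi, hω⟩

/-- **BOX D5.** `F[θ]` a field of self-adjoint operators commuting with all lifts: the group `Sp_K(V)`, conclusion
of the M-rule. -/
theorem m_rule_K (E : SpEnv Ω N ρ) (hIH : IH (Nat.card N)) (h22 : ¬ (Nat.card F = 2 ∧ finrank F V = 4))
    (hx : PF x r) (hcov : Cov Ω x)
    (hM : ∀ i, Lf ρ (x i) (M i)) (_hl : ∀ i, (M i).IsLin) (θ : Module.End F V)
    (hθs : ∀ u v, B (θ u) v = B u (θ v)) (hθ : Irreducible (minpoly F θ)) (hθ1 : ∀ a : F, θ ≠ algebraMap F _ a)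
    (hcm : ∀ i v, M i (θ v) = θ (M i v))
    -- only if `K = F_9`, `dim_K V = 2`: the members outside `K` are of one prime order
    (hex : Nat.card F = 3 → finrank F V = 4 → ∀ i j, (¬ ∃ P : Polynomial F, ∀ v, M i v = Polynomial.aeval θ P v) →
      (¬ ∃ P : Polynomial F, ∀ v, M j v = Polynomial.aeval θ P v) → i = j) (ω : Ω) :
    (∀ t : ↥(Sp B), (∀ v, t.1 (θ v) = θ (t.1 v)) → ρ t • ω = ω) ∨
      ∃ i, (∃ P : Polynomial F, ∀ v, M i v = Polynomial.aeval θ P v) ∧ x i • ω = ω := by
  classical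
  have hfV : Finite V := Module.finite_of_finite F
  have : Fact (Irreducible (minpoly F θ)) := ⟨hθ⟩
  have hint : IsIntegral F θ := by
    by_contra h
    rw [minpoly.eq_zero h] at hθ
    exact hθ.ne_zero rfl
  let φ : AdjoinRoot (minpoly F θ) →+* Module.End F V :=
    Ideal.Quotient.lift (Ideal.span {minpoly F θ}) (Polynomial.aeval θ).toRingHom (by
      intro a ha
      obtain ⟨b, rfl⟩ := Ideal.mem_span_singleton'.1 ha
      show Polynomial.aeval θ (b * minpoly F θ) = 0
      rw [map_mul, minpoly.aeval, mul_zero])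
  have hφ : ∀ P : Polynomial F, φ (AdjoinRoot.mk _ P) = Polynomial.aeval θ P := fun P => rfl
  let _ : Module (AdjoinRoot (minpoly F θ)) V := Module.compHom V φ
  have hsm : ∀ (P : Polynomial F) (v : V), (AdjoinRoot.mk (minpoly F θ) P) • v = Polynomial.aeval θ P v := by
    intro P v
    rw [← hφ]
    rfl
  have htw : IsScalarTower F (AdjoinRoot (minpoly F θ)) V := ⟨fun a k v => by
    obtain ⟨P, rfl⟩ := AdjoinRoot.mk_surjective k
    rw [AdjoinRoot.smul_mk, hsm, hsm, map_smul, LinearMap.smul_apply]⟩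
  have hfd : FiniteDimensional F (AdjoinRoot (minpoly F θ)) := (AdjoinRoot.powerBasis hθ.ne_zero).finite
  have hfin : Finite (AdjoinRoot (minpoly F θ)) := Module.finite_of_finite F
  -- everything commuting with `θ` commutes with `K`
  have hcomm : ∀ f : V →ₗ[F] V, (∀ v, f (θ v) = θ (f v)) → ∀ (k : AdjoinRoot (minpoly F θ)) v, f (k • v) = k • f v := by
    intro f hf k v
    obtain ⟨P, rfl⟩ := AdjoinRoot.mk_surjective k
    rw [hsm, hsm]
    have h1 : Commute (f : Module.End F V) θ := LinearMap.ext hf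
    have h2 : Commute (f : Module.End F V) (Polynomial.aeval θ P) := by
      induction P using Polynomial.induction_on' with
      | add p q hp hq => rw [map_add]; exact hp.add_right hq
      | monomial n a =>
        rw [Polynomial.aeval_monomial]
        exact (Algebra.commute_algebraMap_right a _).mul_right (h1.pow_right n)
    exact LinearMap.congr_fun h2 v
  have h2 : 2 ≤ finrank F (AdjoinRoot (minpoly F θ)) := by
    by_contra hcon
    push Not at hcon
    have h3 : finrank F (AdjoinRoot (minpoly F θ)) = 1 := by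
      have := Module.finrank_pos (R := F) (M := AdjoinRoot (minpoly F θ))
      omega
    obtain ⟨c, hc⟩ := (finrank_eq_one_iff_of_nonzero' (1 : AdjoinRoot (minpoly F θ)) one_ne_zero).1 h3
      (AdjoinRoot.root (minpoly F θ))
    apply hθ1 c
    have h4 := congrArg φ hc
    rw [← map_one (AdjoinRoot.mk (minpoly F θ)), AdjoinRoot.smul_mk, hφ, ← AdjoinRoot.mk_X, hφ, Polynomial.aeval_X,
      map_smul, map_one] at h4
    rw [← h4, Algebra.algebraMap_eq_smul_one]
  have hs : ∀ (k : AdjoinRoot (minpoly F θ)) (u v : V), B (k • u) v = B u (k • v) := by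
    intro k u v
    obtain ⟨P, rfl⟩ := AdjoinRoot.mk_surjective k
    rw [hsm, hsm]
    have hpow : ∀ (n : ℕ) (u v : V), B ((θ ^ n) u) v = B u ((θ ^ n) v) := by
      intro n
      induction n with
      | zero => intro u v; rfl
      | succ n ih =>
        intro u v
        rw [pow_succ, Module.End.mul_apply, ih, hθs, ← Module.End.mul_apply, ← pow_succ', ← pow_succ]
    induction P using Polynomial.induction_on' with
    | add p q hp hq =>
      rw [map_add, LinearMap.add_apply, LinearMap.add_apply, map_add, LinearMap.add_apply, hp, hq, map_add]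
    | monomial n a =>
      rw [Polynomial.aeval_monomial, ← Algebra.smul_def, LinearMap.smul_apply, LinearMap.smul_apply, map_smul,
        LinearMap.smul_apply, hpow, map_smul]
  have hiff : ∀ i, (∃ k : AdjoinRoot (minpoly F θ), ∀ v, M i v = k • v) ↔
      ∃ P : Polynomial F, ∀ v, M i v = Polynomial.aeval θ P v := by
    intro i
    constructor
    · rintro ⟨k, hk⟩
      obtain ⟨P, rfl⟩ := AdjoinRoot.mk_surjective k
      exact ⟨P, fun v => by rw [hk, hsm]⟩
    · rintro ⟨P, hP⟩
      exact ⟨AdjoinRoot.mk _ P, fun v => by rw [hP, hsm]⟩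
  have hrule := m_rule_field E hIH h22 hx hcov hM h2 hs (fun i k v => hcomm (_hl i).lin.toLinearMap (hcm i) k v)
    (fun h3 h4 i j hi hj => hex h3 h4 i j (fun h => hi ((hiff i).2 h)) fun h => hj ((hiff j).2 h)) ω
  rcases hrule with h | ⟨i, hi, hω⟩
  · exact Or.inl fun t ht => h t (hcomm t.1.toLinearMap ht)
  · exact Or.inr ⟨i, (hiff i).1 hi, hω⟩

end rule

end Cfsg.Agent.H236.RC.D5
end

-- part: H579/RC/Sym
section
/-!
# S3510, row D: the case (SYM), final form (helper579)
-/

set_option autoImplicit false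
open Cfsg

namespace Cfsg.Agent.H579.RC

open MulAction Module Cfsg.Agent.H106.RC Cfsg.Agent.H520.RC

variable {F V : Type} [Field F] [Finite F] [AddCommGroup V] [Module F V] [FiniteDimensional F V]
  {B : LinearMap.BilinForm F V} {G : Type} [Group G] [Finite G] {Ω : Type} [Finite Ω] [Nonempty Ω] [MulAction G Ω]
  {N : Subgroup G} {ρ : ↥(Sp B) →* G} {ι : Type} [Finite ι] {x : ι → G} {r : ι → ℕ} {M : ι → SS B}

/-- (SYM) -/
theorem dead_sym (E : SpEnv Ω N ρ) (hIH : IH (Nat.card N)) (h2 : (2 : F) ≠ 0) (hx : PF x r) (hcov : Cov Ω x)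
    (hM : ∀ i, Lf ρ (x i) (M i)) (hl : ∀ i, (M i).IsLin) (i0 : ι) {δ : F} (hδ : ¬ IsSquare δ)
    (hsq : ∀ v, M i0 (M i0 v) = δ • v) (hmu : (M i0).l = δ)
    (hex : Nat.card F = 3 → finrank F V = 4 → ∀ i j, i ≠ i0 → j ≠ i0 → i = j) : False :=
  dead_sym_of E h2 hx hM hl i0 hδ hsq hmu hex (fun h22 θ h1 h3 h4 h5 h6 w =>
    Cfsg.Agent.H236.RC.D5.m_rule_K E hIH h22 hx hcov hM hl θ h1 h3 h4 h5 h6 w)

end Cfsg.Agent.H579.RC
end

private theorem dce_1dcf5dc4ee92 : _root_.True := by
  try have : _root_.True := by simp only [_root_.Cfsg.Agent.H520.RC.tv.congr_simp]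
  exact _root_.True.intro
end

-- part: H256/RC/ZBase
section
prune_inst 0xd0704100658002000018001462201e62ba000422004b0800200007000f890c428dc306e1ba100510028088c540340000031000100240000004000000091d0581000056003241a004c60018000000000000000000000000000000000000010000200000000
set_option linter.all false
open scoped Cfsg.Agent.FastGrp

-- part: H256/RC/TwK
section
/-!
# S3510, triality type (iii): the twisted product over a field extension (helper256)

`TK Q φ g m` : a product `m` on `V`, `φ⁻¹`-semilinear in the first and `φ`-semilinear in the second variable, with a bijection `g`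
and `m (m a b) (g a) = φ⁻²(Q a) b`, `m a (m b (g a)) = φ⁻¹(Q a) b`.

* `TK.sing_left`, `TK.sing_right` : the kernels of `m u` and `m · u` are totally singular;
* `Semi.finrank_le` : an injective semilinear map does not decrease the dimension;
* `TK.exists_zero` : zero divisors (the determinant argument);
* weights.
-/

set_option autoImplicit false

namespace Cfsg.Agent.H256.RC

open Module QuadraticMap Cfsg.Agent.LieClassical.OrthCore Cfsg.Agent.LieClassical.OrthTrans

universe u v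

variable {K : Type u} {V : Type v} [Field K] [AddCommGroup V] [Module K V]

/-- See the module docstring. -/
structure TK (Q : QuadraticForm K V) (φ : K ≃+* K) (g : V → V) (m : V → V → V) : Prop where
  add_left : ∀ a b c, m (a + b) c = m a c + m b c
  add_right : ∀ a b c, m a (b + c) = m a b + m a c
  smul_left : ∀ (k : K) a b, m (k • a) b = φ.symm k • m a b
  smul_right : ∀ (k : K) a b, m a (k • b) = φ k • m a b
  left : ∀ a b, m (m a b) (g a) = φ.symm (φ.symm (Q a)) • b
  right : ∀ a b, m a (m b (g a)) = φ.symm (Q a) • b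
  g_add : ∀ a b, g (a + b) = g a + g b
  g_smul : ∀ (k : K) a, g (k • a) = φ.symm (φ.symm (φ.symm k)) • g a
  g_surj : Function.Surjective g
  g_form : ∀ a, Q (g a) = φ.symm (φ.symm (φ.symm (Q a)))

variable {Q : QuadraticForm K V} {φ : K ≃+* K} {g : V → V} {m : V → V → V}

namespace TK

theorem zero_left (h : TK Q φ g m) (a : V) : m 0 a = 0 := by
  have := h.smul_left 0 0 a
  rwa [zero_smul, map_zero, zero_smul] at this

theorem zero_right (h : TK Q φ g m) (a : V) : m a 0 = 0 := by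
  have := h.smul_right 0 a 0
  rwa [zero_smul, map_zero, zero_smul] at this

theorem neg_left (h : TK Q φ g m) (a b : V) : m (-a) b = -m a b := by
  have := h.smul_left (-1) a b
  rwa [neg_one_smul, map_neg, map_one, neg_one_smul] at this

theorem neg_right (h : TK Q φ g m) (a b : V) : m a (-b) = -m a b := by
  have := h.smul_right (-1) a b
  rwa [neg_one_smul, map_neg, map_one, neg_one_smul] at this

theorem sub_left (h : TK Q φ g m) (a b c : V) : m (a - b) c = m a c - m b c := by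
  rw [sub_eq_add_neg, h.add_left, h.neg_left, ← sub_eq_add_neg]

/-- The linearised first law. -/
theorem lin1 (h : TK Q φ g m) (x y z : V) :
    m (m x y) (g z) + m (m z y) (g x) = φ.symm (φ.symm (polar Q x z)) • y := by
  have h1 := h.left (x + z) y
  rw [h.add_left, h.add_left, h.g_add, h.add_right, h.add_right, h.left, h.left, Q_add, map_add, map_add, map_add,
    map_add, add_smul, add_smul] at h1
  have h2 : m (m x y) (g z) + m (m z y) (g x) =
      (φ.symm (φ.symm (Q x)) • y + m (m x y) (g z) + (m (m z y) (g x) + φ.symm (φ.symm (Q z)) • y)) -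
        φ.symm (φ.symm (Q x)) • y - φ.symm (φ.symm (Q z)) • y := by abel
  rw [h2, h1]
  abel

/-- The linearised second law. -/
theorem lin2 (h : TK Q φ g m) (x y z : V) :
    m x (m y (g z)) + m z (m y (g x)) = φ.symm (polar Q x z) • y := by
  have h1 := h.right (x + z) y
  rw [h.add_left, h.g_add, h.add_right, h.add_right, h.add_right, h.right, h.right, Q_add, map_add, map_add,
    add_smul, add_smul] at h1
  have h2 : m x (m y (g z)) + m z (m y (g x)) =
      (φ.symm (Q x) • y + m x (m y (g z)) + (m z (m y (g x)) + φ.symm (Q z) • y)) -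
        φ.symm (Q x) • y - φ.symm (Q z) • y := by abel
  rw [h2, h1]
  abel

theorem g_inj (h : TK Q φ g m) (hQ : Nondeg Q) {x : V} (hx : g x = 0) : x = 0 := by
  apply hQ
  intro y
  have h1 : polar Q (g x) (g y) = φ.symm (φ.symm (φ.symm (polar Q x y))) := by
    rw [QuadraticMap.polar, ← h.g_add, h.g_form, h.g_form, h.g_form, ← map_sub, ← map_sub, ← map_sub, ← map_sub,
      ← map_sub, ← map_sub]
    rfl
  rw [hx, polar_zero_left] at h1
  exact φ.symm.injective (φ.symm.injective (φ.symm.injective (by rw [← h1, map_zero, map_zero, map_zero])))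

theorem polar_g (h : TK Q φ g m) (x y : V) :
    polar Q (g x) (g y) = φ.symm (φ.symm (φ.symm (polar Q x y))) := by
  rw [QuadraticMap.polar, ← h.g_add, h.g_form, h.g_form, h.g_form, ← map_sub, ← map_sub, ← map_sub, ← map_sub, ← map_sub,
    ← map_sub]
  rfl

/-- The kernel of `m u` is totally singular. -/
theorem sing_left (h : TK Q φ g m) {u x y : V} (hu : u ≠ 0) (hx : m u x = 0) (hy : m u y = 0) : polar Q x y = 0 := by
  obtain ⟨x', rfl⟩ := h.g_surj x
  obtain ⟨y', rfl⟩ := h.g_surj y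
  have h1 := h.lin2 x' u y'
  rw [hx, hy, h.zero_right, h.zero_right, add_zero] at h1
  have h2 := (smul_eq_zero.1 h1.symm).resolve_right hu
  rw [h.polar_g, h2, map_zero, map_zero]

/-- The kernel of `m · u` is totally singular. -/
theorem sing_right (h : TK Q φ g m) {u x y : V} (hu : u ≠ 0) (hx : m x u = 0) (hy : m y u = 0) : polar Q x y = 0 := by
  have h1 := h.lin1 x u y
  rw [hx, hy, h.zero_left, h.zero_left, add_zero] at h1
  have h2 := (smul_eq_zero.1 h1.symm).resolve_right hu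
  exact φ.symm.injective (φ.symm.injective (by rw [h2, map_zero, map_zero]))

/-- no zero divisors against a zero weight space: `x ⋄ w = 0` for some `x` not orthogonal to `u` -/
theorem eq_zero_of (h : TK Q φ g m) {u x w : V} (hux : polar Q u x ≠ 0) (h1 : m u w = 0) (h2 : m x w = 0) : w = 0 := by
  by_contra hw
  exact hux (h.sing_right hw h1 h2)

theorem eq_zero_of' (h : TK Q φ g m) {u x w : V} (hux : polar Q u x ≠ 0) (h1 : m w u = 0) (h2 : m w x = 0) : w = 0 := by
  by_contra hw
  exact hux (h.sing_left hw h1 h2)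

end TK

/-! ### Semilinear maps -/

section Semi

variable {W : Type*} [AddCommGroup W] [Module K W] {ψ : K ≃+* K}

/-- the linear map with the same values on a basis -/
noncomputable def linB {ι : Type*} (b : Basis ι K V) (f : V → W) : V →ₗ[K] W := b.constr K (fun i => f (b i))

theorem linB_basis {ι : Type*} (b : Basis ι K V) (f : V → W) (i : ι) : linB b f (b i) = f (b i) := by
  rw [linB, Basis.constr_basis]

/-- the coordinatewise map -/
noncomputable def coB {ι : Type*} [Fintype ι] (b : Basis ι K V) (ψ : K ≃+* K) (v : V) : V := ∑ i, ψ (b.repr v i) • b i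

theorem coB_surj {ι : Type*} [Fintype ι] (b : Basis ι K V) (ψ : K ≃+* K) (v : V) : coB b ψ (coB b ψ.symm v) = v := by
  rw [coB]
  have h1 : ∀ i, b.repr (coB b ψ.symm v) i = ψ.symm (b.repr v i) := by
    intro i
    rw [coB, map_sum, Finsupp.finsetSum_apply, Finset.sum_eq_single i]
    · rw [map_smul, Finsupp.smul_apply, Basis.repr_self, Finsupp.single_eq_same, smul_eq_mul, mul_one]
    · intro j _ hj
      rw [map_smul, Finsupp.smul_apply, Basis.repr_self, Finsupp.single_eq_of_ne (fun h => hj (by first | exact h | exact h.symm)),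
        smul_eq_mul, mul_zero]
    · intro hi
      exact absurd (Finset.mem_univ i) hi
  calc ∑ i, ψ (b.repr (coB b ψ.symm v) i) • b i = ∑ i, b.repr v i • b i := by
        refine Finset.sum_congr rfl fun i _ => ?_
        rw [h1, RingEquiv.apply_symm_apply]
    _ = v := b.sum_repr v

theorem semi_sum {ι : Type*} (s : Finset ι) (f : V → W) (ha : ∀ x y, f (x + y) = f x + f y) (h0 : f 0 = 0) (x : ι → V) :
    f (∑ i ∈ s, x i) = ∑ i ∈ s, f (x i) := by
  classical
  induction s using Finset.induction_on with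
  | empty => rw [Finset.sum_empty, Finset.sum_empty, h0]
  | insert a s ha' ih => rw [Finset.sum_insert ha', Finset.sum_insert ha', ha, ih]

/-- a semilinear map is the linear map composed with the coordinatewise map -/
theorem semi_eq {ι : Type*} [Fintype ι] (b : Basis ι K V) (f : V → W) (ha : ∀ x y, f (x + y) = f x + f y)
    (hs : ∀ (k : K) x, f (k • x) = ψ k • f x) (v : V) : f v = linB b f (coB b ψ v) := by
  have h0 : f 0 = 0 := by
    have := hs 0 0
    rwa [zero_smul, map_zero, zero_smul] at this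
  conv_lhs => rw [← b.sum_repr v]
  rw [semi_sum _ f ha h0, coB, map_sum]
  refine Finset.sum_congr rfl fun i _ => ?_
  rw [hs, map_smul, linB_basis]

theorem coB_inj {ι : Type*} [Fintype ι] (b : Basis ι K V) (ψ : K ≃+* K) (v : V) (h : coB b ψ v = 0) : v = 0 := by
  have h1 : coB b ψ.symm (coB b ψ v) = v := by
    have := coB_surj b ψ.symm v
    rwa [RingEquiv.symm_symm] at this
  rw [← h1, h, coB]
  simp

/-- An injective semilinear map does not decrease the dimension. -/
theorem semi_finrank_le [FiniteDimensional K V] [FiniteDimensional K W] (f : V → W)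
    (ha : ∀ x y, f (x + y) = f x + f y) (hs : ∀ (k : K) x, f (k • x) = ψ k • f x) (hi : ∀ x, f x = 0 → x = 0) :
    finrank K V ≤ finrank K W := by
  let b := Module.finBasis K V
  apply LinearMap.finrank_le_finrank_of_injective (f := linB b f)
  rw [injective_iff_map_eq_zero]
  intro v hv
  rw [← coB_surj b ψ v, ← semi_eq b f ha hs] at hv
  rw [← coB_surj b ψ v, hi _ hv, coB]
  simp

/-- The determinant argument. -/
theorem semi_exists_eigen [IsAlgClosed K] [FiniteDimensional K V] [FiniteDimensional K W] (f₁ f₂ : V → W)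
    (ha : ∀ x y, f₁ (x + y) = f₁ x + f₁ y) (hs : ∀ (k : K) x, f₁ (k • x) = ψ k • f₁ x)
    (ha' : ∀ x y, f₂ (x + y) = f₂ x + f₂ y) (hs' : ∀ (k : K) x, f₂ (k • x) = ψ k • f₂ x)
    (hd : finrank K W ≤ finrank K V) (h0 : 0 < finrank K V) (hi : ∀ x, f₁ x = 0 → x = 0) :
    ∃ (c : K) (x : V), x ≠ 0 ∧ f₂ x = c • f₁ x := by
  let b := Module.finBasis K V
  have h1 : Function.Injective (linB b f₁) := by
    rw [injective_iff_map_eq_zero]
    intro v hv
    rw [← coB_surj b ψ v, ← semi_eq b f₁ ha hs] at hv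
    rw [← coB_surj b ψ v, hi _ hv, coB]
    simp
  have h2 : finrank K V = finrank K W := le_antisymm (LinearMap.finrank_le_finrank_of_injective h1) hd
  let e : V ≃ₗ[K] W := LinearEquiv.ofInjectiveOfFinrankEq (linB b f₁) h1 h2
  have he : ∀ v, e v = linB b f₁ v := fun v => rfl
  have : Nontrivial V := Module.finrank_pos_iff.1 h0
  obtain ⟨c, hc⟩ := Module.End.exists_eigenvalue ((e.symm : W →ₗ[K] V).comp (linB b f₂))
  obtain ⟨v, hv⟩ := hc.exists_hasEigenvector
  have h3 : linB b f₂ v = c • linB b f₁ v := by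
    have h4 := hv.apply_eq_smul
    have h5 := congrArg e h4
    rw [map_smul, he, he, LinearMap.comp_apply] at h5
    rw [← h5, ← he]
    exact (e.apply_symm_apply _).symm
  refine ⟨c, coB b ψ.symm v, ?_, ?_⟩
  · intro h6
    exact hv.2 (coB_inj b ψ.symm v h6)
  · rw [semi_eq b f₂ ha' hs', semi_eq b f₁ ha hs, coB_surj]
    exact h3

end Semi

/-- The determinant argument: zero divisors. `A`, `B`, `C` subspaces, `A ⋄ B ≤ C`, `dim A ≥ 2`, `dim B ≥ dim C`, `B ≠ 0`. -/
theorem TK.exists_zero [IsAlgClosed K] [FiniteDimensional K V] (h : TK Q φ g m) {A B C : Submodule K V}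
    (hm : ∀ x ∈ A, ∀ y ∈ B, m x y ∈ C) (hA : 2 ≤ finrank K A) (hB : 0 < finrank K B)
    (hd : finrank K C ≤ finrank K B) : ∃ x ∈ A, ∃ y ∈ B, x ≠ 0 ∧ y ≠ 0 ∧ m x y = 0 := by
  by_contra hcon
  push Not at hcon
  have hpos : 0 < finrank K A := by omega
  have : Nontrivial A := Module.finrank_pos_iff.1 hpos
  obtain ⟨x₁, hx₁⟩ := exists_ne (0 : A)
  have hlt : finrank K (K ∙ x₁) < finrank K A := by
    rw [finrank_span_singleton hx₁]; omega
  obtain ⟨x₂, hx₂⟩ : ∃ x₂ : A, x₂ ∉ (K ∙ x₁) := by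
    by_contra hn
    push Not at hn
    have : (K ∙ x₁) = ⊤ := by
      rw [eq_top_iff]
      intro y _
      exact hn y
    rw [this, finrank_top] at hlt
    exact lt_irrefl _ hlt
  let f : A → B → C := fun x y => ⟨m x y, hm x x.2 y y.2⟩
  obtain ⟨c, y, hy, hc⟩ := semi_exists_eigen (K := K) (ψ := φ) (f x₁) (f x₂)
    (fun a b => Subtype.ext (h.add_right _ _ _)) (fun k a => Subtype.ext (h.smul_right _ _ _))
    (fun a b => Subtype.ext (h.add_right _ _ _)) (fun k a => Subtype.ext (h.smul_right _ _ _)) hd hB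
    (fun y hy => by
      by_contra hy0
      exact hcon x₁ x₁.2 y y.2 (fun h0 => hx₁ (Subtype.ext h0)) (fun h0 => hy0 (Subtype.ext h0))
        (congrArg Subtype.val hy))
  have hc' : m (x₂ : V) y = c • m (x₁ : V) y := congrArg Subtype.val hc
  refine hcon ((x₂ : V) - φ c • (x₁ : V)) (A.sub_mem x₂.2 (A.smul_mem _ x₁.2)) y y.2 ?_
    (fun h0 => hy (Subtype.ext h0)) ?_
  · intro h0
    apply hx₂
    rw [Submodule.mem_span_singleton]
    exact ⟨φ c, Subtype.ext (sub_eq_zero.1 h0).symm⟩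
  · rw [h.sub_left, h.smul_left, RingEquiv.symm_apply_apply, hc', sub_self]

end Cfsg.Agent.H256.RC
end

-- part: H256/RC/ZBase
section
/-!
# S3510, triality type (iii): base lemmas (helper256)

* `BQ` : the fixed field of a field automorphism of order three;
* `tc_dia`, `tc_fG`, `dia_norm`, `dia_assoc`, `dia_polar` : the twisted composition `dia τ`;
* `NT`, `Z1` : fixed spaces of automorphisms have dimension at most four.
-/

set_option autoImplicit false

namespace Cfsg.Agent.H256.RC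

open Module QuadraticMap Cfsg.Agent.LieClassical.OrthCore Cfsg.Agent.LieClassical.OrthTrans
  Cfsg.Agent.LieClassical.OrthSimple Cfsg.Agent.ClassicalGeometry.OrthAut1
  Cfsg.Agent.ClassicalGeometry.OrthSemi Cfsg.Agent.H198.Classes
  Cfsg.Agent.LieClassical.QuadForms Cfsg.Agent.H198.ClassesPlus
  Cfsg.Agent.ClassicalGeometry.TrialityOct Cfsg.Agent.ClassicalGeometry.Triality
  Cfsg.Agent.ClassicalGeometry.TrialitySpaces Cfsg.Agent.H198.TriBase Cfsg.Agent.H198.TriAut
  Cfsg.Agent.H198.TriDia Cfsg.Agent.H198.TriTC Cfsg.Agent.H198.TwComp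

universe u

/-! ### the fixed field -/

theorem BQ {F : Type u} [Field F] [Finite F] {s : F ≃+* F} (h3 : ∀ a, s (s (s a)) = a) (hne : s ≠ RingEquiv.refl F) :
    ∃ q0 : ℕ, 2 ≤ q0 ∧ Nat.card F = q0 ^ 3 ∧ IsPrimePow q0 ∧ (∀ a : F, s a = a ↔ a ^ q0 = a) ∧
      ((∀ a : F, s a = a ^ q0) ∨ ∀ a : F, s a = a ^ (q0 ^ 2)) := by
  obtain ⟨p, hp⟩ := CharP.exists F
  have hpp : p.Prime := (CharP.char_is_prime_or_zero F p).resolve_right
    (fun h0 => CharP.char_ne_zero_of_finite F p h0)
  have : Fact p.Prime := ⟨hpp⟩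
  let _ : Algebra (ZMod p) F := ZMod.algebra F p
  have : Module.Finite (ZMod p) F := Module.Finite.of_finite
  set n := Module.finrank (ZMod p) F with hn
  have hn0 : 0 < n := Module.finrank_pos
  have hcard : Nat.card F = p ^ n := by
    have h1 := Module.natCard_eq_pow_finrank (K := ZMod p) (V := F)
    rwa [Nat.card_zmod] at h1
  -- `s` as an algebra automorphism
  let s' : F ≃ₐ[ZMod p] F := AlgEquiv.ofRingEquiv (f := s) (fun x => by
    obtain ⟨k, rfl⟩ := ZMod.intCast_surjective x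
    rw [map_intCast, map_intCast])
  obtain ⟨⟨j, hj⟩, hsj⟩ := (FiniteField.bijective_frobeniusAlgEquivOfAlgebraic_pow (ZMod p) F).2 s'
  have hpow : ∀ (k : ℕ) (a : F), (FiniteField.frobeniusAlgEquivOfAlgebraic (ZMod p) F ^ k) a = a ^ p ^ k := by
    intro k a
    rw [AlgEquiv.coe_pow, FiniteField.coe_frobeniusAlgEquivOfAlgebraic_iterate, ZMod.card]
  have hs : ∀ a, s a = a ^ p ^ j := by
    intro a
    rw [← hpow]
    exact (congrArg (fun z : F ≃ₐ[ZMod p] F => z a) hsj).symm
  have hord : orderOf (FiniteField.frobeniusAlgEquivOfAlgebraic (ZMod p) F) = n :=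
    FiniteField.orderOf_frobeniusAlgEquivOfAlgebraic (ZMod p) F
  have h3j : FiniteField.frobeniusAlgEquivOfAlgebraic (ZMod p) F ^ (3 * j) = 1 := by
    ext a
    rw [hpow, AlgEquiv.one_apply]
    have h1 := h3 a
    rw [hs, hs, hs, ← pow_mul, ← pow_mul] at h1
    conv_rhs => rw [← h1]
    congr 1
    ring
  have hdvd : n ∣ 3 * j := by rw [← hord]; exact orderOf_dvd_of_pow_eq_one h3j
  have hj0 : j ≠ 0 := by
    rintro rfl
    apply hne
    ext a
    rw [hs, pow_zero, pow_one, RingEquiv.refl_apply]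
  obtain ⟨k, hk⟩ := hdvd
  have hj' : j < n := hj
  have hfin : ∀ a : F, a ^ Nat.card F = a := fun a => by
    have := Fintype.ofFinite F
    rw [Nat.card_eq_fintype_card]; exact FiniteField.pow_card a
  have hk2 : k = 1 ∨ k = 2 := by
    have h1 : k < 3 := by
      by_contra h
      push Not at h
      have : n * 3 ≤ n * k := Nat.mul_le_mul_left n h
      omega
    have h2 : k ≠ 0 := by
      rintro rfl
      omega
    omega
  obtain ⟨m, hm, hjm⟩ : ∃ m, n = 3 * m ∧ (j = m ∨ j = 2 * m) := by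
    rcases hk2 with rfl | rfl
    · exact ⟨j, by omega, Or.inl rfl⟩
    · have : 3 ∣ n := by
        have h1 : 3 ∣ n * 2 := ⟨j, by omega⟩
        exact (Nat.Coprime.dvd_of_dvd_mul_right (by norm_num) h1)
      obtain ⟨m, hm⟩ := this
      exact ⟨m, hm, Or.inr (by omega)⟩
  have hm0 : m ≠ 0 := by
    rintro rfl
    omega
  have hc3 : Nat.card F = (p ^ m) ^ 3 := by rw [hcard, hm, ← pow_mul, mul_comm]
  have hcase : (∀ a : F, s a = a ^ (p ^ m)) ∨ ∀ a : F, s a = a ^ ((p ^ m) ^ 2) := by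
    rcases hjm with rfl | rfl
    · exact Or.inl hs
    · refine Or.inr fun a => ?_
      rw [hs, ← pow_mul, mul_comm]
  refine ⟨p ^ m, ?_, hc3, ?_, ?_, hcase⟩
  · calc 2 ≤ p := hpp.two_le
      _ = p ^ 1 := (pow_one p).symm
      _ ≤ p ^ m := Nat.pow_le_pow_right hpp.pos (Nat.pos_of_ne_zero hm0)
  · exact ⟨p, m, hpp.prime, Nat.pos_of_ne_zero hm0, rfl⟩
  · intro a
    rcases hcase with h | h
    · rw [h]
    · constructor
      · intro ha
        have h1 : s (s a) = a := by rw [ha, ha]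
        rw [h, h, ← pow_mul] at h1
        have h2 : a ^ ((p ^ m) ^ 2 * (p ^ m) ^ 2) = a ^ (p ^ m) := by
          have h4 : (p ^ m) ^ 2 * (p ^ m) ^ 2 = Nat.card F * p ^ m := by rw [hc3]; ring
          rw [h4, pow_mul, hfin]
        rw [← h2]
        exact h1
      · intro ha
        rw [h, pow_two, pow_mul, ha, ha]

/-! ### the twisted composition -/

section dia

variable {F : Type u} [Field F] {τ : G8 F} {σ : F ≃+* F}

theorem tau_t3 (h3 : τ ^ 3 = 1) (x : V8 F) : τ.1 (τ.1 (τ.1 x)) = x := by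
  have h1 := congrArg (fun z : G8 F => z.1 x) h3
  rw [pow_three] at h1
  exact h1

theorem tau_inv (h3 : τ ^ 3 = 1) (x : V8 F) : τ⁻¹.1 x = τ.1 (τ.1 x) := by
  have h1 : τ⁻¹.1 (τ.1 (τ.1 (τ.1 x))) = τ.1 (τ.1 x) := τ.1.symm_apply_apply _
  rwa [tau_t3 h3] at h1

theorem tau_sigma3 (hs : IsSS (plusForm 4 F) σ 1 τ.1) (h3 : τ ^ 3 = 1) (a : F) : σ (σ (σ a)) = a := by
  have h1 := tau_t3 h3 (a • one8 F)
  rw [hs.smul, hs.smul, hs.smul, tau_t3 h3] at h1
  have h2 : (σ (σ (σ a)) - a) • one8 F = 0 := by rw [sub_smul, h1, sub_self]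
  rcases smul_eq_zero.1 h2 with h3' | h3'
  · exact sub_eq_zero.1 h3'
  · exfalso
    have h5 := norm_one8 (F := F)
    rw [h3', QuadraticMap.map_zero] at h5
    exact zero_ne_one h5

theorem dia_eq (hτ : TriS τ τ τ) (h3 : τ ^ 3 = 1) (u w : V8 F) :
    dia τ u w = omul (oconj (τ.1 (τ.1 u))) (oconj (τ.1 w)) := by
  rw [dia, tau_inv h3, aut_oconj hτ, aut_oconj hτ, aut_oconj hτ]

theorem polar_tau (hs : IsSS (plusForm 4 F) σ 1 τ.1) (x y : V8 F) :
    polar (plusForm 4 F) (τ.1 x) (τ.1 y) = σ (polar (plusForm 4 F) x y) := by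
  rw [hs.polar, one_mul]

/-- `dia τ` is a twisted symmetric composition -/
theorem tc_dia (hτ : TriS τ τ τ) (h3 : τ ^ 3 = 1) (hs : IsSS (plusForm 4 F) σ 1 τ.1) :
    TC (plusForm 4 F) σ (dia τ) := by
  have hσ := tau_sigma3 hs h3
  have hσ2 : ∀ k, σ (σ k) = σ.symm k := fun k => by
    apply σ.injective
    rw [hσ, RingEquiv.apply_symm_apply]
  have hn : ∀ x, plusForm 4 F (τ.1 x) = σ (plusForm 4 F x) := fun x => by rw [hs.form, one_mul]
  refine ⟨fun a b c => ?_, fun a b c => ?_, fun k a b => ?_, fun k a b => ?_, fun a b => ?_, fun a b => ?_, hσ⟩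
  · rw [dia_eq hτ h3, dia_eq hτ h3, dia_eq hτ h3, hs.add, hs.add, oconj_add, add_omul]
  · rw [dia_eq hτ h3, dia_eq hτ h3, dia_eq hτ h3, hs.add, oconj_add, omul_add]
  · rw [dia_eq hτ h3, dia_eq hτ h3, hs.smul, hs.smul, oconj_smul, smul_omul, hσ2]
  · rw [dia_eq hτ h3, dia_eq hτ h3, hs.smul, oconj_smul, omul_smul]
  · have e1 : oconj (τ.1 (τ.1 (dia τ a b))) = omul b (τ.1 a) := by
      rw [dia_eq hτ h3, hτ, hτ, aut_oconj hτ, aut_oconj hτ, tau_t3 h3, aut_oconj hτ, aut_oconj hτ, tau_t3 h3,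
        oconj_omul, oconj_oconj, oconj_oconj]
    rw [dia_eq hτ h3 (dia τ a b) a, e1, omul_omul_oconj, hn]
  · have e1 : oconj (τ.1 (dia τ b a)) = omul (τ.1 (τ.1 a)) b := by
      rw [dia_eq hτ h3, hτ, aut_oconj hτ, aut_oconj hτ, tau_t3 h3, oconj_omul, oconj_oconj, oconj_oconj]
    rw [dia_eq hτ h3 a (dia τ b a), e1, oconj_omul_omul, hn, hn, hσ2]

/-- associativity of the polar form -/
theorem dia_assoc (hτ : TriS τ τ τ) (h3 : τ ^ 3 = 1) (hs : IsSS (plusForm 4 F) σ 1 τ.1) (u w z : V8 F) :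
    polar (plusForm 4 F) (dia τ u w) z = σ (σ (polar (plusForm 4 F) u (dia τ w z))) := by
  have e1 : τ.1 (τ.1 (dia τ w z)) = omul (oconj (τ.1 w)) (oconj z) := by
    rw [dia_eq hτ h3, hτ, hτ, aut_oconj hτ, aut_oconj hτ, tau_t3 h3, aut_oconj hτ, aut_oconj hτ, tau_t3 h3]
  have e2 : ∀ x y : V8 F, polar (plusForm 4 F) (oconj x) (oconj y) = polar (plusForm 4 F) x y := by
    intro x y
    simp only [QuadraticMap.polar]
    rw [← oconj_add, norm_oconj, norm_oconj, norm_oconj]
  rw [← polar_tau hs, ← polar_tau hs, e1, dia_eq hτ h3, polar_omul, oconj_oconj, ← e2, oconj_omul, oconj_oconj]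

end dia

section fG

variable {F : Type u} [Field F]

theorem fG_cube {s : F ≃+* F} (h3 : ∀ a, s (s (s a)) = a) : (fG s) ^ 3 = 1 := by
  apply Subtype.ext
  apply Equiv.ext
  intro v
  rw [pow_three]
  show (fG s).1 ((fG s).1 ((fG s).1 v)) = v
  funext i
  rw [fG_apply, fG_apply, fG_apply, h3]

theorem tc_fG {s : F ≃+* F} (h3 : ∀ a, s (s (s a)) = a) : TC (plusForm 4 F) s (dia (fG s)) :=
  tc_dia (tri_fG s) (fG_cube h3) (isSS_fP s)

theorem dia_norm {s : F ≃+* F} (u w : V8 F) :
    plusForm 4 F (dia (fG s) u w) = s.symm (plusForm 4 F u) * s (plusForm 4 F w) := by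
  have h1 : IsSS (plusForm 4 F) s 1 (fG s).1 := isSS_fP s
  have h2 : IsSS (plusForm 4 F) s.symm (s.symm 1⁻¹) (fG s)⁻¹.1 := h1.inv
  rw [dia, norm_omul, h1.form, h2.form, norm_oconj, norm_oconj, inv_one, map_one, one_mul, one_mul]

theorem dia_polar {s : F ≃+* F} (h3 : ∀ a, s (s (s a)) = a) (u v w : V8 F) :
    polar (plusForm 4 F) (dia (fG s) v w) u = s (polar (plusForm 4 F) (dia (fG s) u v) w) := by
  have h1 := dia_assoc (tri_fG s) (fG_cube h3) (isSS_fP s) u v w
  rw [h1, h3, polar_comm]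

end fG

/-! ### fixed spaces -/

section perp

variable {K : Type u} {V : Type*} [Field K] [AddCommGroup V] [Module K V] [FiniteDimensional K V] {Q : QuadraticForm K V}

end perp

section NT

variable {F : Type u} [Field F]

theorem AutD_norm {τ : G8 F} {c : V8 F ≃ₗ[F] V8 F} (hc : c ∈ AutD τ) (x : V8 F) :
    plusForm 4 F (c x) = plusForm 4 F x := E_le_O hc.1 x

theorem AutD_polar {τ : G8 F} {c : V8 F ≃ₗ[F] V8 F} (hc : c ∈ AutD τ) (x y : V8 F) :
    polar (plusForm 4 F) (c x) (c y) = polar (plusForm 4 F) x y := by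
  simp only [QuadraticMap.polar]
  rw [← map_add, AutD_norm hc, AutD_norm hc, AutD_norm hc]

end NT

end Cfsg.Agent.H256.RC
end

private theorem dce_234878eba628 : _root_.True := by
  try have : _root_.True := by simp only [_root_.Cfsg.Agent.H256.RC.coB.eq_1]
  try have : _root_.True := by simp only [_root_.Cfsg.Agent.H256.RC.linB.eq_1]
  exact _root_.True.intro
end

-- part: H393/RC/TriZ9
section
prune_inst 0xd070650475e202000018201462001e66fa0000000008080028000f0007892c428d4208e0be90051280a00044483c002003100000424000000e000400091d05810080140010410000c20008000100000000000000000000000000000000010000200000000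
set_option linter.all false
open scoped Cfsg.Agent.FastGrp

-- part: H393/RC/TriZ
section
/-!
# S3510, triality, type iii: automorphisms of the twisted composition (helper393)

Facts on linear automorphisms `c ∈ O Q` of prime order `l` of a twisted symmetric composition (`H198.TwComp.TC`) of
dimension eight over a finite field:

* `core` : if `Fix c ≠ 0`, the order modulo `l` of the exponent of `σ` is `< 8`;
* `z9` : `l ∣ q² ± q + 1`, `l ≠ 3` does not occur;
* `z4_fix` : `l ∣ q0² + 1` odd: `Fix c = 0`;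
* `za` : `b⁶ = 1`, `b² ≠ 1` mod `l` (`b` the exponent of `σ`) : `Fix c = 0` or `dim Fix c = 2`.
-/

set_option autoImplicit false
set_option linter.unusedSectionVars false

namespace Cfsg.Agent.H393.TZ

open Module QuadraticMap Cfsg.Agent.LieClassical.OrthCore Cfsg.Agent.LieClassical.OrthTrans
  Cfsg.Agent.H198.TwComp

section abs

variable {F V : Type*} [Field F] [AddCommGroup V] [Module F V]

variable {Q : QuadraticForm F V} {σ : F ≃+* F} {st : V → V → V}

/-! ### Minimal polynomials and semilinear maps -/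

section semi

variable {W : Type*} [AddCommGroup W] [Module F W]

theorem semi_aeval {σ : F ≃+* F} {c : W →ₗ[F] W} {S : W → W} (hadd : ∀ x y, S (x + y) = S x + S y)
    (hsm : ∀ (a : F) x, S (a • x) = σ a • S x) (hc : ∀ x, S (c x) = c (S x)) (P : Polynomial F) (x : W) :
    S (Polynomial.aeval c P x) = Polynomial.aeval c (P.map (σ : F →+* F)) (S x) := by
  induction P using Polynomial.induction_on' with
  | add P P' h h' =>
    rw [map_add, LinearMap.add_apply, hadd, h, h', Polynomial.map_add, map_add, LinearMap.add_apply]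
  | monomial n a =>
    have hpow : ∀ (n : ℕ) (x : W), S ((c ^ n) x) = (c ^ n) (S x) := by
      intro n
      induction n with
      | zero => intro x; rfl
      | succ n ih =>
        intro x
        rw [pow_succ, Module.End.mul_apply, Module.End.mul_apply, ih, hc]
    rw [Polynomial.map_monomial, Polynomial.aeval_monomial, Polynomial.aeval_monomial, Module.End.mul_apply,
      Module.End.mul_apply, Module.algebraMap_end_apply, Module.algebraMap_end_apply, hsm, hpow]
    rfl

theorem minpoly_map [FiniteDimensional F W] {σ : F ≃+* F} {c : W →ₗ[F] W} {S : W → W} (hS : Function.Surjective S)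
    (hadd : ∀ x y, S (x + y) = S x + S y)
    (hsm : ∀ (a : F) x, S (a • x) = σ a • S x) (hc : ∀ x, S (c x) = c (S x)) :
    (minpoly F c).map (σ : F →+* F) = minpoly F c := by
  have hint : IsIntegral F c := Algebra.IsIntegral.isIntegral c
  have h1 : Polynomial.aeval c ((minpoly F c).map (σ : F →+* F)) = 0 := by
    apply LinearMap.ext
    intro y
    obtain ⟨x, rfl⟩ := hS y
    rw [← semi_aeval hadd hsm hc, minpoly.aeval]
    have h0 := hsm 0 0
    rw [zero_smul, map_zero, zero_smul] at h0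
    exact h0
  have h2 := minpoly.dvd F c h1
  exact Polynomial.eq_of_monic_of_dvd_of_natDegree_le (minpoly.monic hint) ((minpoly.monic hint).map _) h2
    (Polynomial.natDegree_map_le)

/-- a root of the minimal polynomial of a fixed-point-free map of order `l` -/
theorem exists_root [FiniteDimensional F W] [Nontrivial W] {p : ℕ} [CharP F p] [Fact p.Prime]
    {c : W →ₗ[F] W} {l : ℕ} (hl : l.Prime) (hlp : l ≠ p) (hcl : c ^ l = 1) (hfix : ∀ x, c x = x → x = 0) :
    ∃ ζ : AlgebraicClosure F, orderOf ζ = l ∧ Polynomial.aeval ζ (minpoly F c) = 0 := by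
  have hint : IsIntegral F c := Algebra.IsIntegral.isIntegral c
  set μ := minpoly F c with hμ
  -- the geometric sum
  have hΦ : Polynomial.aeval c (∑ i ∈ Finset.range l, (Polynomial.X : Polynomial F) ^ i) = 0 := by
    apply LinearMap.ext
    intro x
    rw [LinearMap.zero_apply]
    apply hfix
    have h1 : Polynomial.aeval c ((Polynomial.X - 1 : Polynomial F) * ∑ i ∈ Finset.range l, (Polynomial.X : Polynomial F) ^ i) = 0 := by
      rw [mul_geom_sum, map_sub, map_pow, Polynomial.aeval_X, hcl, map_one, sub_self]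
    rw [map_mul, map_sub, Polynomial.aeval_X, map_one] at h1
    have h2 := LinearMap.congr_fun h1 x
    rw [Module.End.mul_apply, LinearMap.sub_apply, Module.End.one_apply, LinearMap.zero_apply, sub_eq_zero] at h2
    exact h2
  have hdvd : μ ∣ ∑ i ∈ Finset.range l, (Polynomial.X : Polynomial F) ^ i := minpoly.dvd F c hΦ
  obtain ⟨ζ, hζ⟩ := IsAlgClosed.exists_aeval_eq_zero (AlgebraicClosure F) μ (minpoly.degree_pos hint).ne'
  have hpc : CharP (AlgebraicClosure F) p := charP_of_injective_algebraMap (algebraMap F (AlgebraicClosure F)).injective p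
  have hζΦ : ∑ i ∈ Finset.range l, ζ ^ i = 0 := by
    obtain ⟨R, hR⟩ := hdvd
    have h1 := congrArg (Polynomial.aeval ζ) hR
    rw [map_mul, hζ, zero_mul, map_sum] at h1
    simpa using h1
  have hζl : ζ ^ l = 1 := by
    have h1 := mul_geom_sum ζ l
    rw [hζΦ, mul_zero] at h1
    exact (sub_eq_zero.1 h1.symm)
  have hζ1 : ζ ≠ 1 := by
    rintro rfl
    simp only [one_pow, Finset.sum_const, Finset.card_range, nsmul_eq_mul, mul_one] at hζΦ
    have h1 := (CharP.cast_eq_zero_iff (AlgebraicClosure F) p l).1 hζΦ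
    rcases (Nat.dvd_prime hl).1 h1 with h2 | h2
    · exact (Fact.out : p.Prime).one_lt.ne' h2
    · exact hlp h2.symm
  have hfl : Fact l.Prime := ⟨hl⟩
  exact ⟨ζ, orderOf_eq_prime hζl hζ1, hζ⟩

/-- the roots of a `σ`-stable polynomial are closed under the power map -/
theorem root_pow {σ : F ≃+* F} {p n : ℕ} [CharP F p] [Fact p.Prime] (hσ : ∀ a : F, σ a = a ^ (p ^ n))
    {μ : Polynomial F} (hmap : μ.map (σ : F →+* F) = μ) {y : AlgebraicClosure F} (hy : Polynomial.aeval y μ = 0) :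
    Polynomial.aeval (y ^ (p ^ n)) μ = 0 := by
  have hpc : CharP (AlgebraicClosure F) p := charP_of_injective_algebraMap (algebraMap F (AlgebraicClosure F)).injective p
  have h1 := congrArg (iterateFrobenius (AlgebraicClosure F) p n) hy
  rw [Polynomial.aeval_def, Polynomial.hom_eval₂, map_zero, iterateFrobenius_def] at h1
  have h2 : (iterateFrobenius (AlgebraicClosure F) p n).comp (algebraMap F (AlgebraicClosure F)) =
      (algebraMap F (AlgebraicClosure F)).comp (σ : F →+* F) := by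
    ext a
    rw [RingHom.comp_apply, RingHom.comp_apply, iterateFrobenius_def]
    show _ = algebraMap F (AlgebraicClosure F) (σ a)
    rw [hσ, map_pow]
  rw [h2, ← Polynomial.eval₂_map, hmap] at h1
  rw [Polynomial.aeval_def]
  exact h1

/-- the order of the exponent of a power map preserving the roots is at most the dimension -/
theorem pigeon [FiniteDimensional F W] {c : W →ₗ[F] W} {l : ℕ} (hl : l.Prime) {ζ : AlgebraicClosure F}
    (hord : orderOf ζ = l) (hζ : Polynomial.aeval ζ (minpoly F c) = 0) {N : ℕ} (hN : (N : ZMod l) ≠ 0)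
    (hroot : ∀ y : AlgebraicClosure F, Polynomial.aeval y (minpoly F c) = 0 →
      Polynomial.aeval (y ^ N) (minpoly F c) = 0) :
    ∃ i, 1 ≤ i ∧ i ≤ Module.finrank F W ∧ ((N : ZMod l)) ^ i = 1 := by
  classical
  have hint : IsIntegral F c := Algebra.IsIntegral.isIntegral c
  set μ := minpoly F c with hμ
  have hfl : Fact l.Prime := ⟨hl⟩
  have hroots : ∀ i : ℕ, Polynomial.aeval (ζ ^ (N ^ i)) μ = 0 := by
    intro i
    induction i with
    | zero => simpa using hζ
    | succ i ih =>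
      rw [pow_succ N i, pow_mul]
      exact hroot _ ih
  have hμ0 : μ ≠ 0 := minpoly.ne_zero hint
  have hdeg : μ.natDegree ≤ Module.finrank F W := by
    have h1 := LinearMap.minpoly_dvd_charpoly c
    have h2 := Polynomial.natDegree_le_of_dvd h1 (LinearMap.charpoly_monic c).ne_zero
    rwa [LinearMap.charpoly_natDegree] at h2
  have hcard : ((μ.map (algebraMap F (AlgebraicClosure F))).roots.toFinset).card < (Finset.range (Module.finrank F W + 1)).card := by
    rw [Finset.card_range]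
    have h1 := Multiset.toFinset_card_le (μ.map (algebraMap F (AlgebraicClosure F))).roots
    have h2 := Polynomial.card_roots' (μ.map (algebraMap F (AlgebraicClosure F)))
    rw [Polynomial.natDegree_map] at h2
    omega
  obtain ⟨i, hi, j, hj, hij, he⟩ := Finset.exists_ne_map_eq_of_card_lt_of_maps_to
    (f := fun i => ζ ^ (N ^ i)) hcard (by
      intro i _
      rw [Finset.mem_coe, Multiset.mem_toFinset, Polynomial.mem_roots (Polynomial.map_ne_zero hμ0), Polynomial.IsRoot.def,
        Polynomial.eval_map_algebraMap]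
      exact hroots i)
  have main : ∀ i j : ℕ, i < j → j ≤ Module.finrank F W → ζ ^ (N ^ i) = ζ ^ (N ^ j) →
      ∃ i, 1 ≤ i ∧ i ≤ Module.finrank F W ∧ ((N : ZMod l)) ^ i = 1 := by
    intro i j hij hj he
    refine ⟨j - i, by omega, by omega, ?_⟩
    have hpr : IsPrimitiveRoot ζ l := by
      have := IsPrimitiveRoot.orderOf ζ
      rwa [hord] at this
    rw [← pow_mod_orderOf ζ (N ^ i), ← pow_mod_orderOf ζ (N ^ j), hord] at he
    replace he := hpr.pow_inj (Nat.mod_lt _ hl.pos) (Nat.mod_lt _ hl.pos) he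
    have h1 : ((N : ZMod l)) ^ i = ((N : ZMod l)) ^ j := by
      rw [← Nat.cast_pow, ← Nat.cast_pow]
      exact (ZMod.natCast_eq_natCast_iff' _ _ _).2 he
    have h3 : ((N : ZMod l)) ^ j = ((N : ZMod l)) ^ i * ((N : ZMod l)) ^ (j - i) := by
      rw [← pow_add]
      congr 1
      omega
    rw [h3] at h1
    exact (mul_right_eq_self₀.1 h1.symm).resolve_right (pow_ne_zero _ hN)
  rw [Finset.mem_range] at hi hj
  rcases lt_or_gt_of_ne hij with h | h
  · exact main i j h (by omega) he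
  · exact main j i h (by omega) he.symm

end semi

/-! ### Fixed spaces -/

section fix

variable [Finite F]

/-- the number of fixed points of an element of prime order -/
theorem card_fix {W : Type*} [AddCommGroup W] [Module F W] [FiniteDimensional F W] {l : ℕ} (hl : l.Prime)
    (c : W →ₗ[F] W) (hcl : c ^ l = 1) (U : Submodule F W) (hU : ∀ x, x ∈ U ↔ c x = x) :
    ((Nat.card F : ℕ) : ZMod l) ^ Module.finrank F W = ((Nat.card F : ℕ) : ZMod l) ^ Module.finrank F U := by
  classical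
  have hfl : Fact l.Prime := ⟨hl⟩
  have hfin : Finite W := Module.finite_of_finite F
  have := Fintype.ofFinite F
  have := Fintype.ofFinite W
  obtain ⟨f, hf⟩ : ∃ f : Function.End W, ∀ x, f x = c x := ⟨fun x => c x, fun _ => rfl⟩
  have hpow : ∀ (n : ℕ) (x : W), (f ^ n) x = (c ^ n) x := by
    intro n
    induction n with
    | zero => intro x; rfl
    | succ n ih =>
      intro x
      rw [pow_succ (a := c), Module.End.mul_apply, ← ih, ← hf, pow_succ]
      rfl
  have h1 : f ^ l ^ 1 = 1 := by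
    funext x
    rw [pow_one, hpow, hcl]
    rfl
  have h2 := Equiv.Perm.card_fixedPoints_modEq h1
  have h3 : Fintype.card (Function.fixedPoints f) = Nat.card U := by
    rw [← Nat.card_eq_fintype_card]
    apply Nat.card_congr
    exact Equiv.subtypeEquivRight fun x => by
      rw [hU x, ← hf x]
      rfl
  have h4 : Fintype.card W = Nat.card F ^ Module.finrank F W := by
    rw [Module.card_eq_pow_finrank (K := F), Nat.card_eq_fintype_card]
  have h5 : Nat.card U = Nat.card F ^ Module.finrank F U := by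
    have := Fintype.ofFinite U
    rw [Nat.card_eq_fintype_card, Module.card_eq_pow_finrank (K := F), Nat.card_eq_fintype_card]
  have h6 : Fintype.card W ≡ Fintype.card (Function.fixedPoints f) [MOD l] := h2
  rw [h3, h4, h5] at h6
  have h7 := (ZMod.natCast_eq_natCast_iff _ _ _).2 h6
  rwa [Nat.cast_pow, Nat.cast_pow] at h7

variable [FiniteDimensional F V]

/-- the fixed space -/
def fx (c : V ≃ₗ[F] V) : Submodule F V where
  carrier := {v | c v = v}
  add_mem' := fun {a b} ha hb => by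
    show c (a + b) = a + b
    rw [map_add, ha, hb]
  zero_mem' := map_zero c
  smul_mem' := fun a v hv => by
    show c (a • v) = a • v
    rw [map_smul, hv]

theorem mem_fx {c : V ≃ₗ[F] V} {v : V} : v ∈ fx c ↔ c v = v := Iff.rfl

/-- the average (times `l`) -/
def nm (c : V ≃ₗ[F] V) (l : ℕ) : V →ₗ[F] V := ∑ i ∈ Finset.range l, ((c : V →ₗ[F] V)) ^ i

theorem cpow_apply (c : V ≃ₗ[F] V) (n : ℕ) (v : V) : ((c : V →ₗ[F] V) ^ n) v = (c ^ n) v := by
  induction n generalizing v with
  | zero => rfl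
  | succ n ih => rw [pow_succ, pow_succ, Module.End.mul_apply, ih]; rfl

theorem nm_apply (c : V ≃ₗ[F] V) (l : ℕ) (v : V) : nm c l v = ∑ i ∈ Finset.range l, (c ^ i) v := by
  rw [nm, LinearMap.sum_apply]
  exact Finset.sum_congr rfl fun i _ => cpow_apply c i v

theorem nm_fix {c : V ≃ₗ[F] V} {l : ℕ} (hcl : c ^ l = 1) (v : V) : c (nm c l v) = nm c l v := by
  rw [nm_apply, map_sum]
  have h1 : ∀ i, c ((c ^ i) v) = (c ^ (i + 1)) v := fun i => by rw [pow_succ']; rfl
  rw [Finset.sum_congr rfl fun i _ => h1 i]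
  have h2 := Finset.sum_range_succ' (fun i => (c ^ i) v) l
  rw [Finset.sum_range_succ, hcl] at h2
  simpa using h2.symm

theorem nm_of_fix {c : V ≃ₗ[F] V} {l : ℕ} {v : V} (hv : c v = v) : nm c l v = (l : F) • v := by
  have h1 : ∀ i : ℕ, (c ^ i) v = v := by
    intro i
    induction i with
    | zero => rfl
    | succ i ih => rw [pow_succ', LinearEquiv.mul_apply, ih, hv]
  rw [nm_apply, Finset.sum_congr rfl fun i _ => h1 i, Finset.sum_const, Finset.card_range, Nat.cast_smul_eq_nsmul]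

theorem nm_comm {c : V ≃ₗ[F] V} {l : ℕ} (v : V) : nm c l (c v) = c (nm c l v) := by
  rw [nm_apply, nm_apply, map_sum]
  refine Finset.sum_congr rfl fun i _ => ?_
  rw [← LinearEquiv.mul_apply, ← pow_succ, pow_succ', LinearEquiv.mul_apply]

theorem polar_pow {c : V ≃ₗ[F] V} (hc : c ∈ O Q) {u v : V} (hu : c u = u) (n : ℕ) :
    polar Q u ((c ^ n) v) = polar Q u v := by
  induction n with
  | zero => rfl
  | succ n ih =>
    rw [pow_succ', LinearEquiv.mul_apply]
    nth_rewrite 1 [← hu]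
    rw [polar_map hc, ih]

theorem polar_nm {c : V ≃ₗ[F] V} (hc : c ∈ O Q) {u : V} (hu : c u = u) (l : ℕ) (v : V) :
    polar Q u (nm c l v) = (l : F) * polar Q u v := by
  rw [nm_apply]
  have h1 : ∀ s : Finset ℕ, polar Q u (∑ i ∈ s, (c ^ i) v) = ∑ i ∈ s, polar Q u ((c ^ i) v) := by
    classical
    intro s
    induction s using Finset.induction_on with
    | empty => simp
    | insert a s ha ih => rw [Finset.sum_insert ha, Finset.sum_insert ha, polar_add_right, ih]
  rw [h1, Finset.sum_congr rfl fun i _ => polar_pow hc hu i, Finset.sum_const, Finset.card_range, nsmul_eq_mul]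

/-- a nonzero fixed space contains a nonsingular vector -/
theorem exists_nonsing_fx (hQ : Nondeg Q) {c : V ≃ₗ[F] V} (hc : c ∈ O Q) {l : ℕ} (hcl : c ^ l = 1) (hlF : (l : F) ≠ 0)
    (h0 : fx c ≠ ⊥) : ∃ k, c k = k ∧ Q k ≠ 0 := by
  by_contra hno
  push Not at hno
  obtain ⟨u, hu, hu0⟩ := Submodule.exists_mem_ne_zero_of_ne_bot h0
  apply hu0
  apply hQ
  intro v
  have h1 := polar_nm hc hu l v
  have h2 : polar Q u (nm c l v) = 0 := by
    have e1 := hno _ (show c (u + nm c l v) = u + nm c l v by rw [map_add, nm_fix hcl, mem_fx.1 hu])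
    have e2 := hno _ (nm_fix hcl v)
    have e3 := hno _ hu
    rw [polar, e1, e2, e3]
    simp
  rw [h2] at h1
  exact (mul_eq_zero.1 h1.symm).resolve_left hlF

/-- the complement of the fixed space -/
def wx (c : V ≃ₗ[F] V) (l : ℕ) : Submodule F V := LinearMap.ker (nm c l)

theorem mem_wx {c : V ≃ₗ[F] V} {l : ℕ} {v : V} : v ∈ wx c l ↔ nm c l v = 0 := Iff.rfl

theorem sub_mem_wx {c : V ≃ₗ[F] V} {l : ℕ} (v : V) (hcl : c ^ l = 1) : c v - v ∈ wx c l := by
  rw [mem_wx, map_sub, nm_comm, nm_fix hcl, sub_self]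

theorem map_wx {c : V ≃ₗ[F] V} {l : ℕ} {v : V} (hv : v ∈ wx c l) : c v ∈ wx c l := by
  rw [mem_wx, nm_comm, mem_wx.1 hv, map_zero]

theorem fix_wx {c : V ≃ₗ[F] V} {l : ℕ} (hlF : (l : F) ≠ 0) {v : V} (hv : v ∈ wx c l) (hf : c v = v) : v = 0 := by
  rw [mem_wx, nm_of_fix hf] at hv
  exact (smul_eq_zero.1 hv).resolve_left hlF

end fix

section main

variable [Finite F] [FiniteDimensional F V]

theorem st_pow (_h : TC Q σ st) {c : V ≃ₗ[F] V} (hst : ∀ u w, c (st u w) = st (c u) (c w)) {k : V} (hk : c k = k)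
    (n : ℕ) (w : V) : (c ^ n) (st k w) = st k ((c ^ n) w) := by
  induction n generalizing w with
  | zero => rfl
  | succ n ih => rw [pow_succ, LinearEquiv.mul_apply, LinearEquiv.mul_apply, hst, hk, ih]

theorem st_sum (h : TC Q σ st) (k : V) (s : Finset ℕ) (f : ℕ → V) : st k (∑ i ∈ s, f i) = ∑ i ∈ s, st k (f i) := by
  classical
  induction s using Finset.induction_on with
  | empty => rw [Finset.sum_empty, Finset.sum_empty, h.zero_right]
  | insert a s ha ih => rw [Finset.sum_insert ha, Finset.sum_insert ha, h.add_right, ih]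

theorem st_wx (h : TC Q σ st) {c : V ≃ₗ[F] V} (hst : ∀ u w, c (st u w) = st (c u) (c w)) {k : V} (hk : c k = k)
    {l : ℕ} {w : V} (hw : w ∈ wx c l) : st k w ∈ wx c l := by
  rw [mem_wx, nm_apply, Finset.sum_congr rfl fun i _ => st_pow h hst hk i w, ← st_sum h, ← nm_apply, mem_wx.1 hw,
    h.zero_right]

theorem st_inj (h : TC Q σ st) {k : V} (hk : Q k ≠ 0) {x : V} (hx : st k x = 0) : x = 0 := by
  have h1 := h.left k x
  rw [hx, h.zero_left] at h1
  exact (smul_eq_zero.1 h1.symm).resolve_left fun h2 => hk ((map_eq_zero σ).1 h2)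

/-- the restriction of `c` to the complement of its fixed space -/
def cW (c : V ≃ₗ[F] V) (l : ℕ) : wx c l →ₗ[F] wx c l := (c : V →ₗ[F] V).restrict fun _ hv => map_wx hv

theorem cW_pow (c : V ≃ₗ[F] V) (l m : ℕ) (x : wx c l) : (((cW c l ^ m) x : wx c l) : V) = (c ^ m) (x : V) := by
  induction m generalizing x with
  | zero => rfl
  | succ m ih => rw [pow_succ, pow_succ, Module.End.mul_apply, ih, LinearEquiv.mul_apply]; rfl

theorem cW_pow_l {c : V ≃ₗ[F] V} {l : ℕ} (hcl : c ^ l = 1) : cW c l ^ l = 1 := by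
  apply LinearMap.ext
  intro x
  apply Subtype.ext
  rw [cW_pow, hcl]
  rfl

theorem cW_fix {c : V ≃ₗ[F] V} {l : ℕ} (hlF : (l : F) ≠ 0) (x : wx c l) (hx : cW c l x = x) : x = 0 :=
  Subtype.ext (fix_wx hlF x.2 (congrArg Subtype.val hx))

theorem nontrivial_wx {c : V ≃ₗ[F] V} {l : ℕ} (hcl : c ^ l = 1) (hc1 : c ≠ 1) : Nontrivial (wx c l) := by
  obtain ⟨v, hv⟩ : ∃ v, c v ≠ v := by
    by_contra hno
    push Not at hno
    exact hc1 (LinearEquiv.ext hno)
  exact ⟨⟨⟨c v - v, sub_mem_wx v hcl⟩, 0, fun h1 => hv (sub_eq_zero.1 (congrArg Subtype.val h1))⟩⟩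

theorem cast_ne {p : ℕ} [CharP F p] [Fact p.Prime] {l : ℕ} (hl : l.Prime) (hlp : l ≠ p) : (l : F) ≠ 0 := by
  intro h0
  have h1 := (CharP.cast_eq_zero_iff F p l).1 h0
  rcases (Nat.dvd_prime hl).1 h1 with h2 | h2
  · exact (Fact.out : p.Prime).one_lt.ne' h2
  · exact hlp h2.symm

theorem minpoly_cW (h : TC Q σ st) {c : V ≃ₗ[F] V} (hst : ∀ u w, c (st u w) = st (c u) (c w))
    {l : ℕ} {k : V} (hk : c k = k) (hkQ : Q k ≠ 0) :
    (minpoly F (cW c l)).map (σ : F →+* F) = minpoly F (cW c l) := by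
  have hfinV : Finite V := Module.finite_of_finite F
  let S : wx c l → wx c l := fun w => ⟨st k w, st_wx h hst hk w.2⟩
  have hSinj : Function.Injective S := by
    intro x y hxy
    have h1 : st k (x : V) = st k (y : V) := congrArg Subtype.val hxy
    have h2 : st k ((x : V) - (y : V)) = 0 := by
      rw [sub_eq_add_neg, h.add_right, h.neg_right, h1, add_neg_cancel]
    exact Subtype.ext (sub_eq_zero.1 (st_inj h hkQ h2))
  have hS : Function.Surjective S := Finite.surjective_of_injective hSinj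
  exact minpoly_map (S := S) hS
    (fun x y => Subtype.ext (h.add_right _ _ _)) (fun a x => Subtype.ext (h.smul_right _ _ _))
    (fun x => Subtype.ext (by
      show st k (c (x : V)) = c (st k (x : V))
      rw [hst, hk]))

theorem finrank_wx_lt {c : V ≃ₗ[F] V} {l : ℕ} (hlF : (l : F) ≠ 0) {k : V} (hk : c k = k) (hk0 : k ≠ 0) :
    Module.finrank F (wx c l) < Module.finrank F V := by
  apply Submodule.finrank_lt
  intro h1
  have h2 : k ∈ wx c l := by rw [h1]; trivial
  exact hk0 (fix_wx hlF h2 hk)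

theorem zmod_ne {p n l : ℕ} [Fact p.Prime] (hl : l.Prime) (hlp : l ≠ p) : ((p ^ n : ℕ) : ZMod l) ≠ 0 := by
  intro h3
  have h4 := (ZMod.natCast_eq_zero_iff _ _).1 h3
  exact hlp ((Nat.prime_dvd_prime_iff_eq hl (Fact.out : p.Prime)).1 (hl.dvd_of_dvd_pow h4))

theorem core (h : TC Q σ st) (hQ : Nondeg Q) {p n : ℕ} [CharP F p] [Fact p.Prime]
    (hσ : ∀ a : F, σ a = a ^ (p ^ n)) {c : V ≃ₗ[F] V} (hc : c ∈ O Q) (hst : ∀ u w, c (st u w) = st (c u) (c w))
    {l : ℕ} (hl : l.Prime) (hlp : l ≠ p) (hcl : c ^ l = 1) (hc1 : c ≠ 1) (hU : fx c ≠ ⊥) :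
    ∃ i, 1 ≤ i ∧ i < Module.finrank F V ∧ (((p ^ n : ℕ) : ZMod l)) ^ i = 1 := by
  have hlF : (l : F) ≠ 0 := cast_ne hl hlp
  obtain ⟨k, hk, hkQ⟩ := exists_nonsing_fx hQ hc hcl hlF hU
  have hnt := nontrivial_wx hcl hc1
  obtain ⟨ζ, hord, hζ⟩ := exists_root hl hlp (cW_pow_l hcl) (cW_fix hlF)
  obtain ⟨i, hi1, hi2, hi3⟩ := pigeon hl hord hζ (zmod_ne (n := n) hl hlp)
    fun y hy => root_pow hσ (minpoly_cW h hst hk hkQ) hy
  refine ⟨i, hi1, lt_of_le_of_lt hi2 (finrank_wx_lt hlF hk ?_), hi3⟩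
  rintro rfl
  rw [QuadraticMap.map_zero] at hkQ
  exact hkQ rfl

theorem finrank_add {c : V ≃ₗ[F] V} {l : ℕ} (hcl : c ^ l = 1) (hlF : (l : F) ≠ 0) :
    Module.finrank F (fx c) + Module.finrank F (wx c l) = Module.finrank F V := by
  have h1 := LinearMap.finrank_range_add_finrank_ker (nm c l)
  have h2 : LinearMap.range (nm c l) = fx c := by
    ext v
    constructor
    · rintro ⟨x, rfl⟩
      exact nm_fix hcl x
    · intro hv
      exact ⟨(l : F)⁻¹ • v, by rw [map_smul, nm_of_fix hv, smul_smul, inv_mul_cancel₀ hlF, one_smul]⟩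
  rw [h2] at h1
  exact h1

theorem wx_nondeg (hQ : Nondeg Q) {c : V ≃ₗ[F] V} (hc : c ∈ O Q) {l : ℕ} (hcl : c ^ l = 1) (hlF : (l : F) ≠ 0)
    {x : V} (hx : x ∈ wx c l) (h : ∀ y ∈ wx c l, polar Q x y = 0) : x = 0 := by
  apply hQ
  intro v
  have h1 : polar Q x (nm c l v) = 0 := by
    have e1 := polar_nm hc (nm_fix hcl v) l x
    rw [mem_wx.1 hx, polar_zero_right] at e1
    rw [polar_comm]
    exact (mul_eq_zero.1 e1.symm).resolve_left hlF
  have h2 : (l : F) • v - nm c l v ∈ wx c l := by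
    rw [mem_wx, map_sub, map_smul, nm_of_fix (nm_fix hcl v), sub_self]
  have h3 := h _ h2
  rw [polar_sub_right, h1, sub_zero, polar_smul_right, smul_eq_mul] at h3
  exact (mul_eq_zero.1 h3).resolve_left hlF

theorem symm_wx {c : V ≃ₗ[F] V} {l : ℕ} {v : V} (hv : v ∈ wx c l) : c.symm v ∈ wx c l := by
  rw [mem_wx]
  apply c.injective
  rw [← nm_comm, LinearEquiv.apply_symm_apply, mem_wx.1 hv, map_zero]

theorem polar_symm {c : V ≃ₗ[F] V} (hc : c ∈ O Q) (x y : V) : polar Q x (c.symm y) = polar Q (c x) y := by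
  rw [← polar_map hc x (c.symm y), LinearEquiv.apply_symm_apply]

/-- the complement of the fixed space has even dimension -/
theorem even_wx (hQ : Nondeg Q) {c : V ≃ₗ[F] V} (hc : c ∈ O Q) {l : ℕ} (hodd : Odd l) (hcl : c ^ l = 1)
    (hlF : (l : F) ≠ 0) : Even (Module.finrank F (wx c l)) := by
  let D : V →ₗ[F] V := (c : V →ₗ[F] V) - (c.symm : V →ₗ[F] V)
  have hD : ∀ v, D v = c v - c.symm v := fun _ => rfl
  let B : LinearMap.BilinForm F (wx c l) :=
    (polarBilin Q).compl₁₂ (Submodule.subtype (wx c l)) (D.comp (Submodule.subtype (wx c l)))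
  have hB : ∀ x y : wx c l, B x y = polar Q (x : V) (D (y : V)) := fun _ _ => rfl
  refine Cfsg.Agent.H727.GW.even_finrank _ (wx c l) B ?_ ?_ rfl
  · intro x
    rw [hB, hD, polar_sub_right, polar_symm hc, polar_comm _ (c (x : V)), sub_self]
  · intro x hx
    apply Subtype.ext
    have h1 : c.symm (x : V) - c x = 0 := by
      apply wx_nondeg hQ hc hcl hlF (Submodule.sub_mem _ (symm_wx x.2) (map_wx x.2))
      intro y hy
      have h2 := hx ⟨y, hy⟩
      rw [hB, hD, polar_sub_right, polar_symm hc] at h2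
      rw [polar_sub_left, polar_comm _ (c.symm (x : V)), polar_symm hc, polar_comm _ (c y), ]
      exact h2
    have h2 : c (c (x : V)) = x := by
      have h3 := congrArg c (sub_eq_zero.1 h1)
      rw [LinearEquiv.apply_symm_apply] at h3
      exact h3.symm
    have h3 : ∀ (v : V), c (c v) = v → ∀ k : ℕ, (c ^ (2 * k)) v = v := by
      intro v hv k
      induction k with
      | zero => rfl
      | succ k ih => rw [show 2 * (k + 1) = 2 * k + 1 + 1 by ring, pow_succ, pow_succ, LinearEquiv.mul_apply,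
          LinearEquiv.mul_apply, hv, ih]
    have h4 : ∀ v : V, c (c v) = v → c v = v := by
      intro v hv
      obtain ⟨k, hk⟩ := hodd
      have h5 : (c ^ l) v = v := by rw [hcl]; rfl
      have h6 : (c ^ l) v = (c ^ (2 * k + 1)) v := by rw [← hk]
      rw [h6, pow_succ', LinearEquiv.mul_apply, h3 v hv] at h5
      exact h5
    exact fix_wx hlF x.2 (h4 _ h2)

/-- the roots are closed under inversion -/
theorem root_inv (hQ : Nondeg Q) {c : V ≃ₗ[F] V} (hc : c ∈ O Q) {l : ℕ} (hl1 : 1 ≤ l) (hcl : c ^ l = 1)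
    (hlF : (l : F) ≠ 0) {y : AlgebraicClosure F} (hy : Polynomial.aeval y (minpoly F (cW c l)) = 0) :
    Polynomial.aeval (y ^ (l - 1)) (minpoly F (cW c l)) = 0 := by
  have hpw : ∀ (n : ℕ) (x z : V), polar Q ((c ^ n) x) ((c ^ n) z) = polar Q x z := fun n x z =>
    polar_map ((O Q).pow_mem hc n) x z
  have hinv : ∀ (n : ℕ) (x z : V), polar Q ((c ^ ((l - 1) * n)) x) z = polar Q x ((c ^ n) z) := by
    intro n x z
    have e1 : n + (l - 1) * n = l * n := by
      obtain ⟨k, rfl⟩ := Nat.exists_eq_add_of_le hl1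
      rw [Nat.add_sub_cancel_left]
      ring
    have e2 : (c ^ n) ((c ^ ((l - 1) * n)) x) = x := by
      rw [← LinearEquiv.mul_apply, ← pow_add, e1, pow_mul, hcl, one_pow]
      rfl
    have e3 := hpw n ((c ^ ((l - 1) * n)) x) z
    rw [e2] at e3
    exact e3.symm
  have key : ∀ (P : Polynomial F) (x z : wx c l),
      polar Q ((Polynomial.aeval (cW c l ^ (l - 1)) P x : wx c l) : V) (z : V) =
        polar Q (x : V) ((Polynomial.aeval (cW c l) P z : wx c l) : V) := by
    intro P x z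
    induction P using Polynomial.induction_on' with
    | add P P' h h' =>
      rw [map_add, map_add, LinearMap.add_apply, LinearMap.add_apply, Submodule.coe_add, Submodule.coe_add,
        polar_add_left, polar_add_right, h, h']
    | monomial n a =>
      rw [Polynomial.aeval_monomial, Polynomial.aeval_monomial, Module.End.mul_apply,
        Module.End.mul_apply, Module.algebraMap_end_apply, Module.algebraMap_end_apply, Submodule.coe_smul,
        Submodule.coe_smul, polar_smul_left, polar_smul_right, ← pow_mul, cW_pow, cW_pow, hinv]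
  have h0 : Polynomial.aeval (cW c l ^ (l - 1)) (minpoly F (cW c l)) = 0 := by
    apply LinearMap.ext
    intro x
    apply Subtype.ext
    apply wx_nondeg hQ hc hcl hlF (Subtype.mem _)
    intro z hz
    have h1 := key (minpoly F (cW c l)) x ⟨z, hz⟩
    rw [minpoly.aeval] at h1
    rw [LinearMap.zero_apply, Submodule.coe_zero, polar_zero_right] at h1
    exact h1
  have h1 : minpoly F (cW c l) ∣ (minpoly F (cW c l)).comp (Polynomial.X ^ (l - 1)) := by
    apply minpoly.dvd
    rw [Polynomial.aeval_comp, map_pow, Polynomial.aeval_X]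
    exact h0
  obtain ⟨R, hR⟩ := h1
  have h2 := congrArg (Polynomial.aeval y) hR
  rw [map_mul, hy, zero_mul, Polynomial.aeval_comp, map_pow, Polynomial.aeval_X] at h2
  exact h2

/-- **ZA** -/
theorem za (h : TC Q σ st) (hQ : Nondeg Q) (h8 : Module.finrank F V = 8) {p n : ℕ} [CharP F p] [Fact p.Prime]
    (hσ : ∀ a : F, σ a = a ^ (p ^ n)) {c : V ≃ₗ[F] V} (hc : c ∈ O Q)
    (hst : ∀ u w, c (st u w) = st (c u) (c w)) {l : ℕ} (hl : l.Prime) (hl2 : l ≠ 2) (hlp : l ≠ p)
    (hb6 : (((p ^ n : ℕ) : ZMod l)) ^ 6 = 1) (hb2 : (((p ^ n : ℕ) : ZMod l)) ^ 2 ≠ 1)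
    (hcl : c ^ l = 1) (hc1 : c ≠ 1) : fx c = ⊥ ∨ Module.finrank F (fx c) = 2 := by
  by_cases hU : fx c = ⊥
  · exact Or.inl hU
  refine Or.inr ?_
  have hfl : Fact l.Prime := ⟨hl⟩
  have hlF : (l : F) ≠ 0 := cast_ne hl hlp
  obtain ⟨k, hk, hkQ⟩ := exists_nonsing_fx hQ hc hcl hlF hU
  have hk0 : k ≠ 0 := by
    rintro rfl
    rw [QuadraticMap.map_zero] at hkQ
    exact hkQ rfl
  have hlt := finrank_wx_lt (l := l) hlF hk hk0
  have hadd := finrank_add hcl hlF
  have heven := even_wx hQ hc (hl.odd_of_ne_two hl2) hcl hlF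
  have hnt := nontrivial_wx hcl hc1
  obtain ⟨ζ, hord, hζ⟩ := exists_root hl hlp (cW_pow_l hcl) (cW_fix hlF)
  have hr1 : ∀ y : AlgebraicClosure F, Polynomial.aeval y (minpoly F (cW c l)) = 0 →
      Polynomial.aeval (y ^ (p ^ n)) (minpoly F (cW c l)) = 0 :=
    fun y hy => root_pow hσ (minpoly_cW h hst hk hkQ) hy
  have h2 : (2 : ZMod l) ≠ 0 := by
    intro h0
    have h1 : ((2 : ℕ) : ZMod l) = 0 := by exact_mod_cast h0
    exact hl2 ((Nat.prime_dvd_prime_iff_eq hl Nat.prime_two).1 ((ZMod.natCast_eq_zero_iff _ _).1 h1))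
  have h6 : 6 ≤ Module.finrank F (wx c l) := by
    obtain ⟨b, hb⟩ : ∃ b : ZMod l, b = ((p ^ n : ℕ) : ZMod l) := ⟨_, rfl⟩
    rw [← hb] at hb6 hb2
    by_cases hb3 : b ^ 3 = 1
    · have hN : ((p ^ n * (l - 1) : ℕ) : ZMod l) = -b := by
        rw [Nat.cast_mul, ← hb, Nat.cast_sub hl.one_lt.le, Nat.cast_one, CharP.cast_eq_zero]
        ring
      obtain ⟨i, hi1, hi2, hi3⟩ := pigeon hl hord hζ (N := p ^ n * (l - 1)) (by
        rw [hN]
        intro h0
        have h1 : b = 0 := neg_eq_zero.1 h0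
        rw [h1] at hb6
        simp at hb6) (fun y hy => by
          rw [pow_mul]
          exact root_inv hQ hc hl.one_lt.le hcl hlF (hr1 y hy))
      rw [hN] at hi3
      by_contra hlt6
      push Not at hlt6
      have hg := pow_gcd_eq_one.2 ⟨hi3, show (-b) ^ 6 = 1 by rw [neg_pow, hb6]; norm_num⟩
      have hg3 : i.gcd 6 ∣ 2 ∨ i.gcd 6 ∣ 3 := by
        have : i ≤ 5 := by omega
        interval_cases i <;> decide
      rcases hg3 with ⟨m, hm⟩ | ⟨m, hm⟩
      · apply hb2
        have e : (-b) ^ 2 = 1 := by rw [hm, pow_mul, hg, one_pow]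
        rwa [neg_sq] at e
      · apply h2
        have e : (-b) ^ 3 = 1 := by rw [hm, pow_mul, hg, one_pow]
        have e2 : (-b) ^ 3 = -(b ^ 3) := by ring
        rw [e2, hb3] at e
        linear_combination -e
    · obtain ⟨i, hi1, hi2, hi3⟩ := pigeon hl hord hζ (N := p ^ n) (zmod_ne hl hlp) hr1
      rw [← hb] at hi3
      by_contra hlt6
      push Not at hlt6
      have hg := pow_gcd_eq_one.2 ⟨hi3, hb6⟩
      have hg3 : i.gcd 6 ∣ 2 ∨ i.gcd 6 ∣ 3 := by
        have : i ≤ 5 := by omega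
        interval_cases i <;> decide
      rcases hg3 with ⟨m, hm⟩ | ⟨m, hm⟩
      · apply hb2
        rw [hm, pow_mul, hg, one_pow]
      · apply hb3
        rw [hm, pow_mul, hg, one_pow]
  obtain ⟨m, hm⟩ := heven
  omega

theorem finrank_bot' : Module.finrank F (⊥ : Submodule F V) = 0 := finrank_bot F V

theorem three_ne {l : ℕ} (hl : l.Prime) (hl3 : l ≠ 3) : (3 : ZMod l) ≠ 0 := by
  intro h
  have h1 : ((3 : ℕ) : ZMod l) = 0 := by exact_mod_cast h
  exact hl3 ((Nat.prime_dvd_prime_iff_eq hl Nat.prime_three).1 ((ZMod.natCast_eq_zero_iff _ _).1 h1))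

theorem ne_p {q l p m : ℕ} (hl : l.Prime) [Fact p.Prime] (hq : q = p ^ m) (P : ZMod l → Prop)
    (h1 : ¬ P 1) (h0 : ¬ P 0) (h : P (q : ZMod l)) : l ≠ p := by
  rintro rfl
  rcases Nat.eq_zero_or_pos m with hm | hm
  · rw [hq, hm, pow_zero, Nat.cast_one] at h
    exact h1 h
  · rw [hq, Nat.cast_pow, CharP.cast_eq_zero (ZMod l) l, zero_pow hm.ne'] at h
    exact h0 h

/-- **Z9, Z18**: `q = |F|`, `l ∣ q² ± q + 1` -/
theorem z9 (h : TC Q σ st) (hQ : Nondeg Q) (h8 : Module.finrank F V = 8) {p n m : ℕ} [CharP F p] [Fact p.Prime]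
    (hσ : ∀ a : F, σ a = a ^ (p ^ n)) (hF : Nat.card F = p ^ m) {c : V ≃ₗ[F] V} (hc : c ∈ O Q)
    (hst : ∀ u w, c (st u w) = st (c u) (c w)) {l : ℕ} (hl : l.Prime) (hl3 : l ≠ 3)
    (hb : (((p ^ n : ℕ) : ZMod l)) ^ 3 = ((Nat.card F : ℕ) : ZMod l) ∨
      (((p ^ n : ℕ) : ZMod l)) ^ 3 = ((Nat.card F : ℕ) : ZMod l) ^ 2)
    (hd : ((Nat.card F : ℕ) : ZMod l) ^ 2 + ((Nat.card F : ℕ) : ZMod l) + 1 = 0 ∨
      ((Nat.card F : ℕ) : ZMod l) ^ 2 - ((Nat.card F : ℕ) : ZMod l) + 1 = 0) (hcl : c ^ l = 1) : c = 1 := by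
  by_contra hc1
  have hfl : Fact l.Prime := ⟨hl⟩
  have h3 := three_ne hl hl3
  obtain ⟨q, hq⟩ : ∃ q : ZMod l, q = ((Nat.card F : ℕ) : ZMod l) := ⟨_, rfl⟩
  obtain ⟨b, hb'⟩ : ∃ b : ZMod l, b = ((p ^ n : ℕ) : ZMod l) := ⟨_, rfl⟩
  rw [← hq] at hd
  rw [← hq, ← hb'] at hb
  have h6 : q ^ 6 = 1 := by
    rcases hd with hd | hd
    · linear_combination (q ^ 4 - q ^ 3 + q - 1) * hd
    · linear_combination (q ^ 4 + q ^ 3 - q - 1) * hd
  have hne : q ^ 2 ≠ 1 := by
    intro h1
    apply h3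
    rcases hd with hd | hd
    · linear_combination (2 - q) * hd + (q - 1) * h1
    · linear_combination (2 + q) * hd - (q + 1) * h1
  have hlp : l ≠ p := by
    refine ne_p hl hF (fun x => x ^ 2 + x + 1 = 0 ∨ x ^ 2 - x + 1 = 0) ?_ ?_ (by rwa [← hq])
    · rintro (h1 | h1)
      · apply h3; linear_combination h1
      · exact one_ne_zero (α := ZMod l) (by linear_combination h1)
    · rintro (h1 | h1) <;> exact one_ne_zero (α := ZMod l) (by linear_combination h1)
  have hU : fx c ≠ ⊥ := by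
    intro h0
    have h1 := card_fix (F := F) hl (c : V →ₗ[F] V) (LinearMap.ext fun v => by rw [cpow_apply, hcl]; rfl) (fx c)
      (fun x => Iff.rfl)
    rw [h0, finrank_bot', pow_zero, h8, ← hq] at h1
    apply hne
    have : q ^ 8 = q ^ 6 * q ^ 2 := by ring
    rw [this, h6, one_mul] at h1
    exact h1
  obtain ⟨i, hi1, hi2, hi3⟩ := core h hQ hσ hc hst hl hlp hcl hc1 hU
  rw [h8] at hi2
  rw [← hb'] at hi3
  have h18 : b ^ 18 = 1 := by
    have e : b ^ 18 = (b ^ 3) ^ 6 := by ring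
    rw [e]
    rcases hb with hb | hb
    · rw [hb, h6]
    · rw [hb, ← pow_mul, mul_comm, pow_mul, h6, one_pow]
  have hg := pow_gcd_eq_one.2 ⟨hi3, h18⟩
  have hg3 : i.gcd 18 ∣ 6 := by interval_cases i <;> decide
  obtain ⟨k, hk⟩ := hg3
  have hb6 : b ^ 6 = 1 := by rw [hk, pow_mul, hg, one_pow]
  apply hne
  have e : b ^ 6 = (b ^ 3) ^ 2 := by ring
  rw [e] at hb6
  rcases hb with hb | hb
  · rw [hb] at hb6
    exact hb6
  · rw [hb, ← pow_mul] at hb6
    have e2 : q ^ 6 = q ^ (2 * 2) * q ^ 2 := by ring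
    rw [h6, hb6, one_mul] at e2
    exact e2.symm

end main

end abs

end Cfsg.Agent.H393.TZ
end

-- part: H393/RC/TriZ9
section
/-!
# S3510, triality, type iii: the boxes ZN9 and ZA (helper393)
-/

set_option autoImplicit false

namespace Cfsg.Agent.H393.TZ

open Module QuadraticMap Cfsg.Agent.LieClassical.OrthCore Cfsg.Agent.LieClassical.OrthTrans
  Cfsg.Agent.LieClassical.OrthSimple Cfsg.Agent.LieClassical.QuadForms
  Cfsg.Agent.ClassicalGeometry.TrialityOct Cfsg.Agent.ClassicalGeometry.Triality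
  Cfsg.Agent.H198.TriBase Cfsg.Agent.H198.TriAut
  Cfsg.Agent.H198.TriDia Cfsg.Agent.H198.TriTC Cfsg.Agent.H198.TwComp

universe u

variable {F : Type u} [Field F]

/-- the numbers: `q = q0 ^ 3`, `q0 = p ^ k`, `s a = a ^ (p ^ n)` -/
theorem numbers [Finite F] {s : F ≃+* F} (h3 : ∀ a, s (s (s a)) = a) (hne : s ≠ RingEquiv.refl F) :
    ∃ p k n : ℕ, p.Prime ∧ k ≠ 0 ∧ CharP F p ∧ Nat.card F = (p ^ k) ^ 3 ∧ (∀ a : F, s a = a ^ (p ^ n)) ∧
      (n = k ∨ n = 2 * k) := by
  obtain ⟨q0, _, hq, hpp, _, hs⟩ := Cfsg.Agent.H256.RC.BQ h3 hne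
  obtain ⟨p, k, hp, hk, rfl⟩ := hpp
  have hp' : p.Prime := hp.nat_prime
  have hch : CharP F p := by
    obtain ⟨r, hr⟩ := CharP.exists F
    have hrp : r.Prime := (CharP.char_is_prime_or_zero F r).resolve_right
      (fun h0 => CharP.char_ne_zero_of_finite F r h0)
    have hfr : Fact r.Prime := ⟨hrp⟩
    obtain ⟨m, hm⟩ : ∃ m, Nat.card F = r ^ m := by
      have := Fintype.ofFinite F
      obtain ⟨m, _, hm⟩ := FiniteField.card F r
      exact ⟨m, by rw [Nat.card_eq_fintype_card, hm]⟩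
    have h1 : p ∣ r ^ m := by
      rw [← hm, hq, ← pow_mul]
      exact dvd_pow_self p (by omega)
    have h2 := (Nat.prime_dvd_prime_iff_eq hp' hrp).1 (hp'.dvd_of_dvd_pow h1)
    rw [h2]
    exact hr
  rcases hs with hs | hs
  · exact ⟨p, k, k, hp', hk.ne', hch, hq, hs, Or.inl rfl⟩
  · refine ⟨p, k, 2 * k, hp', hk.ne', hch, hq, fun a => ?_, Or.inr rfl⟩
    rw [hs, ← pow_mul p k 2, mul_comm k 2]

theorem finrank8 : Module.finrank F (V8 F) = 8 := by
  rw [Module.finrank_fintype_fun_eq_card]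
  rfl

theorem ZN9 [Finite F] {s : F ≃+* F} (h3 : ∀ a, s (s (s a)) = a) (hne : s ≠ RingEquiv.refl F)
    {c : V8 F ≃ₗ[F] V8 F} (hc : c ∈ AutD (fG s)) {l : ℕ} (hl : l.Prime) (hl3 : l ≠ 3)
    (h1 : l ∣ Nat.card F ^ 2 + Nat.card F + 1 ∨ l ∣ Nat.card F ^ 2 - Nat.card F + 1) (hcl : c ^ l = 1) :
    c = 1 := by
  obtain ⟨p, k, n, hp, hk, hch, hq, hs, hn⟩ := numbers h3 hne
  have hfp : Fact p.Prime := ⟨hp⟩
  refine z9 (p := p) (n := n) (m := k * 3) (Cfsg.Agent.H256.RC.tc_fG h3) nondeg8 finrank8 hs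
    (by rw [hq, ← pow_mul]) (c := c) (E_le_O hc.1) hc.2 hl hl3 ?_ ?_ hcl
  · rcases hn with rfl | rfl
    · left
      rw [hq]
      push_cast
      rfl
    · right
      rw [hq]
      push_cast
      ring
  · rcases h1 with h1 | h1
    · left
      have h2 := (ZMod.natCast_eq_zero_iff _ _).2 h1
      push_cast at h2
      exact h2
    · right
      have h2 := (ZMod.natCast_eq_zero_iff _ _).2 h1
      have h4 : Nat.card F ≤ Nat.card F ^ 2 := Nat.le_self_pow (by norm_num) _
      rw [Nat.cast_add, Nat.cast_sub h4] at h2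
      push_cast at h2
      exact h2

theorem eg_eq_fx (c : V8 F ≃ₗ[F] V8 F) :
    Module.End.eigenspace (c : V8 F →ₗ[F] V8 F) (1 : F) = fx c := by
  ext v
  rw [Module.End.mem_eigenspace_iff, one_smul]
  rfl

theorem two_case : ∀ b : ZMod 2, b ^ 6 = 1 → b ^ 2 = 1 := by decide

theorem ZA [Finite F] {s : F ≃+* F} (h3 : ∀ a, s (s (s a)) = a) (hne : s ≠ RingEquiv.refl F) {q0 : ℕ}
    (hq : Nat.card F = q0 ^ 3) {c : V8 F ≃ₗ[F] V8 F} (hc : c ∈ AutD (fG s)) {l : ℕ} (hl : l.Prime)
    (h1 : l ∣ Nat.card F ^ 2 - 1) (h2 : ¬ l ∣ q0 ^ 2 - 1) (hcl : c ^ l = 1) (hc1 : c ≠ 1) :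
    finrank F (Module.End.eigenspace (c : V8 F →ₗ[F] V8 F) (1 : F)) = 0 ∨
      finrank F (Module.End.eigenspace (c : V8 F →ₗ[F] V8 F) (1 : F)) = 2 := by
  obtain ⟨p, k, n, hp, hk, hch, hq', hs, hn⟩ := numbers h3 hne
  have hfp : Fact p.Prime := ⟨hp⟩
  have hfl : Fact l.Prime := ⟨hl⟩
  have hq0 : q0 = p ^ k := by
    rw [hq] at hq'
    exact Nat.pow_left_injective (by norm_num) hq'
  have hq1 : 1 ≤ q0 := by
    rw [hq0]
    exact Nat.one_le_pow _ _ hp.pos
  obtain ⟨a, ha⟩ : ∃ a : ZMod l, a = ((q0 : ℕ) : ZMod l) := ⟨_, rfl⟩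
  have ha6 : a ^ 6 = 1 := by
    have h4 : 1 ≤ (q0 ^ 3) ^ 2 := Nat.one_le_pow _ _ (Nat.one_le_pow _ _ hq1)
    rw [hq] at h1
    have h5 := (ZMod.natCast_eq_zero_iff _ _).2 h1
    rw [Nat.cast_sub h4] at h5
    push_cast at h5
    rw [← ha] at h5
    linear_combination h5
  have ha2 : a ^ 2 ≠ 1 := by
    intro h5
    apply h2
    apply (ZMod.natCast_eq_zero_iff _ _).1
    rw [Nat.cast_sub (Nat.one_le_pow _ _ hq1)]
    push_cast
    rw [← ha, h5, sub_self]
  have hl2 : l ≠ 2 := by
    rintro rfl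
    exact ha2 (two_case a ha6)
  have hlp : l ≠ p := by
    rintro rfl
    have h5 : a = 0 := by
      rw [ha, hq0, Nat.cast_pow, CharP.cast_eq_zero (ZMod l) l, zero_pow hk]
    rw [h5] at ha6
    simp at ha6
  have hb : (((p ^ n : ℕ) : ZMod l)) = a ∨ (((p ^ n : ℕ) : ZMod l)) = a ^ 2 := by
    rcases hn with rfl | rfl
    · left
      rw [ha, hq0]
    · right
      rw [ha, hq0]
      push_cast
      ring
  have key := za (p := p) (n := n) (Cfsg.Agent.H256.RC.tc_fG h3) nondeg8 finrank8 hs (c := c) (E_le_O hc.1) hc.2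
    hl hl2 hlp ?_ ?_ hcl hc1
  · rw [eg_eq_fx]
    rcases key with h | h
    · left
      rw [h]
      exact finrank_bot F _
    · exact Or.inr h
  · rcases hb with hb | hb
    · rw [hb, ha6]
    · rw [hb, ← pow_mul, mul_comm, pow_mul, ha6, one_pow]
  · rcases hb with hb | hb
    · rw [hb]
      exact ha2
    · rw [hb]
      intro h5
      apply ha2
      have h6 : a ^ 6 = (a ^ 2) ^ 2 * a ^ 2 := by ring
      rw [h5, ha6, one_mul] at h6
      exact h6.symm

end Cfsg.Agent.H393.TZ
end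

private theorem dce_36cee99d7933 : _root_.True := by
  try have : _root_.True := by simp only [_root_.Cfsg.Agent.H393.TZ.nm.eq_1]
  exact _root_.True.intro
end

-- part: H195/RC/TwRoot
section
prune_inst 0xd170654445e202000018259673201e66b60004b200480800084007400ec8ce62288708e1b830151292329cd56035006003000110426800000e000c00091d05a180805602b249a10ce6001f800180000000000000000000000000000000010000200000000
set_option linter.all false
open scoped Cfsg.Agent.FastGrp

-- part: H195/RC/Tw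
section
/-!
# S3510, triality of type iii: the twisted product `⋄ = dia (fG φ)`, `φ³ = 1` (helper195)

`a ↦ a ⋄ w` is `φ²`-semilinear, `w ↦ a ⋄ w` is `φ`-semilinear,
`(u ⋄ w) ⋄ u = φ(Q u) w`, `u ⋄ (w ⋄ u) = φ²(Q u) w`, `(u, w ⋄ z) = φ((u ⋄ w, z))` and the linearised identities.
-/

set_option autoImplicit false
set_option linter.unusedSectionVars false

namespace Cfsg.Agent.H195.RC

open Module QuadraticMap Cfsg.Agent.LieClassical.OrthCore Cfsg.Agent.LieClassical.OrthTrans
  Cfsg.Agent.LieClassical.OrthSimple Cfsg.Agent.ClassicalGeometry.OrthAut1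
  Cfsg.Agent.ClassicalGeometry.OrthSemi Cfsg.Agent.H198.Classes
  Cfsg.Agent.LieClassical.QuadForms Cfsg.Agent.H198.ClassesPlus
  Cfsg.Agent.ClassicalGeometry.TrialityOct Cfsg.Agent.ClassicalGeometry.Triality
  Cfsg.Agent.ClassicalGeometry.TrialitySpaces Cfsg.Agent.H198.TriBase Cfsg.Agent.H198.TriAut
  Cfsg.Agent.H198.TriDia Cfsg.Agent.H198.TriTC

universe u

variable {F : Type u} [Field F] {φ : F ≃+* F}

/-- the twisted product -/
def tw (φ : F ≃+* F) (u w : V8 F) : V8 F := dia (fG φ) u w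

/-- the coordinatewise action of `φ` -/
def cf (φ : F ≃+* F) (x : V8 F) : V8 F := fun i => φ (x i)

theorem cf_add (x y : V8 F) : cf φ (x + y) = cf φ x + cf φ y := by
  funext i; exact map_add φ _ _

theorem cf_smul (c : F) (x : V8 F) : cf φ (c • x) = φ c • cf φ x := by
  funext i; exact map_mul φ _ _

theorem cf_omul (x y : V8 F) : cf φ (omul x y) = omul (cf φ x) (cf φ y) := tri_fG φ x y

theorem cf_oconj (x : V8 F) : cf φ (oconj x) = oconj (cf φ x) := aut_oconj (tri_fG φ) x

theorem cf_norm (x : V8 F) : plusForm 4 F (cf φ x) = φ (plusForm 4 F x) := by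
  rw [norm8, norm8]
  simp only [cf, map_add, map_mul]

theorem cf_polar (x y : V8 F) : polar (plusForm 4 F) (cf φ x) (cf φ y) = φ (polar (plusForm 4 F) x y) := by
  simp only [QuadraticMap.polar, map_sub]
  rw [← cf_add, cf_norm, cf_norm, cf_norm]

theorem polar_oconj (x y : V8 F) : polar (plusForm 4 F) (oconj x) (oconj y) = polar (plusForm 4 F) x y := by
  simp only [QuadraticMap.polar]
  rw [← oconj_add, norm_oconj, norm_oconj, norm_oconj]

section

variable (h : ∀ a : F, φ (φ (φ a)) = a)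

include h

theorem cf3 (x : V8 F) : cf φ (cf φ (cf φ x)) = x := by
  funext i; exact h _

theorem symm_eq (a : F) : φ.symm a = φ (φ a) := by
  rw [RingEquiv.symm_apply_eq, h]

theorem tw_eq (u w : V8 F) : tw φ u w = omul (oconj (cf φ (cf φ u))) (oconj (cf φ w)) := by
  have e : (fG φ)⁻¹.1 (oconj u) = oconj (cf φ (cf φ u)) := by
    have h1 : ∀ x : V8 F, (fG φ)⁻¹.1 x = cf φ (cf φ x) := fun x => by
      funext i
      exact symm_eq h _
    rw [h1, cf_oconj, cf_oconj]
  have e2 : (fG φ).1 (oconj w) = oconj (cf φ w) := cf_oconj w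
  rw [tw, dia, e, e2]

theorem tw_add_left (u u' w : V8 F) : tw φ (u + u') w = tw φ u w + tw φ u' w := by
  rw [tw_eq h, tw_eq h, tw_eq h, cf_add, cf_add, oconj_add, add_omul]

theorem tw_add_right (u w w' : V8 F) : tw φ u (w + w') = tw φ u w + tw φ u w' := by
  rw [tw_eq h, tw_eq h, tw_eq h, cf_add, oconj_add, omul_add]

theorem tw_smul_left (c : F) (u w : V8 F) : tw φ (c • u) w = φ (φ c) • tw φ u w := by
  rw [tw_eq h, tw_eq h, cf_smul, cf_smul, oconj_smul, smul_omul]

theorem tw_smul_right (c : F) (u w : V8 F) : tw φ u (c • w) = φ c • tw φ u w := by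
  rw [tw_eq h, tw_eq h, cf_smul, oconj_smul, omul_smul]

theorem tw_zero_left (w : V8 F) : tw φ 0 w = 0 := by
  have := tw_smul_left h 0 0 w
  rwa [zero_smul, map_zero, map_zero, zero_smul] at this

theorem tw_zero_right (w : V8 F) : tw φ w 0 = 0 := by
  have := tw_smul_right h 0 w 0
  rwa [zero_smul, map_zero, zero_smul] at this

theorem tw_neg_left (u w : V8 F) : tw φ (-u) w = - tw φ u w := by
  rw [eq_neg_iff_add_eq_zero, ← tw_add_left h, neg_add_cancel, tw_zero_left h]

theorem tw_neg_right (u w : V8 F) : tw φ u (-w) = - tw φ u w := by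
  rw [eq_neg_iff_add_eq_zero, ← tw_add_right h, neg_add_cancel, tw_zero_right h]

theorem tw_sub_right (u w w' : V8 F) : tw φ u (w - w') = tw φ u w - tw φ u w' := by
  rw [sub_eq_add_neg, tw_add_right h, tw_neg_right h, ← sub_eq_add_neg]

theorem tw_norm (u w : V8 F) :
    plusForm 4 F (tw φ u w) = φ (φ (plusForm 4 F u)) * φ (plusForm 4 F w) := by
  rw [tw_eq h, norm_omul, norm_oconj, norm_oconj, cf_norm, cf_norm, cf_norm]

/-- `(u ⋄ w) ⋄ u = φ(Q u) w` -/
theorem tw_tw (u w : V8 F) : tw φ (tw φ u w) u = φ (plusForm 4 F u) • w := by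
  have e1 : oconj (cf φ (cf φ (tw φ u w))) = omul w (cf φ u) := by
    rw [tw_eq h, cf_omul, cf_omul, cf_oconj, cf_oconj, cf3 h, cf_oconj, cf_oconj, cf3 h, oconj_omul, oconj_oconj,
      oconj_oconj]
  rw [tw_eq h (tw φ u w) u, e1, omul_omul_oconj, cf_norm]

/-- `u ⋄ (w ⋄ u) = φ²(Q u) w` -/
theorem tw_tw' (u w : V8 F) : tw φ u (tw φ w u) = φ (φ (plusForm 4 F u)) • w := by
  have e1 : oconj (cf φ (tw φ w u)) = omul (cf φ (cf φ u)) w := by
    rw [tw_eq h, cf_omul, cf_oconj, cf3 h, cf_oconj, oconj_omul, oconj_oconj, oconj_oconj]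
  rw [tw_eq h u, e1, oconj_omul_omul, cf_norm, cf_norm]

omit h in
theorem norm_add (u z : V8 F) :
    plusForm 4 F (u + z) = plusForm 4 F u + plusForm 4 F z + polar (plusForm 4 F) u z := by
  rw [QuadraticMap.polar]; ring

/-- linearised identities -/
theorem lin1 (u w z : V8 F) : tw φ (tw φ u w) z + tw φ (tw φ z w) u =
    φ (polar (plusForm 4 F) u z) • w := by
  have h1 := tw_tw h (u + z) w
  rw [tw_add_left h, tw_add_left h, tw_add_right h, tw_add_right h, tw_tw h, tw_tw h] at h1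
  rw [norm_add, map_add, map_add, add_smul, add_smul] at h1
  have h3 : tw φ (tw φ u w) z + tw φ (tw φ z w) u =
      (φ (plusForm 4 F u) • w + tw φ (tw φ u w) z + (tw φ (tw φ z w) u + φ (plusForm 4 F z) • w)) -
        (φ (plusForm 4 F u) • w + φ (plusForm 4 F z) • w) := by abel
  rw [h3, h1]
  abel

theorem lin2 (u w z : V8 F) : tw φ u (tw φ w z) + tw φ z (tw φ w u) =
    φ (φ (polar (plusForm 4 F) u z)) • w := by
  have h1 := tw_tw' h (u + z) w
  rw [tw_add_right h, tw_add_left h, tw_add_right h, tw_add_right h, tw_tw' h, tw_tw' h] at h1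
  rw [norm_add, map_add, map_add, map_add, map_add, add_smul, add_smul] at h1
  have h3 : tw φ u (tw φ w z) + tw φ z (tw φ w u) =
      (φ (φ (plusForm 4 F u)) • w + tw φ u (tw φ w z) + (tw φ z (tw φ w u) + φ (φ (plusForm 4 F z)) • w)) -
        (φ (φ (plusForm 4 F u)) • w + φ (φ (plusForm 4 F z)) • w) := by abel
  rw [h3, h1]
  abel

/-- the polar form is invariant up to `φ` -/
theorem tw_assoc (u w z : V8 F) :
    polar (plusForm 4 F) u (tw φ w z) = φ (polar (plusForm 4 F) (tw φ u w) z) := by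
  have e1 : cf φ (cf φ (tw φ w z)) = omul (oconj (cf φ w)) (oconj z) := by
    rw [tw_eq h, cf_omul, cf_omul, cf_oconj, cf_oconj, cf3 h, cf_oconj, cf_oconj, cf3 h]
  have e2 : polar (plusForm 4 F) u (tw φ w z) =
      φ (polar (plusForm 4 F) (cf φ (cf φ u)) (cf φ (cf φ (tw φ w z)))) := by
    rw [cf_polar, cf_polar, h]
  rw [e2, e1]
  congr 1
  rw [tw_eq h, polar_omul, oconj_oconj]
  rw [← polar_oconj, oconj_omul, oconj_oconj, oconj_oconj]

theorem tw_polar_left (u w w' : V8 F) : polar (plusForm 4 F) (tw φ u w) (tw φ u w') =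
    φ (φ (plusForm 4 F u)) * φ (polar (plusForm 4 F) w w') := by
  have h1 := tw_norm h u (w + w')
  rw [tw_add_right h, norm_add, norm_add, tw_norm h, tw_norm h, map_add, map_add] at h1
  linear_combination h1

/-- the linearised norm -/
theorem tw_polar (u w u' w' : V8 F) : polar (plusForm 4 F) (tw φ u w) (tw φ u' w') +
    polar (plusForm 4 F) (tw φ u w') (tw φ u' w) =
    φ (φ (polar (plusForm 4 F) u u')) * φ (polar (plusForm 4 F) w w') := by
  have k1 := tw_polar_left h (F := F)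
  have h2 := k1 (u + u') w w'
  rw [tw_add_left h, tw_add_left h, polar_add_left, polar_add_right, polar_add_right, k1, k1, norm_add, map_add,
    map_add, map_add, map_add, polar_comm (plusForm 4 F) (tw φ u' w) (tw φ u w')] at h2
  linear_combination h2

end

end Cfsg.Agent.H195.RC
end

-- part: H195/RC/TwRoot
section
/-!
# S3510, triality of type iii: the image of a long root element (helper195)

`g = siegel a b` (`a`, `b` singular, orthogonal): `g (x ⋄ z) = (x + (a ⋄ x) ⋄ b) ⋄ (z - a ⋄ (z ⋄ b))`, so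
`x₁ g x₁⁻¹ = 1 + R_{a,b}`, `R_{a,b} x = (a ⋄ x) ⋄ b`.
-/

set_option autoImplicit false
set_option linter.unusedSectionVars false

namespace Cfsg.Agent.H195.RC

open Module QuadraticMap Cfsg.Agent.LieClassical.OrthCore Cfsg.Agent.LieClassical.OrthTrans
  Cfsg.Agent.LieClassical.OrthSimple Cfsg.Agent.ClassicalGeometry.OrthAut1
  Cfsg.Agent.ClassicalGeometry.OrthSemi Cfsg.Agent.H198.Classes
  Cfsg.Agent.LieClassical.QuadForms Cfsg.Agent.H198.ClassesPlus
  Cfsg.Agent.ClassicalGeometry.TrialityOct Cfsg.Agent.ClassicalGeometry.Triality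
  Cfsg.Agent.ClassicalGeometry.TrialitySpaces Cfsg.Agent.H198.TriBase Cfsg.Agent.H198.TriAut
  Cfsg.Agent.H198.TriDia Cfsg.Agent.H198.TriTC Cfsg.Agent.H106.RC Cfsg.Agent.H93.RC Cfsg.Agent.H566.RC

universe u

variable {F : Type u} [Field F] {φ : F ≃+* F}

/-- triality automorphism and product: `M (u ⋄ w) = M' u ⋄ M'' w` implies `x₁ M x₁⁻¹ = M'` -/
theorem xt_conj_tri (hG : Good (plusForm 4 F)) {τ : G8 F} (hτ : TriS τ τ τ) {M M' M'' : G8 F}
    (h : ∀ u w, M.1 (dia τ u w) = dia τ (M'.1 u) (M''.1 w)) :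
    xt hG τ * Psi _ M * (xt hG τ)⁻¹ = Psi _ M' := by
  have hi : ∀ x : V8 F, τ⁻¹.1 (τ.1 x) = x := fun x => τ.1.symm_apply_apply x
  have hi' : ∀ x : V8 F, τ.1 (τ⁻¹.1 x) = x := fun x => τ.1.apply_symm_apply x
  have hk : TriS M (kapG F * τ⁻¹ * M' * τ * kapG F) (kapG F * τ * M'' * τ⁻¹ * kapG F) := by
    intro x y
    have e := h (τ.1 (oconj x)) (τ⁻¹.1 (oconj y))
    have e1 : dia τ (τ.1 (oconj x)) (τ⁻¹.1 (oconj y)) = omul x y := by
      rw [dia, ← aut_oconj hτ, ← aut_oconj hτ.inv, oconj_oconj, oconj_oconj, hi, hi']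
    rw [e1] at e
    rw [e, dia, aut_oconj hτ.inv (M'.1 _), aut_oconj hτ (M''.1 _)]
    rfl
  have h1 := rho_conj hG hk
  have e2 : kapG F * (kapG F * τ⁻¹ * M' * τ * kapG F) * kapG F = τ⁻¹ * M' * τ := by
    have hkk := kapG_mul_kapG (F := F)
    calc kapG F * (kapG F * τ⁻¹ * M' * τ * kapG F) * kapG F =
        (kapG F * kapG F) * (τ⁻¹ * M' * τ) * (kapG F * kapG F) := by group
      _ = _ := by rw [hkk, one_mul, mul_one]
  rw [e2] at h1
  have e3 : xt hG τ * Psi _ M * (xt hG τ)⁻¹ = Psi _ τ * (rho hG * Psi _ M * (rho hG)⁻¹) * (Psi _ τ)⁻¹ := by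
    rw [xt]; group
  rw [e3, h1, ← map_inv, ← map_mul, ← map_mul]
  congr 1
  group

/-- `(a ⋄ x) ⋄ b` -/
def Rw (φ : F ≃+* F) (a b x : V8 F) : V8 F := tw φ (tw φ a x) b

/-- `a ⋄ (x ⋄ b)` -/
def Lw (φ : F ≃+* F) (a b x : V8 F) : V8 F := tw φ a (tw φ x b)

section

variable (h : ∀ a : F, φ (φ (φ a)) = a) {a b : V8 F}

include h

theorem Rw_add (x y : V8 F) : Rw φ a b (x + y) = Rw φ a b x + Rw φ a b y := by
  unfold Rw; rw [tw_add_right h, tw_add_left h]

theorem Rw_smul (c : F) (x : V8 F) : Rw φ a b (c • x) = c • Rw φ a b x := by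
  unfold Rw; rw [tw_smul_right h, tw_smul_left h, h]

theorem Lw_add (x y : V8 F) : Lw φ a b (x + y) = Lw φ a b x + Lw φ a b y := by
  unfold Lw; rw [tw_add_left h, tw_add_right h]

theorem Lw_smul (c : F) (x : V8 F) : Lw φ a b (c • x) = c • Lw φ a b x := by
  unfold Lw; rw [tw_smul_left h, tw_smul_right h, h]

theorem Rw_anti (hab : polar (plusForm 4 F) a b = 0) (x : V8 F) : Rw φ a b x = - Rw φ b a x := by
  have := lin1 h a x b
  rw [hab, map_zero, zero_smul] at this
  exact eq_neg_of_add_eq_zero_left this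

theorem Lw_anti (hab : polar (plusForm 4 F) a b = 0) (x : V8 F) : Lw φ a b x = - Lw φ b a x := by
  have := lin2 h a x b
  rw [hab, map_zero, map_zero, zero_smul] at this
  exact eq_neg_of_add_eq_zero_left this

/-- `R² = 0` -/
theorem Rw_Rw (ha : plusForm 4 F a = 0) (hab : polar (plusForm 4 F) a b = 0) (x : V8 F) :
    Rw φ a b (Rw φ a b x) = 0 := by
  rw [Rw_anti h hab x]
  unfold Rw
  rw [tw_neg_right h, tw_tw' h, ha, map_zero, map_zero, zero_smul, neg_zero, tw_zero_left h]

theorem Lw_Lw (hb : plusForm 4 F b = 0) (hab : polar (plusForm 4 F) a b = 0) (x : V8 F) :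
    Lw φ a b (Lw φ a b x) = 0 := by
  rw [Lw_anti h hab x]
  unfold Lw
  rw [tw_neg_left h, tw_tw h, hb, map_zero, zero_smul, neg_zero, tw_zero_right h]

theorem Rw_norm (ha : plusForm 4 F a = 0) (x : V8 F) : plusForm 4 F (Rw φ a b x) = 0 := by
  unfold Rw; rw [tw_norm h, tw_norm h, ha]; simp

theorem Lw_norm (hb : plusForm 4 F b = 0) (x : V8 F) : plusForm 4 F (Lw φ a b x) = 0 := by
  unfold Lw; rw [tw_norm h, tw_norm h, hb]; simp

theorem Rw_polar (hab : polar (plusForm 4 F) a b = 0) (x : V8 F) :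
    polar (plusForm 4 F) x (Rw φ a b x) = 0 := by
  unfold Rw
  rw [tw_assoc h, tw_tw' h, polar_smul_left, hab, smul_zero, map_zero]

theorem Lw_polar (hab : polar (plusForm 4 F) a b = 0) (x : V8 F) :
    polar (plusForm 4 F) x (Lw φ a b x) = 0 := by
  unfold Lw
  rw [tw_assoc h, tw_polar_left h, hab, map_zero, mul_zero, map_zero]

/-- **the triality identity of a long root element** -/
theorem tri_id (ha : plusForm 4 F a = 0) (hb : plusForm 4 F b = 0) (hab : polar (plusForm 4 F) a b = 0)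
    (x z : V8 F) : tw φ x z + (polar (plusForm 4 F) a (tw φ x z) • b - polar (plusForm 4 F) b (tw φ x z) • a) =
      tw φ (x + Rw φ a b x) (z - Lw φ a b z) := by
  have e1 : tw φ (Rw φ a b x) z - tw φ x (Lw φ a b z) =
      polar (plusForm 4 F) a (tw φ x z) • b - polar (plusForm 4 F) b (tw φ x z) • a := by
    have k1 := lin1 h (tw φ a x) b z
    have k2 := lin2 h x a (tw φ z b)
    have k3 : φ (polar (plusForm 4 F) (tw φ a x) z) = polar (plusForm 4 F) a (tw φ x z) := (tw_assoc h _ _ _).symm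
    have k4 : φ (φ (polar (plusForm 4 F) x (tw φ z b))) = polar (plusForm 4 F) b (tw φ x z) := by
      rw [tw_assoc h, h, polar_comm]
    rw [k3] at k1
    rw [k4] at k2
    unfold Rw Lw
    rw [← k1, ← k2]
    abel
  have e2 : tw φ (Rw φ a b x) (Lw φ a b z) = 0 := by
    have k0 : polar (plusForm 4 F) (tw φ b x) (tw φ a (tw φ z b)) = 0 := by
      have := tw_polar h b x a (tw φ z b)
      rw [tw_tw' h, hb, map_zero, map_zero, zero_smul, polar_comm _ b a, hab] at this
      simpa using this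
    rw [Rw_anti h hab x]
    unfold Rw Lw
    rw [tw_neg_left h]
    have k1 := lin1 h (tw φ b x) a (tw φ a (tw φ z b))
    rw [tw_tw h, ha, map_zero, zero_smul, tw_zero_left h, add_zero, k0, map_zero, zero_smul] at k1
    rw [k1, neg_zero]
  rw [tw_add_left h, tw_sub_right h, tw_sub_right h, e2, sub_zero, ← e1]
  abel

end

/-! ### the elements of `G8 F` -/

section

variable (h : ∀ a : F, φ (φ (φ a)) = a) {a b : V8 F} (ha : plusForm 4 F a = 0) (hb : plusForm 4 F b = 0)
  (hab : polar (plusForm 4 F) a b = 0)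

/-- `1 + R` -/
def RP : Equiv.Perm (V8 F) where
  toFun x := x + Rw φ a b x
  invFun x := x - Rw φ a b x
  left_inv x := by
    change x + Rw φ a b x - Rw φ a b (x + Rw φ a b x) = x
    rw [Rw_add h, Rw_Rw h ha hab]; abel
  right_inv x := by
    change x - Rw φ a b x + Rw φ a b (x - Rw φ a b x) = x
    have e : Rw φ a b (x - Rw φ a b x) = Rw φ a b x := by
      have := Rw_add h (a := a) (b := b) (x - Rw φ a b x) (Rw φ a b x)
      rw [sub_add_cancel, Rw_Rw h ha hab, add_zero] at this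
      exact this.symm
    rw [e]; abel

theorem isSS_RP : IsSS (plusForm 4 F) (RingEquiv.refl F) 1 (RP h ha hab) := by
  refine ⟨one_ne_zero, fun u v => ?_, fun c v => ?_, fun v => ?_⟩
  · change u + v + Rw φ a b (u + v) = u + Rw φ a b u + (v + Rw φ a b v)
    rw [Rw_add h]; abel
  · change c • v + Rw φ a b (c • v) = c • (v + Rw φ a b v)
    rw [Rw_smul h, smul_add]
  · change plusForm 4 F (v + Rw φ a b v) = _
    rw [norm_add, Rw_norm h ha, Rw_polar h hab, one_mul, RingEquiv.refl_apply]; ring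

/-- the semisimilitude `1 + R` -/
def RG : G8 F := ⟨RP h ha hab, _, _, isSS_RP h ha hab⟩

/-- `1 - L` -/
def LP : Equiv.Perm (V8 F) where
  toFun x := x - Lw φ a b x
  invFun x := x + Lw φ a b x
  left_inv x := by
    change x - Lw φ a b x + Lw φ a b (x - Lw φ a b x) = x
    have e : Lw φ a b (x - Lw φ a b x) = Lw φ a b x := by
      have := Lw_add h (a := a) (b := b) (x - Lw φ a b x) (Lw φ a b x)
      rw [sub_add_cancel, Lw_Lw h hb hab, add_zero] at this
      exact this.symm
    rw [e]; abel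
  right_inv x := by
    change x + Lw φ a b x - Lw φ a b (x + Lw φ a b x) = x
    rw [Lw_add h, Lw_Lw h hb hab]; abel

theorem isSS_LP : IsSS (plusForm 4 F) (RingEquiv.refl F) 1 (LP h hb hab) := by
  refine ⟨one_ne_zero, fun u v => ?_, fun c v => ?_, fun v => ?_⟩
  · change u + v - Lw φ a b (u + v) = u - Lw φ a b u + (v - Lw φ a b v)
    rw [Lw_add h]; abel
  · change c • v - Lw φ a b (c • v) = c • (v - Lw φ a b v)
    rw [Lw_smul h, smul_sub]
  · change plusForm 4 F (v - Lw φ a b v) = _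
    rw [sub_eq_add_neg, norm_add, QuadraticMap.map_neg, Lw_norm h hb, polar_neg_right, Lw_polar h hab, one_mul,
      RingEquiv.refl_apply]
    ring

/-- the semisimilitude `1 - L` -/
def LG : G8 F := ⟨LP h hb hab, _, _, isSS_LP h hb hab⟩

/-- the Siegel element as element of `E Q` -/
noncomputable def sE (ha : plusForm 4 F a = 0) (hab : polar (plusForm 4 F) a b = 0) : ↥(E (plusForm 4 F)) :=
  ⟨siegel (plusForm 4 F) a b ha hab, siegel_mem_E _ _⟩

theorem sE_apply (x : V8 F) : (sE ha hab : V8 F ≃ₗ[F] V8 F) x = x + polar (plusForm 4 F) a x • b -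
    polar (plusForm 4 F) b x • a - (plusForm 4 F b * polar (plusForm 4 F) a x) • a := by
  change siegel (plusForm 4 F) a b ha hab x = _
  rw [siegel_apply]

include hb in
/-- **`x₁ g x₁⁻¹ = 1 + R` for the long root element `g`** -/
theorem xt_siegel (hG : Good (plusForm 4 F)) : xt hG (fG φ) * Psi _ (tg _ (sE ha hab)) * (xt hG (fG φ))⁻¹ =
    Psi _ (RG h ha hab) := by
  apply xt_conj_tri hG (tri_fG φ) (M'' := LG h hb hab)
  intro x z
  rw [tg_apply, sE_apply, hb, zero_mul, zero_smul, sub_zero, add_sub_assoc]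
  exact tri_id h ha hb hab x z

end

end Cfsg.Agent.H195.RC
end

private theorem dce_e55634af23de : _root_.True := by
  try have : _root_.True := by simp only [_root_.Cfsg.Agent.H195.RC.tw.eq_1]
  try have : _root_.True := by simp only [_root_.Cfsg.Agent.H195.RC.cf.eq_1]
  exact _root_.True.intro
end

-- part: H864/RC/Def3
section
prune_inst 0x10000000000000
set_option linter.all false
open scoped Cfsg.Agent.FastGrp

-- part: H864/RC/T3
section
/-!
# S3510, triality part of `PΩ₈⁺(q)`, type iii (helper864): the environment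

`T3 hG N κ s Ω x₁ x r g`: `x₁` induces the triality automorphism `xt hG (fG s)`, `s` a field automorphism of
order three; the other members `x i` of the cover are the images of commuting elements `g i` of
`AutD (fG s)` (automorphisms in `Ω₈⁺` of the twisted product `dia (fG s)`), of different prime orders `r i ≠ 3`.
`NoN Ω N`: no cover by a `PF` family of elements of `N` (row `F` without triality).
-/

set_option autoImplicit false
open Cfsg

namespace Cfsg.Agent.H864.RC

open Module QuadraticMap MulAction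
open Cfsg.Agent.LieClassical.OrthCore Cfsg.Agent.LieClassical.OrthTrans
open Cfsg.Agent.LieClassical.OrthSimple Cfsg.Agent.ClassicalGeometry.OrthSemi
open Cfsg.Agent.ClassicalGeometry.OrthAut1 Cfsg.Agent.H106.RC Cfsg.Agent.H93.RC Cfsg.Agent.H566.RC
open Cfsg.Agent.LieClassical.QuadForms Cfsg.Agent.ClassicalGeometry.TrialityOct
open Cfsg.Agent.ClassicalGeometry.Triality Cfsg.Agent.ClassicalGeometry.TrialitySpaces
open Cfsg.Agent.H198.TriBase Cfsg.Agent.H198.TriAut Cfsg.Agent.H206.Balance Cfsg.Agent.H198.TriDia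

variable {F : Type} [Field F] {G Ω ι : Type} [Group G] [MulAction G Ω] {N : Subgroup G}

/-- no cover by commuting elements of `N` of different prime orders -/
def NoN (Ω : Type) {G : Type} [Group G] [MulAction G Ω] (N : Subgroup G) : Prop :=
  ∀ (κ : Type) [Finite κ] (y : κ → G) (t : κ → ℕ), PF y t → Cov Ω y → (∀ i, y i ∈ N) → False

/-- the environment of type iii -/
structure T3 (hG : Good (plusForm 4 F)) (N : Subgroup G) (κ : P8 F →* G) (s : F ≃+* F) (Ω : Type)
    [MulAction G Ω] (x₁ : G) (x : ι → G) (r : ι → ℕ) (g : ι → (V8 F ≃ₗ[F] V8 F)) : Prop where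
  env : Env G Ω N
  rp : Rp (plusForm 4 F) N κ
  cube : ∀ a, s (s (s a)) = a
  ne : s ≠ RingEquiv.refl F
  tri : La κ x₁ (xt hG (fG s))
  prime : ∀ i, (r i).Prime
  inj : Function.Injective r
  three : ∀ i, r i ≠ 3
  mem : ∀ i, g i ∈ AutD (fG s)
  lift : ∀ i, x i = κ (mkD (fG s) ⟨g i, mem i⟩)
  pow : ∀ i, g i ^ r i = 1
  ne1 : ∀ i, g i ≠ 1
  comm : ∀ i j, g i * g j = g j * g i
  cov : ∀ ω : Ω, x₁ • ω = ω ∨ ∃ i, x i • ω = ω

section cons

variable {hG : Good (plusForm 4 F)} {κ : P8 F →* G} {s : F ≃+* F} {x₁ : G} {x : ι → G} {r : ι → ℕ}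
  {g : ι → (V8 F ≃ₗ[F] V8 F)}

theorem T3.x_eq (h : T3 hG N κ s Ω x₁ x r g) (i : ι) :
    x i = up κ ⟨g i, (h.mem i).1⟩ := h.lift i

theorem T3.x_mem (h : T3 hG N κ s Ω x₁ x r g) (i : ι) : x i ∈ N := by
  have h1 : x i ∈ κ.range := by
    rw [h.lift]
    exact ⟨_, rfl⟩
  rw [h.rp.range] at h1
  exact h1

theorem T3.x_comm (h : T3 hG N κ s Ω x₁ x r g) (i j : ι) : x i * x j = x j * x i := by
  rw [h.lift, h.lift, ← map_mul, ← map_mul, ← map_mul, ← map_mul]
  congr 2
  exact Subtype.ext (h.comm i j)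

theorem T3.x_pow (h : T3 hG N κ s Ω x₁ x r g) (i : ι) : x i ^ r i = 1 := by
  rw [h.lift, ← map_pow, ← map_pow]
  have : (⟨g i, h.mem i⟩ : ↥(AutD (fG s))) ^ r i = 1 := Subtype.ext (by
    rw [Subgroup.coe_pow]; exact h.pow i)
  rw [this, map_one, map_one]

theorem T3.x_ne (h : T3 hG N κ s Ω x₁ x r g) (i : ι) : x i ≠ 1 := by
  intro h1
  rw [h.lift] at h1
  have h2 := (map_eq_one_iff κ h.rp.inj).1 h1
  have h3 := (map_eq_one_iff _ (mkD_injective hG (fG s))).1 h2
  exact h.ne1 i (congrArg Subtype.val h3)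

theorem T3.pf (h : T3 hG N κ s Ω x₁ x r g) : PF x r :=
  ⟨h.prime, h.inj, h.x_pow, h.x_ne, h.x_comm⟩

/-- `κ (mk c)`, `c ∈ AutD`, commutes with `x₁` -/
theorem T3.comm_of_mem (h : T3 hG N κ s Ω x₁ x r g) {c : V8 F ≃ₗ[F] V8 F} (hc : c ∈ AutD (fG s)) :
    x₁ * up κ ⟨c, hc.1⟩ = up κ ⟨c, hc.1⟩ * x₁ := by
  have h1 := h.tri (mkD (fG s) ⟨c, hc⟩)
  have h2 : mkD (fG s) ⟨c, hc⟩ ∈ Fx (xt hG (fG s)) := by
    rw [← mkD_range hG (tri_fG s)]
    exact ⟨_, rfl⟩
  have h3 : xt hG (fG s) (mkD (fG s) ⟨c, hc⟩) = mkD (fG s) ⟨c, hc⟩ := h2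
  rw [h3] at h1
  exact mul_inv_eq_iff_eq_mul.1 h1

theorem T3.x1_comm (h : T3 hG N κ s Ω x₁ x r g) (i : ι) : x₁ * x i = x i * x₁ := by
  rw [h.x_eq]
  exact h.comm_of_mem (h.mem i)

/-- conversely, an element of `E Q` whose class commutes with `x₁` is, up to sign, in `AutD` -/
theorem T3.mem_of_comm (h : T3 hG N κ s Ω x₁ x r g) (c : ↥(E (plusForm 4 F)))
    (hc : x₁ * up κ c = up κ c * x₁) :
    ∃ c' : ↥(E (plusForm 4 F)), (c' : P8 F) = (c : P8 F) ∧ (c' : V8 F ≃ₗ[F] V8 F) ∈ AutD (fG s) := by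
  have h1 := h.tri (c : P8 F)
  have h2 : x₁ * κ (c : P8 F) * x₁⁻¹ = κ (c : P8 F) := by
    rw [mul_inv_eq_iff_eq_mul]; exact hc
  rw [h2] at h1
  have h3 := h.rp.inj h1
  exact (mem_Fx_xt hG (tri_fG s)).1 (h3.symm : xt hG (fG s) (c : P8 F) = (c : P8 F))

theorem T3.x1_cube (h : T3 hG N κ s Ω x₁ x r g) : x₁ ^ 3 = 1 := by
  have h1 : La κ (x₁ ^ 3) (xt hG (fG s) ^ 3) := h.tri.pow 3
  have h3 : (fG s) ^ 3 = 1 := by
    apply Subtype.ext
    apply Equiv.ext
    intro v
    rw [pow_three]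
    show (fG s).1 ((fG s).1 ((fG s).1 v)) = v
    funext i
    rw [fG_apply, fG_apply, fG_apply, h.cube]
  rw [xt_pow_three hG (tri_fG s) h3] at h1
  exact h1.eq h.env h.rp La.one

end cons

end Cfsg.Agent.H864.RC
end

-- part: H864/RC/Def3
section
/-!
# S3510, triality part of `PΩ₈⁺(q)`, type iii (helper864): the definitions of the boxes

The statements of the boxes are in `tools/plans/S3510_tri3_stubs.lean.txt`.
-/

set_option autoImplicit false
open Cfsg

namespace Cfsg.Agent.H864.RC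

open Module QuadraticMap MulAction
open Cfsg.Agent.LieClassical.OrthCore Cfsg.Agent.LieClassical.OrthTrans
open Cfsg.Agent.LieClassical.OrthSimple Cfsg.Agent.ClassicalGeometry.OrthSemi
open Cfsg.Agent.ClassicalGeometry.OrthAut1 Cfsg.Agent.H106.RC Cfsg.Agent.H93.RC Cfsg.Agent.H566.RC
open Cfsg.Agent.LieClassical.QuadForms Cfsg.Agent.ClassicalGeometry.TrialityOct
open Cfsg.Agent.ClassicalGeometry.Triality Cfsg.Agent.ClassicalGeometry.TrialitySpaces
open Cfsg.Agent.H198.TriBase Cfsg.Agent.H198.TriAut Cfsg.Agent.H206.Balance Cfsg.Agent.H198.TriDia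
open Cfsg.Agent.H198.TwComp Cfsg.Agent.H198

variable {F : Type} [Field F]

/-- eigenspaces -/
abbrev Eg (c : V8 F ≃ₗ[F] V8 F) (z : F) : Submodule F (V8 F) :=
  Module.End.eigenspace (c : V8 F →ₗ[F] V8 F) z

/-- `[C, x]` -/
def comC {G : Type} [Group G] (C : Subgroup G) (x : G) : Subgroup G :=
  Subgroup.closure {z | ∃ c ∈ C, z = c * x * c⁻¹ * x⁻¹}

/-- centraliser in `N` of all `x i` -/
def CN {G ι : Type} [Group G] (N : Subgroup G) (x : ι → G) : Subgroup G :=
  N ⊓ Subgroup.centralizer (Set.range x)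

/-- (G1) two dual totally singular planes -/
structure G1 {ι : Type} (g : ι → (V8 F ≃ₗ[F] V8 F)) (L L' : Submodule F (V8 F)) : Prop where
  two : finrank F L = 2
  two' : finrank F L' = 2
  sing : ∀ v ∈ L, plusForm 4 F v = 0
  sing' : ∀ v ∈ L', plusForm 4 F v = 0
  dual : ∀ v ∈ L, (∀ w ∈ L', polar (plusForm 4 F) v w = 0) → v = 0
  inv : ∀ i, ∀ v ∈ L, g i v ∈ L
  inv' : ∀ i, ∀ v ∈ L', g i v ∈ L'
  /-- every element of `E Q` of odd prime order `≠ char` commuting with the `g i` preserves `L` -/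
  pres : ∀ c ∈ E (plusForm 4 F), (∀ i, c * g i = g i * c) → ∀ l : ℕ, l.Prime → l ≠ 2 → (l : F) ≠ 0 → c ^ l = 1 →
    ∀ v ∈ L, c v ∈ L

/-- (G2) elements of `E Q` of all odd orders `l ∣ n` (`l ≠ 3`) commuting with the `g i`,
`n = q² + q + 1, q² - q + 1, q² + 1` -/
def G2 {ι : Type} (g : ι → (V8 F ≃ₗ[F] V8 F)) : Prop :=
  ∃ n : ℕ, (n = Nat.card F ^ 2 + Nat.card F + 1 ∨ n = Nat.card F ^ 2 - Nat.card F + 1 ∨ n = Nat.card F ^ 2 + 1) ∧
    ∀ l : ℕ, l.Prime → l ≠ 2 → l ≠ 3 → l ∣ n →
      ∃ c ∈ E (plusForm 4 F), c ^ l = 1 ∧ c ≠ 1 ∧ ∀ i, c * g i = g i * c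

/-- (G3) four orthogonal anisotropic planes -/
structure G3 {ι : Type} (g : ι → (V8 F ≃ₗ[F] V8 F)) (P : Fin 4 → Submodule F (V8 F)) : Prop where
  two : ∀ k, finrank F (P k) = 2
  perp : ∀ k l, k ≠ l → ∀ v ∈ P k, ∀ w ∈ P l, polar (plusForm 4 F) v w = 0
  aniso : ∀ k, ∀ v ∈ P k, plusForm 4 F v = 0 → v = 0
  inv : ∀ k i, ∀ v ∈ P k, g i v ∈ P k
  /-- every `l`-element of `E Q`, `l` odd, `l ≠ char`, commuting with the `g i` preserves the `P k` -/
  pres : ∀ c ∈ E (plusForm 4 F), (∀ i, c * g i = g i * c) → ∀ l k : ℕ, l.Prime → l ≠ 2 → (l : F) ≠ 0 →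
    c ^ (l ^ k) = 1 → ∀ j, ∀ v ∈ P j, c v ∈ P j

end Cfsg.Agent.H864.RC
end
end

-- part: H338/RC/N2
section
set_option linter.all false
open scoped Cfsg.Agent.FastGrp

/-!
# S3510, triality type iii (helper338): a quasisimple classical subgroup normalised by all members

`n2` : if `M ≤ N` is quasisimple of classical type, normalised by `x₁` and the `x i`, not centralised by `x₁`, and has
an element of order three, contradiction (`NoN`).
-/

set_option autoImplicit false
open Cfsg

namespace Cfsg.Agent.H338.RC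

open Module QuadraticMap MulAction
open Cfsg.Agent.LieClassical.OrthCore Cfsg.Agent.LieClassical.OrthTrans
open Cfsg.Agent.LieClassical.OrthSimple Cfsg.Agent.LieClassical.QuadForms
open Cfsg.Agent.ClassicalGeometry.Triality Cfsg.Agent.H106.RC Cfsg.Agent.H93.RC Cfsg.Agent.H566.RC
open Cfsg.Agent.H198.TriAut Cfsg.Agent.H864.RC
open scoped commutatorElement

theorem n2 {F : Type} [Field F] {G Ω ι : Type} [Group G] [MulAction G Ω] {N : Subgroup G}
    {hG : Good (plusForm 4 F)} {κ : P8 F →* G} {s : F ≃+* F} {x₁ : G} {x : ι → G} {r : ι → ℕ}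
    {g : ι → (V8 F ≃ₗ[F] V8 F)} [Finite G] [Finite ι]
    (h : T3 hG N κ s Ω x₁ x r g) (hIH : IH (Nat.card N)) (hN : NoN Ω N) {S' : Type} [Group S'] [Finite S']
    {M : Subgroup G} (hMN : M ≤ N) (hne : M ≠ N) (hperf : ⁅M, M⁆ = M) (π : M →* S')
    (hπ : Function.Surjective π) (hker : π.ker ≤ Subgroup.center M) (h1 : IsSimpleGroup S')
    (h2 : ¬ IsMulCommutative S') (h3 : Cl S') (h4 : ¬ Exc S')
    (hn1 : x₁ ∈ Subgroup.normalizer (M : Set G)) (hn : ∀ i, x i ∈ Subgroup.normalizer (M : Set G))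
    (hx1 : ∃ m ∈ M, x₁ * m ≠ m * x₁) {y : G} (hy : y ∈ M) (hy3 : y ^ 3 = 1) (hy1 : y ≠ 1) : False := by
  have hx₁ : x₁ ≠ 1 := by
    rintro rfl
    obtain ⟨m, -, hm⟩ := hx1
    exact hm (by rw [one_mul, mul_one])
  have hPF : PF (fun o : Option ι => o.elim x₁ x) (fun o => o.elim 3 r) := by
    refine ⟨?_, ?_, ?_, ?_, ?_⟩
    · rintro (_ | i)
      · exact Nat.prime_three
      · exact h.prime i
    · rintro (_ | i) (_ | j) hij
      · rfl
      · exact absurd hij.symm (h.three j)
      · exact absurd hij (h.three i)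
      · exact congrArg some (h.inj hij)
    · rintro (_ | i)
      · exact h.x1_cube
      · exact h.x_pow i
    · rintro (_ | i)
      · exact hx₁
      · exact h.x_ne i
    · rintro (_ | i) (_ | j)
      · rfl
      · exact h.x1_comm j
      · exact (h.x1_comm i).symm
      · exact h.x_comm i j
  have hCov : Cov Ω (fun o : Option ι => o.elim x₁ x) := by
    intro ω
    rcases h.cov ω with hω | ⟨i, hω⟩
    · exact ⟨none, hω⟩
    · exact ⟨some i, hω⟩
  have hrule := mrule_IH hIH (MulEquiv.refl N) hMN hne hperf π hπ hker h1 h2 h3 h4 hPF hCov (by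
    rintro (_ | i)
    · exact hn1
    · exact hn i)
  let J : Type := {j : ι // ∀ m ∈ M, x j * m = m * x j}
  refine hN (Option J) (fun o => o.elim y (fun j => x j.1)) (fun o => o.elim 3 (fun j => r j.1)) ?_ ?_ ?_
  · refine ⟨?_, ?_, ?_, ?_, ?_⟩
    · rintro (_ | j)
      · exact Nat.prime_three
      · exact h.prime j.1
    · rintro (_ | i) (_ | j) hij
      · rfl
      · exact absurd hij.symm (h.three j.1)
      · exact absurd hij (h.three i.1)
      · exact congrArg some (Subtype.ext (h.inj hij))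
    · rintro (_ | j)
      · exact hy3
      · exact h.x_pow j.1
    · rintro (_ | j)
      · exact hy1
      · exact h.x_ne j.1
    · rintro (_ | i) (_ | j)
      · rfl
      · exact (j.2 y hy).symm
      · exact i.2 y hy
      · exact h.x_comm i.1 j.1
  · intro ω
    rcases hrule ω with hω | ⟨o, ho, hω⟩
    · exact ⟨none, hω hy⟩
    · rcases o with _ | j
      · exfalso
        obtain ⟨m, hm, hm'⟩ := hx1
        exact hm' (ho m hm)
      · exact ⟨some ⟨j, ho⟩, hω⟩
  · rintro (_ | j)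
    · exact hMN hy
    · exact h.x_mem j.1

end Cfsg.Agent.H338.RC
end

-- part: H253/RC/T3Tools
section
prune_inst 0xd160614445e202000018251650203e66fa0004b20048080048000f400688ec622d8228e1bc2015121a308845003d0060000000100050000004000c00091905a180805602a349a10ce6001f800180000000000000000000000000000000010000200000000
set_option linter.all false
open scoped Cfsg.Agent.FastGrp

-- part: H579/RC/KL
section
/-!
# S3510, triality: the rules (IR) and (KL) (helper579)

* `kl` : `D = [C, x]` of order prime to `3` and `l`, `x` a `3`-element : every `l`-subgroup of `C` is centralised by a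
  `D`-conjugate of `x`.
* `ir_kl` : the same for a cover, `C` = centraliser in `N` of the other members; `hgen` = the generic part (`Fgen`).
-/

set_option autoImplicit false
open Cfsg

namespace Cfsg.Agent.H579.RC

open MulAction Cfsg.Agent.H106.RC
open scoped Pointwise

section kl

variable {G : Type*} [Group G] [Finite G]

/-- coprime conjugacy for a `3`-element acting on `D P` -/
theorem kl {t l : ℕ} [Fact t.Prime] [Fact l.Prime] {D P : Subgroup G} {x : G} {k : ℕ} (hx : x ^ t ^ k = 1)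
    (hDx : ∀ d ∈ D, x * d * x⁻¹ ∈ D) (hDP : ∀ p ∈ P, ∀ d ∈ D, p * d * p⁻¹ ∈ D)
    (hcm : ∀ p ∈ P, p * x * p⁻¹ * x⁻¹ ∈ D) (hP : IsPGroup l P)
    (h3 : ¬ t ∣ Nat.card D) (hl : ¬ l ∣ Nat.card D) :
    ∃ d ∈ D, ∀ p ∈ P, (d⁻¹ * x * d) * p = p * (d⁻¹ * x * d) := by
  classical
  -- `D ∩ P = 1`
  have hdisj : ∀ y, y ∈ D → y ∈ P → y = 1 := by
    intro y hy hy'
    obtain ⟨m, hm⟩ := (IsPGroup.iff_orderOf.1 hP) ⟨y, hy'⟩
    rw [Subgroup.orderOf_mk] at hm
    rcases Nat.eq_zero_or_pos m with h0 | h0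
    · rw [h0, pow_zero] at hm
      exact orderOf_eq_one_iff.1 hm
    · exfalso
      apply hl
      have h1 : orderOf y ∣ Nat.card D := by
        have := orderOf_dvd_natCard (⟨y, hy⟩ : D)
        rwa [Subgroup.orderOf_mk] at this
      exact (hm ▸ dvd_pow_self l h0.ne').trans h1
  -- the group `E = D P`
  let E : Subgroup G := D ⊔ P
  have hDn : ∀ e ∈ E, ∀ d ∈ D, e * d * e⁻¹ ∈ D := by
    have h1 : E ≤ Subgroup.normalizer (D : Set G) := by
      apply sup_le
      · exact Subgroup.le_normalizer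
      · intro p hp
        rw [Subgroup.mem_normalizer_iff]
        intro d
        constructor
        · exact hDP p hp d
        · intro h2
          have h3 := hDP p⁻¹ (P.inv_mem hp) _ h2
          have h4 : p⁻¹ * (p * d * p⁻¹) * p⁻¹⁻¹ = d := by group
          rwa [h4] at h3
    intro e he d hd
    exact (Subgroup.mem_normalizer_iff.1 (h1 he) d).1 hd
  have hEm : E.map (MulAut.conj x).toMonoidHom ≤ E := by
    change (D ⊔ P).map (MulAut.conj x).toMonoidHom ≤ E
    rw [Subgroup.map_sup]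
    apply sup_le
    · rintro _ ⟨d, hd, rfl⟩
      exact (le_sup_left : D ≤ E) (hDx d hd)
    · rintro _ ⟨p, hp, rfl⟩
      have h1 := hcm p hp
      have h2 : (MulAut.conj x).toMonoidHom p = (p * x * p⁻¹ * x⁻¹)⁻¹ * p := by
        change x * p * x⁻¹ = _
        group
      rw [h2]
      exact E.mul_mem (E.inv_mem ((le_sup_left : D ≤ E) h1)) ((le_sup_right : P ≤ E) hp)
  have hEx : ∀ e ∈ E, x * e * x⁻¹ ∈ E := fun e he => hEm ⟨e, he, rfl⟩
  -- pass to `E`
  have hxE : x ∈ Subgroup.normalizer (E : Set G) := by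
    have h1 : E.map (MulAut.conj x).toMonoidHom = E := by
      apply Subgroup.eq_of_le_of_card_ge hEm
      rw [Nat.card_congr (E.equivMapOfInjective (MulAut.conj x).toMonoidHom (MulAut.conj x).injective).toEquiv]
    rw [Subgroup.mem_normalizer_iff]
    intro e
    constructor
    · exact hEx e
    · intro he
      have h2 : x * e * x⁻¹ ∈ E.map (MulAut.conj x).toMonoidHom := by rw [h1]; exact he
      obtain ⟨e', he', h3⟩ := h2
      have h4 : e' = e := (MulAut.conj x).injective h3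
      exact h4 ▸ he'
  let x' : Subgroup.normalizer (E : Set G) := ⟨x, hxE⟩
  let φ : MulAut E := E.normalizerMonoidHom x'
  have hφ : ∀ e : E, ((φ e : E) : G) = x * (e : G) * x⁻¹ := fun e => rfl
  have hφk : φ ^ t ^ k = 1 := by
    have h1 : x' ^ t ^ k = 1 := Subtype.ext hx
    change (E.normalizerMonoidHom x') ^ t ^ k = 1
    rw [← map_pow, h1, map_one]
  have hpg : IsPGroup t (Subgroup.zpowers φ) := by
    intro g
    obtain ⟨⟨g, hg⟩, hg'⟩ : ∃ g' : Subgroup.zpowers φ, g' = g := ⟨g, rfl⟩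
    obtain ⟨n, rfl⟩ := Subgroup.mem_zpowers_iff.1 hg
    refine ⟨k, ?_⟩
    rw [← hg']
    apply Subtype.ext
    change (φ ^ n) ^ t ^ k = 1
    rw [← zpow_natCast, ← zpow_mul, mul_comm, zpow_mul, zpow_natCast, hφk, one_zpow]
  let D' : Subgroup E := D.subgroupOf E
  let P' : Subgroup E := P.subgroupOf E
  have hD'n : D'.Normal := ⟨fun d hd e => hDn e.1 e.2 d.1 hd⟩
  have hdis : Disjoint D' P' := by
    rw [disjoint_iff, eq_bot_iff]
    intro y hy
    rw [Subgroup.mem_bot]
    exact Subtype.ext (hdisj y.1 hy.1 hy.2)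
  have hsup : D' ⊔ P' = ⊤ := by
    change D.subgroupOf E ⊔ P.subgroupOf E = ⊤
    rw [← Subgroup.subgroupOf_sup (le_sup_left : D ≤ E) (le_sup_right : P ≤ E), Subgroup.subgroupOf_self]
  have hcompl : Subgroup.IsComplement' D' P' := by
    apply Subgroup.isComplement'_of_disjoint_and_mul_eq_univ hdis
    rw [← Subgroup.normal_mul, hsup, Subgroup.coe_top]
  have hidx : P'.index = Nat.card D' := hcompl.index_eq_card
  have hcD : Nat.card D' = Nat.card D := Nat.card_congr (Subgroup.subgroupOfEquivOfLe (le_sup_left : D ≤ E)).toEquiv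
  have hP' : IsPGroup l P' := hP.comap_subtype
  let S₀ : Sylow l E := hP'.toSylow (by rw [hidx, hcD]; exact hl)
  have hS₀ : (S₀ : Subgroup E) = P' := rfl
  have hns : ¬ t ∣ Nat.card (Sylow l E) := by
    intro h
    apply h3
    rw [← hcD, ← hidx]
    exact h.trans (Sylow.card_dvd_index S₀)
  obtain ⟨S, hS⟩ := hpg.nonempty_fixed_point_of_prime_not_dvd_card (Sylow l E) hns
  have hS' : (⟨φ, Subgroup.mem_zpowers φ⟩ : Subgroup.zpowers φ) • S = S := hS ⟨φ, Subgroup.mem_zpowers φ⟩
  have hS1 : ∀ e : E, e ∈ (S : Subgroup E) → φ e ∈ (S : Subgroup E) := by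
    intro e he
    have h1 : (⟨φ, Subgroup.mem_zpowers φ⟩ : Subgroup.zpowers φ) • e ∈
        ((⟨φ, Subgroup.mem_zpowers φ⟩ : Subgroup.zpowers φ) • S : Sylow l E) := Set.smul_mem_smul_set he
    rw [hS'] at h1
    exact h1
  obtain ⟨e, he⟩ := MulAction.exists_smul_eq E S₀ S
  have hem : e ∈ D' ⊔ P' := by rw [hsup]; trivial
  obtain ⟨d, hd, p, hp, rfl⟩ := (Subgroup.mem_sup_of_normal_left).1 hem
  have hSP : ∀ y : E, y ∈ (S : Subgroup E) ↔ d⁻¹ * y * d ∈ P' := by
    intro y
    have h1 : (S : Subgroup E) = MulAut.conj (d * p) • P' := by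
      rw [← he]
      rfl
    rw [h1, Subgroup.mem_smul_pointwise_iff_exists]
    constructor
    · rintro ⟨s, hs, rfl⟩
      have h2 : d⁻¹ * (MulAut.conj (d * p) • s) * d = p * s * p⁻¹ := by
        rw [MulAut.smul_def, MulAut.conj_apply]
        group
      rw [h2]
      exact P'.mul_mem (P'.mul_mem hp hs) (P'.inv_mem hp)
    · intro h2
      refine ⟨p⁻¹ * (d⁻¹ * y * d) * p, P'.mul_mem (P'.mul_mem (P'.inv_mem hp) h2) hp, ?_⟩
      rw [MulAut.smul_def, MulAut.conj_apply]
      group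
  refine ⟨d, hd, fun q hq => ?_⟩
  have hqE : q ∈ E := (le_sup_right : P ≤ E) hq
  set y := (d : G)⁻¹ * x * (d : G) with hy
  -- `y q y⁻¹ ∈ P`
  have hyP : y * q * y⁻¹ ∈ P := by
    have h1 : d * ⟨q, hqE⟩ * d⁻¹ ∈ (S : Subgroup E) := by
      rw [hSP]
      have : d⁻¹ * (d * (⟨q, hqE⟩ : E) * d⁻¹) * d = ⟨q, hqE⟩ := by group
      rw [this]
      exact hq
    have h2 := (hSP _).1 (hS1 _ h1)
    have h3 : ((d⁻¹ * φ (d * ⟨q, hqE⟩ * d⁻¹) * d : E) : G) = y * q * y⁻¹ := by
      rw [Subgroup.coe_mul, Subgroup.coe_mul, hφ]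
      change (d : G)⁻¹ * (x * ((d : G) * q * (d : G)⁻¹) * x⁻¹) * d = _
      rw [hy]
      group
    have h4 : ((d⁻¹ * φ (d * ⟨q, hqE⟩ * d⁻¹) * d : E) : G) ∈ P := h2
    rwa [h3] at h4
  -- `y q y⁻¹ q⁻¹ ∈ D`
  have hyD : y * q * y⁻¹ * q⁻¹ ∈ D := by
    have hdD : (d : G) ∈ D := hd
    have h1 : (d : G)⁻¹ * (x * d * x⁻¹) ∈ D := D.mul_mem (D.inv_mem hdD) (hDx _ hdD)
    have h2 : y = (d : G)⁻¹ * (x * d * x⁻¹) * x := by rw [hy]; group
    set c := (d : G)⁻¹ * (x * d * x⁻¹) with hc
    have h3 : y * q * y⁻¹ * q⁻¹ = c * (q * x * q⁻¹ * x⁻¹)⁻¹ * (q * c⁻¹ * q⁻¹) := by rw [h2]; group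
    rw [h3]
    exact D.mul_mem (D.mul_mem h1 (D.inv_mem (hcm q hq))) (hDP q hq _ (D.inv_mem h1))
  have h5 := hdisj _ hyD (P.mul_mem hyP (P.inv_mem hq))
  have h6 : y * q * y⁻¹ = q := by rwa [mul_inv_eq_one] at h5
  rwa [mul_inv_eq_iff_eq_mul] at h6

end kl

section cover

variable {G Ω ι : Type*} [Group G] [MulAction G Ω]

variable {N : Subgroup G} {x : ι → G} {i : ι}

end cover

end Cfsg.Agent.H579.RC
end

-- part: H253/RC/T3Tools
section
/-!
# S3510, triality type iii: the group theoretic tools (helper253)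

`T3.mv`, `T3.ir`, `T3.kl_lin`, `T3.cauchy` of tools/plans/S3510_tri3_stubs.lean.txt.
-/

set_option autoImplicit false
open Cfsg

namespace Cfsg.Agent.H864.RC

open Module QuadraticMap MulAction
open Cfsg.Agent.LieClassical.OrthCore Cfsg.Agent.LieClassical.OrthTrans
open Cfsg.Agent.LieClassical.OrthSimple Cfsg.Agent.ClassicalGeometry.OrthSemi
open Cfsg.Agent.ClassicalGeometry.OrthAut1 Cfsg.Agent.H106.RC Cfsg.Agent.H93.RC Cfsg.Agent.H566.RC
open Cfsg.Agent.LieClassical.QuadForms Cfsg.Agent.ClassicalGeometry.TrialityOct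
open Cfsg.Agent.ClassicalGeometry.Triality Cfsg.Agent.ClassicalGeometry.TrialitySpaces
open Cfsg.Agent.H198.TriBase Cfsg.Agent.H198.TriAut Cfsg.Agent.H206.Balance Cfsg.Agent.H198.TriDia

/-! ### the commutator group -/

section grp

variable {G : Type} [Group G] {C : Subgroup G} {x : G}

theorem comC_le (hx : ∀ c ∈ C, x * c * x⁻¹ ∈ C) : comC C x ≤ C := by
  rw [comC, Subgroup.closure_le]
  rintro _ ⟨c, hc, rfl⟩
  have h : c * x * c⁻¹ * x⁻¹ = c * (x * c⁻¹ * x⁻¹) := by group
  rw [h]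
  exact C.mul_mem hc (hx _ (C.inv_mem hc))

theorem cm_mem_comC {c : G} (hc : c ∈ C) : c * x * c⁻¹ * x⁻¹ ∈ comC C x := Subgroup.subset_closure ⟨c, hc, rfl⟩

theorem conj_mem_comC {c d : G} (hc : c ∈ C) (hd : d ∈ comC C x) : c * d * c⁻¹ ∈ comC C x := by
  have h : (comC C x).map (MulAut.conj c).toMonoidHom ≤ comC C x := by
    rw [comC, MonoidHom.map_closure, Subgroup.closure_le]
    rintro _ ⟨_, ⟨b, hb, rfl⟩, rfl⟩
    have h1 : (MulAut.conj c).toMonoidHom (b * x * b⁻¹ * x⁻¹) =
        ((c * b) * x * (c * b)⁻¹ * x⁻¹) * (c * x * c⁻¹ * x⁻¹)⁻¹ := by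
      change c * (b * x * b⁻¹ * x⁻¹) * c⁻¹ = _
      group
    rw [h1]
    exact Subgroup.mul_mem _ (cm_mem_comC (C.mul_mem hc hb)) (Subgroup.inv_mem _ (cm_mem_comC hc))
  exact h ⟨d, hd, rfl⟩

theorem conj_mem_comC' (hx : ∀ c ∈ C, x * c * x⁻¹ ∈ C) {d : G} (hd : d ∈ comC C x) : x * d * x⁻¹ ∈ comC C x := by
  have h : (comC C x).map (MulAut.conj x).toMonoidHom ≤ comC C x := by
    rw [comC, MonoidHom.map_closure, Subgroup.closure_le]
    rintro _ ⟨_, ⟨b, hb, rfl⟩, rfl⟩
    have h1 : (MulAut.conj x).toMonoidHom (b * x * b⁻¹ * x⁻¹) =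
        (x * b * x⁻¹) * x * (x * b * x⁻¹)⁻¹ * x⁻¹ := by
      change x * (b * x * b⁻¹ * x⁻¹) * x⁻¹ = _
      group
    rw [h1]
    exact cm_mem_comC (hx b hb)
  exact h ⟨d, hd, rfl⟩

end grp

variable {F : Type} [Field F]

section env

variable {G Ω ι : Type} [Group G] [MulAction G Ω] {N : Subgroup G} {hG : _root_.Cfsg.Agent.LieClassical.OrthTrans.Good (plusForm 4 F)}
  {κ : P8 F →* G} {s : F ≃+* F} {x₁ : G} {x : ι → G} {r : ι → ℕ} {g : ι → (V8 F ≃ₗ[F] V8 F)}

theorem mem_CN {N : Subgroup G} {x : ι → G} {c : G} : c ∈ CN N x ↔ c ∈ N ∧ ∀ i, c * x i = x i * c := by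
  rw [CN, Subgroup.mem_inf, Subgroup.mem_centralizer_iff]
  constructor
  · rintro ⟨h1, h2⟩
    exact ⟨h1, fun i => (h2 _ ⟨i, rfl⟩).symm⟩
  · rintro ⟨h1, h2⟩
    refine ⟨h1, ?_⟩
    rintro _ ⟨i, rfl⟩
    exact (h2 i).symm

theorem T3.conj_CN (h : T3 hG N κ s Ω x₁ x r g) : ∀ c ∈ CN N x, x₁ * c * x₁⁻¹ ∈ CN N x := by
  intro c hc
  rw [mem_CN] at hc ⊢
  refine ⟨h.env.norm.conj_mem _ hc.1 _, fun i => ?_⟩
  have e1 := h.x1_comm i
  have e2 : x₁⁻¹ * x i = x i * x₁⁻¹ := by rw [inv_mul_eq_iff_eq_mul, ← mul_assoc, e1, mul_inv_cancel_right]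
  calc x₁ * c * x₁⁻¹ * x i = x₁ * c * (x₁⁻¹ * x i) := by group
    _ = x₁ * (c * x i) * x₁⁻¹ := by rw [e2]; group
    _ = (x₁ * x i) * c * x₁⁻¹ := by rw [hc.2 i]; group
    _ = x i * (x₁ * c * x₁⁻¹) := by rw [e1]; group

theorem T3.comC_le_CN (h : T3 hG N κ s Ω x₁ x r g) : comC (CN N x) x₁ ≤ CN N x := comC_le h.conj_CN

/-- (IR): every element of `[C, x₁]` may replace `x₁`; hence its prime divisors are among the `r i` -/
theorem T3.mv (h : T3 hG N κ s Ω x₁ x r g) {y : G} (hy : y ∈ comC (CN N x) x₁) :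
    ∀ ω : Ω, y • ω = ω ∨ ∃ i, x i • ω = ω := by
  classical
  let X : Option ι → G := fun o => o.elim x₁ x
  have hcov : Cov Ω X := fun ω => by
    rcases h.cov ω with h1 | ⟨i, h1⟩
    · exact ⟨none, h1⟩
    · exact ⟨some i, h1⟩
  have hy' : y ∈ Subgroup.closure {z | ∃ c : G, (∀ j, j ≠ none → c * X j = X j * c) ∧ z = c * X none * c⁻¹} := by
    have hle : comC (CN N x) x₁ ≤
        Subgroup.closure {z | ∃ c : G, (∀ j, j ≠ none → c * X j = X j * c) ∧ z = c * X none * c⁻¹} := by
      rw [comC, Subgroup.closure_le]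
      rintro _ ⟨c, hc, rfl⟩
      apply Subgroup.mul_mem
      · refine Subgroup.subset_closure ⟨c, ?_, rfl⟩
        rintro (_ | i) hj
        · exact (hj rfl).elim
        · exact (mem_CN.1 hc).2 i
      · apply Subgroup.inv_mem
        exact Subgroup.subset_closure ⟨1, fun j _ => by rw [one_mul, mul_one], by simp [X]⟩
    exact hle hy
  have h2 := hcov.mv none hy'
  intro ω
  obtain ⟨o, ho⟩ := h2 ω
  rcases o with _ | i
  · left
    rwa [Function.update_self] at ho
  · right
    rw [Function.update_of_ne (by simp)] at ho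
    exact ⟨i, ho⟩

theorem T3.ir [Finite G] [Finite ι] (h : T3 hG N κ s Ω x₁ x r g) (hN : NoN Ω N) {l : ℕ} (hl : l.Prime)
    (hlr : ∀ i, r i ≠ l) : ¬ l ∣ Nat.card (comC (CN N x) x₁) := by
  intro hd
  have := Fact.mk hl
  obtain ⟨y, hy⟩ := exists_prime_orderOf_dvd_card' l hd
  have hyC := mem_CN.1 (h.comC_le_CN y.2)
  have hyl : (y : G) ^ l = 1 := by
    have h2 := pow_orderOf_eq_one y
    rw [hy] at h2
    exact congrArg Subtype.val h2
  have hy1 : (y : G) ≠ 1 := by
    intro h2
    have h3 : y = 1 := Subtype.ext h2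
    rw [h3, orderOf_one] at hy
    exact hl.one_lt.ne hy
  let Y : Option ι → G := fun o => o.elim (y : G) x
  let T : Option ι → ℕ := fun o => o.elim l r
  have hpf : PF Y T := by
    refine ⟨?_, ?_, ?_, ?_, ?_⟩
    · rintro (_ | i)
      · exact hl
      · exact h.prime i
    · rintro (_ | i) (_ | j) hij
      · rfl
      · exact (hlr j hij.symm).elim
      · exact (hlr i hij).elim
      · exact congrArg some (h.inj hij)
    · rintro (_ | i)
      · exact hyl
      · exact h.x_pow i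
    · rintro (_ | i)
      · exact hy1
      · exact h.x_ne i
    · rintro (_ | i) (_ | j)
      · rfl
      · exact hyC.2 j
      · exact (hyC.2 i).symm
      · exact h.x_comm i j
  refine hN (Option ι) Y T hpf ?_ ?_
  · intro ω
    rcases h.mv y.2 ω with h1 | ⟨i, h1⟩
    · exact ⟨none, h1⟩
    · exact ⟨some i, h1⟩
  · rintro (_ | i)
    · exact hyC.1
    · exact h.x_mem i

/-! ### lifting -/

theorem pow_of_smul {f k : V8 F ≃ₗ[F] V8 F} {e : F} (h : ∀ v, f v = e • k v) (n : ℕ) (v : V8 F) :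
    (f ^ n) v = e ^ n • (k ^ n) v := by
  induction n generalizing v with
  | zero => rw [pow_zero, pow_zero, pow_zero, one_smul]
  | succ n ih =>
    rw [pow_succ, pow_succ, LinearEquiv.mul_apply, ih, h, map_smul, smul_smul, pow_succ, LinearEquiv.mul_apply]

/-- `ε ² = 1`, `ε ^ n = 1`, `n` odd -/
theorem eq_one_of_odd {e : F} (h : e * e = 1) {n : ℕ} (hn : Odd n) (h1 : e ^ n = 1) : e = 1 := by
  obtain ⟨m, rfl⟩ := hn
  rw [pow_succ, pow_mul, pow_two, h, one_pow, one_mul] at h1
  exact h1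

/-- the lift in `E Q` of an element of `N` -/
theorem T3.exists_up (h : T3 hG N κ s Ω x₁ x r g) {y : G} (hy : y ∈ N) : ∃ c : ↥(E (plusForm 4 F)), up κ c = y := by
  rw [← h.rp.range] at hy
  obtain ⟨a, rfl⟩ := hy
  obtain ⟨c, rfl⟩ := QuotientGroup.mk_surjective a
  exact ⟨c, rfl⟩

theorem T3.up_mem (h : T3 hG N κ s Ω x₁ x r g) (c : ↥(E (plusForm 4 F))) : up κ c ∈ N := by
  have : up κ c ∈ κ.range := ⟨_, rfl⟩
  rwa [h.rp.range] at this

theorem T3.up_eq (h : T3 hG N κ s Ω x₁ x r g) {c d : ↥(E (plusForm 4 F))} (e : up κ c = up κ d) :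
    (c : P8 F) = (d : P8 F) := h.rp.inj e

theorem T3.up_mem_CN (h : T3 hG N κ s Ω x₁ x r g) {c : ↥(E (plusForm 4 F))}
    (hc : ∀ i, (c : V8 F ≃ₗ[F] V8 F) * g i = g i * c) : up κ c ∈ CN N x := by
  rw [mem_CN]
  refine ⟨h.up_mem c, fun i => ?_⟩
  rw [h.x_eq, ← map_mul, ← map_mul]
  congr 1
  exact Subtype.ext (hc i)

/-- (KLlin): an `l`-subgroup of `E Q` commuting with all `g i` has a conjugate in `AutD`, if `l` does not divide
`|[C, x₁]|` (in particular if `l` is not one of the `r i`) -/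
theorem T3.kl_lin [Finite F] [Finite G] [Finite ι] (h : T3 hG N κ s Ω x₁ x r g) (hN : NoN Ω N) {l : ℕ}
    (hl : l.Prime) (hlD : ¬ l ∣ Nat.card (comC (CN N x) x₁)) (h2 : l = 2 → (2 : F) = 0)
    (A : Subgroup (V8 F ≃ₗ[F] V8 F)) (hA : IsPGroup l A) (hAE : A ≤ E (plusForm 4 F))
    (hAc : ∀ a ∈ A, ∀ i, a * g i = g i * a) :
    ∃ d ∈ E (plusForm 4 F), ∀ a ∈ A, d * a * d⁻¹ ∈ AutD (fG s) := by
  have := Fact.mk hl
  have : Fact (Nat.Prime 3) := ⟨Nat.prime_three⟩
  let P : Subgroup G := (A.subgroupOf (E (plusForm 4 F))).map (up κ)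
  have hP : IsPGroup l P := (hA.comap_subtype).map (up κ)
  have hPC : P ≤ CN N x := by
    rintro _ ⟨a, ha, rfl⟩
    exact h.up_mem_CN (hAc a ha)
  obtain ⟨d, hd, hcm⟩ := H579.RC.kl (t := 3) (l := l) (D := comC (CN N x) x₁) (P := P) (x := x₁) (k := 1)
    (by rw [pow_one]; exact h.x1_cube) (fun d hd => conj_mem_comC' h.conj_CN hd)
    (fun p hp d hd => conj_mem_comC (hPC hp) hd) (fun p hp => cm_mem_comC (hPC hp)) hP
    (h.ir hN Nat.prime_three h.three) hlD
  obtain ⟨d0, hd0⟩ := h.exists_up (mem_CN.1 (h.comC_le_CN hd)).1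
  refine ⟨d0, d0.2, fun a ha => ?_⟩
  let a' : ↥(E (plusForm 4 F)) := ⟨a, hAE ha⟩
  have h3 := hcm (up κ a') ⟨a', ha, rfl⟩
  have h4 : x₁ * up κ (d0 * a' * d0⁻¹) = up κ (d0 * a' * d0⁻¹) * x₁ := by
    rw [map_mul, map_mul, map_inv, hd0]
    calc x₁ * (d * up κ a' * d⁻¹) = d * (d⁻¹ * x₁ * d * up κ a') * d⁻¹ := by group
      _ = d * (up κ a' * (d⁻¹ * x₁ * d)) * d⁻¹ := by rw [h3]
      _ = d * up κ a' * d⁻¹ * x₁ := by group
  obtain ⟨c', hc', hcD⟩ := h.mem_of_comm _ h4
  obtain ⟨e, he, hev⟩ := sign_of_mk_eq hG hc'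
  have he1 : e = 1 := by
    by_cases h20 : (2 : F) = 0
    · have : (e - 1) * (e - 1) = 0 := by
        have : (e - 1) * (e - 1) = e * e - 2 * e + 1 := by ring
        rw [this, he, h20, zero_mul, sub_zero]
        linear_combination h20
      exact sub_eq_zero.1 (mul_self_eq_zero.1 this)
    · have hlodd : Odd l := hl.odd_of_ne_two fun h5 => h20 (h2 h5)
      obtain ⟨k, hk⟩ := hA ⟨a, ha⟩
      have hk' : a ^ l ^ k = 1 := congrArg Subtype.val hk
      have e1 : (d0 * a' * d0⁻¹) ^ l ^ k = 1 := by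
        rw [conj_pow]
        have : a' ^ l ^ k = 1 := Subtype.ext hk'
        rw [this, mul_one, mul_inv_cancel]
      have e2 : ((c' ^ l ^ k : ↥(E (plusForm 4 F))) : P8 F) = ((1 : ↥(E (plusForm 4 F))) : P8 F) := by
        rw [← e1]
        have : ((c' : P8 F)) ^ l ^ k = ((d0 * a' * d0⁻¹ : ↥(E (plusForm 4 F))) : P8 F) ^ l ^ k := by rw [hc']
        exact this
      have e3 : c' ^ l ^ k = 1 := AutD_unique hG (τ := fG s) (by
        rw [Subgroup.coe_pow]
        exact (AutD (fG s)).pow_mem hcD _) ((AutD (fG s)).one_mem) e2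
      have e4 := pow_of_smul hev (l ^ k) (one8 F)
      have e5 : (((d0 * a' * d0⁻¹ : ↥(E (plusForm 4 F))) : V8 F ≃ₗ[F] V8 F) ^ l ^ k) = 1 :=
        congrArg Subtype.val e1
      have e6 : ((c' : V8 F ≃ₗ[F] V8 F) ^ l ^ k) = 1 := congrArg Subtype.val e3
      rw [e5, e6] at e4
      have e7 : one8 F = e ^ l ^ k • one8 F := e4
      have e8 : (1 - e ^ l ^ k) • one8 F = 0 := by rw [sub_smul, one_smul, ← e7, sub_self]
      have e9 : one8 F ≠ 0 := fun h0 => by
        have h6 := norm_one8 (F := F)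
        rw [h0, QuadraticMap.map_zero] at h6
        exact zero_ne_one h6
      have e10 := (smul_eq_zero.1 e8).resolve_right e9
      exact eq_one_of_odd he (hlodd.pow) (sub_eq_zero.1 e10).symm
  have h5 : (d0 : V8 F ≃ₗ[F] V8 F) * a * (d0 : V8 F ≃ₗ[F] V8 F)⁻¹ = c' := by
    apply LinearEquiv.ext
    intro v
    have := hev v
    rw [he1, one_smul] at this
    exact this
  rw [h5]
  exact hcD

/-- Cauchy in `[C, x₁]`: an odd prime divisor gives an element of `E Q` commuting with the `g i` -/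
theorem T3.cauchy [Finite F] [Finite G] [Finite ι] (h : T3 hG N κ s Ω x₁ x r g) {l : ℕ}
    (hl : l.Prime) (hl2 : l ≠ 2) (hlD : l ∣ Nat.card (comC (CN N x) x₁)) :
    ∃ c : ↥(E (plusForm 4 F)), (c : V8 F ≃ₗ[F] V8 F) ^ l = 1 ∧ (c : V8 F ≃ₗ[F] V8 F) ≠ 1 ∧
      (∀ i, (c : V8 F ≃ₗ[F] V8 F) * g i = g i * c) ∧ up κ c ∈ comC (CN N x) x₁ := by
  have := Fact.mk hl
  have hlodd : Odd l := hl.odd_of_ne_two hl2
  obtain ⟨y, hy⟩ := exists_prime_orderOf_dvd_card' l hlD
  have hyC := mem_CN.1 (h.comC_le_CN y.2)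
  have hyl : (y : G) ^ l = 1 := by
    have h2 := pow_orderOf_eq_one y
    rw [hy] at h2
    exact congrArg Subtype.val h2
  have hy1 : (y : G) ≠ 1 := by
    intro h2
    have h3 : y = 1 := Subtype.ext h2
    rw [h3, orderOf_one] at hy
    exact hl.one_lt.ne hy
  obtain ⟨c0, hc0⟩ := h.exists_up hyC.1
  -- the central element `c0 ^ l`
  set z := c0 ^ l with hz
  have hz1 : ((z : ↥(E (plusForm 4 F))) : P8 F) = ((1 : ↥(E (plusForm 4 F))) : P8 F) := by
    apply h.up_eq
    rw [hz, map_pow, hc0, hyl, map_one]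
  obtain ⟨e, he, hev⟩ := sign_of_mk_eq hG hz1.symm
  have hzz : z * z = 1 := by
    apply Subtype.ext
    apply LinearEquiv.ext
    intro v
    change (z : V8 F ≃ₗ[F] V8 F) ((z : V8 F ≃ₗ[F] V8 F) v) = v
    rw [hev, hev]
    change e • e • v = v
    rw [smul_smul, he, one_smul]
  have hzc : z * c0 = c0 * z := by rw [hz, ← pow_succ, ← pow_succ']
  have hupz : up κ z = 1 := by
    rw [hz, map_pow, hc0, hyl]
  have hup : up κ (c0 * z) = y := by rw [map_mul, hupz, mul_one, hc0]
  have hcl : (c0 * z) ^ l = 1 := by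
    rw [(show Commute c0 z from hzc.symm).mul_pow, ← hz]
    obtain ⟨m, hm⟩ := hlodd
    rw [hm, pow_succ, pow_mul, pow_two, hzz, one_pow, one_mul, hzz]
  refine ⟨c0 * z, congrArg Subtype.val hcl, ?_, ?_, by rw [hup]; exact y.2⟩
  · intro h1
    apply hy1
    rw [← hup]
    have : c0 * z = 1 := Subtype.ext h1
    rw [this, map_one]
  · intro i
    set c := c0 * z with hcdef
    let g' : ↥(E (plusForm 4 F)) := ⟨g i, (h.mem i).1⟩
    have h1 : ((g' * c : ↥(E (plusForm 4 F))) : P8 F) = ((c * g' : ↥(E (plusForm 4 F))) : P8 F) := by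
      apply h.up_eq
      have h2 := hyC.2 i
      rw [h.x_eq] at h2
      rw [map_mul (up κ) g' c, map_mul (up κ) c g', hup]
      exact h2.symm
    obtain ⟨e', he', hev'⟩ := sign_of_mk_eq hG h1
    -- `c g' c⁻¹ = e' g'`
    have h3 : ∀ (n : ℕ) (v : V8 F), ((c : V8 F ≃ₗ[F] V8 F) ^ n) (g i v) = e' ^ n • g i (((c : V8 F ≃ₗ[F] V8 F) ^ n) v) := by
      intro n
      induction n with
      | zero => intro v; rw [pow_zero, pow_zero, one_smul]; rfl
      | succ n ih =>
        intro v
        have h4 : ∀ w, (c : V8 F ≃ₗ[F] V8 F) (g i w) = e' • g i ((c : V8 F ≃ₗ[F] V8 F) w) := hev'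
        rw [pow_succ, LinearEquiv.mul_apply, h4, map_smul, ih, smul_smul, pow_succ', LinearEquiv.mul_apply]
    have h5 := h3 l ((g i).symm (one8 F))
    have h6 : ((c : V8 F ≃ₗ[F] V8 F) ^ l) = 1 := congrArg Subtype.val hcl
    rw [h6] at h5
    have h7 : one8 F = e' ^ l • one8 F := by
      have h8 : g i ((g i).symm (one8 F)) = e' ^ l • g i ((g i).symm (one8 F)) := h5
      rwa [LinearEquiv.apply_symm_apply] at h8
    have e8 : (1 - e' ^ l) • one8 F = 0 := by rw [sub_smul, one_smul, ← h7, sub_self]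
    have e9 : one8 F ≠ 0 := fun h0 => by
      have h6 := norm_one8 (F := F)
      rw [h0, QuadraticMap.map_zero] at h6
      exact zero_ne_one h6
    have e10 := (smul_eq_zero.1 e8).resolve_right e9
    have he1 : e' = 1 := eq_one_of_odd he' hlodd (sub_eq_zero.1 e10).symm
    apply LinearEquiv.ext
    intro v
    have h9 := hev' v
    rw [he1, one_smul] at h9
    exact h9

end env

end Cfsg.Agent.H864.RC
end

private theorem dce_b0acd349980b : _root_.True := by
  try have : _root_.True := by simp only [_root_.Cfsg.Agent.H864.RC.comC.eq_1]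
  try have : _root_.True := by simp only [_root_.Cfsg.Agent.H864.RC.CN.eq_1]
  exact _root_.True.intro
end

-- part: H195/RC/MixFrame
section
prune_inst 0xc110400070a2020000000010002002201000042000000800200005000009000080c000c00a0000000200000100040020030000100200000000000000080505010000040000010008820018000000000000000000000000000000000000000000200000000
set_option linter.all false
open scoped Cfsg.Agent.FastGrp

-- part: H393/RC/TriZZ
section
/-!
# S3510, triality, type iii: the box ZZ (helper393)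

An automorphism `c` of a twisted composition of order `n` (odd), `c + c⁻¹` scalar on `[V, c]`, `n ∣ q ∓ 1`, has
`n ∣ q0 ^ 2 - 1`.
-/

set_option autoImplicit false
set_option linter.unusedSectionVars false

namespace Cfsg.Agent.H393.TZ

open Module QuadraticMap Cfsg.Agent.LieClassical.OrthCore Cfsg.Agent.LieClassical.OrthTrans
  Cfsg.Agent.LieClassical.OrthSimple Cfsg.Agent.LieClassical.QuadForms
  Cfsg.Agent.ClassicalGeometry.TrialityOct Cfsg.Agent.ClassicalGeometry.Triality
  Cfsg.Agent.H198.TriBase Cfsg.Agent.H198.TriAut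
  Cfsg.Agent.H198.TriDia Cfsg.Agent.H198.TriTC Cfsg.Agent.H198.TwComp

section zz

variable {F V : Type*} [Field F] [AddCommGroup V] [Module F V]
variable {Q : QuadraticForm F V} {σ : F ≃+* F} {st : V → V → V}

theorem zadd (c : V ≃ₗ[F] V) (i j : ℤ) (v : V) : (c ^ (i + j)) v = (c ^ i) ((c ^ j) v) := by
  rw [zpow_add, LinearEquiv.mul_apply]

theorem zcongr {c : V ≃ₗ[F] V} {n : ℕ} (hcn : c ^ n = 1) {i j : ℤ} (h : (i : ZMod n) = (j : ZMod n)) : c ^ i = c ^ j := by
  obtain ⟨k, hk⟩ := (ZMod.intCast_eq_intCast_iff_dvd_sub _ _ _).1 h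
  have h1 : j = i + n * k := by omega
  rw [h1, zpow_add, zpow_mul, zpow_natCast, hcn, one_zpow, mul_one]

theorem zone (c : V ≃ₗ[F] V) (v : V) : (c ^ (1 : ℤ)) v = c v := by rw [zpow_one]

theorem zzero (c : V ≃ₗ[F] V) (v : V) : (c ^ (0 : ℤ)) v = v := by rw [zpow_zero]; rfl

/-- `c ^ i + c ^ (-i)` is scalar -/
theorem scal {c : V ≃ₗ[F] V} {W : Submodule F V} (hW : ∀ w ∈ W, ∀ i : ℤ, (c ^ i) w ∈ W) {t : F}
    (ht : ∀ w ∈ W, c w + (c ^ (-1 : ℤ)) w = t • w) (i : ℤ) :
    ∃ x : F, ∀ w ∈ W, (c ^ i) w + (c ^ (-i)) w = x • w := by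
  have h1 : ∀ i : ℕ, (∃ x : F, ∀ w ∈ W, (c ^ (i : ℤ)) w + (c ^ (-(i : ℤ))) w = x • w) ∧
      ∃ x : F, ∀ w ∈ W, (c ^ ((i : ℤ) + 1)) w + (c ^ (-((i : ℤ) + 1))) w = x • w := by
    intro i
    induction i with
    | zero =>
      refine ⟨⟨2, fun w _ => ?_⟩, ⟨t, fun w hw => ?_⟩⟩
      · rw [Nat.cast_zero, neg_zero, zzero, two_smul]
      · rw [Nat.cast_zero, zero_add, zone, ht w hw]
    | succ i ih =>
      refine ⟨?_, ?_⟩
      · rw [Nat.cast_succ]
        exact ih.2
      · obtain ⟨⟨x, hx⟩, y, hy⟩ := ih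
        refine ⟨t * y - x, fun w hw => ?_⟩
        have e1 := ht _ (hW w hw ((i : ℤ) + 1))
        have e2 := ht _ (hW w hw (-((i : ℤ) + 1)))
        rw [← zone c, ← zadd, ← zadd] at e1 e2
        have e3 := congrArg (fun v => t • v) (hy w hw)
        simp only [smul_add] at e3
        rw [← e1, ← e2, smul_smul] at e3
        have e4 := hx w hw
        rw [show (1 : ℤ) + -((i : ℤ) + 1) = -(i : ℤ) by ring, show (-1 : ℤ) + ((i : ℤ) + 1) = (i : ℤ) by ring,
          show (-1 : ℤ) + -((i : ℤ) + 1) = -((i : ℤ) + 1 + 1) by ring, show (1 : ℤ) + ((i : ℤ) + 1) = (i : ℤ) + 1 + 1 by ring] at e3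
        rw [Nat.cast_succ, sub_smul, ← e3, ← e4]
        abel
  obtain ⟨n, rfl | rfl⟩ := i.eq_nat_or_neg
  · exact (h1 n).1
  · obtain ⟨x, hx⟩ := (h1 n).1
    refine ⟨x, fun w hw => ?_⟩
    rw [neg_neg, add_comm]
    exact hx w hw

theorem fix_all {c : V ≃ₗ[F] V} {n : ℕ} (hcn : c ^ n = 1) (hnF : (n : F) ≠ 0) {W : Submodule F V}
    (hW : ∀ w ∈ W, ∀ i : ℤ, (c ^ i) w ∈ W) {t : F}
    (ht : ∀ w ∈ W, c w + (c ^ (-1 : ℤ)) w = t • w) {i : ℤ} {w : V} (hw : w ∈ W) (hw0 : w ≠ 0) (hi : (c ^ i) w = w) :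
    ∀ w' ∈ W, (c ^ i) w' = w' := by
  obtain ⟨x, hx⟩ := scal hW ht i
  have h1 : (c ^ (-i)) w = w := by
    have e := zadd c (-i) i w
    rw [neg_add_cancel, zzero, hi] at e
    exact e.symm
  have h2 : x = 2 := by
    have e := hx w hw
    rw [hi, h1, ← two_smul F w] at e
    have e2 : (x - 2) • w = 0 := by rw [sub_smul, e, sub_self]
    exact sub_eq_zero.1 ((smul_eq_zero.1 e2).resolve_right hw0)
  intro w' hw'
  have h3 : (c ^ i) ((c ^ i) w' - w') = (c ^ i) w' - w' := by
    have e := congrArg (fun v => (c ^ i) v) (hx w' hw')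
    simp only [map_add, map_smul] at e
    rw [← zadd c i (-i), add_neg_cancel, zzero, h2, two_smul] at e
    rw [map_sub]
    have e2 : (c ^ i) ((c ^ i) w') = (c ^ i) w' + (c ^ i) w' - w' := by rw [← e]; abel
    rw [e2]
    abel
  have h4 : ∀ k : ℕ, ((c ^ i) ^ k) w' = w' + (k : F) • ((c ^ i) w' - w') := by
    intro k
    induction k with
    | zero => rw [Nat.cast_zero, zero_smul, add_zero]; rfl
    | succ k ih =>
      rw [pow_succ', LinearEquiv.mul_apply, ih, map_add, map_smul, h3, Nat.cast_succ, add_smul, one_smul]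
      abel
  have h5 := h4 n
  rw [← zpow_natCast, ← zpow_mul, mul_comm, zpow_mul, zpow_natCast, hcn, one_zpow] at h5
  have h6 : (n : F) • ((c ^ i) w' - w') = 0 := by
    have e : w' = w' + (n : F) • ((c ^ i) w' - w') := h5
    exact (left_eq_add.1 e)
  exact sub_eq_zero.1 ((smul_eq_zero.1 h6).resolve_left hnF)

/-- the scalar of the power -/
theorem frob [Finite F] [FiniteDimensional F V] {p : ℕ} [CharP F p] [Fact p.Prime] [Nontrivial V] {d : V ≃ₗ[F] V} {W : Submodule F V} {x : F}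
    (hx : ∀ w ∈ W, d w + (d⁻¹) w = x • w) (j : ℕ) : ∀ w ∈ W, (d ^ (p ^ j)) w + (d⁻¹ ^ (p ^ j)) w = x ^ (p ^ j) • w := by
  have hch : CharP (Module.End F V) p := charP_of_injective_algebraMap (algebraMap F (Module.End F V)).injective p
  have hcomm : Commute (d : V →ₗ[F] V) ((d⁻¹ : V ≃ₗ[F] V) : V →ₗ[F] V) := by
    apply LinearMap.ext
    intro v
    show d (d⁻¹ v) = d⁻¹ (d v)
    rw [← LinearEquiv.mul_apply, ← LinearEquiv.mul_apply, mul_inv_cancel, inv_mul_cancel]
  have h1 := add_pow_char_pow_of_commute p j hcomm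
  intro w hw
  have h2 := LinearMap.congr_fun h1 w
  rw [LinearMap.add_apply, cpow_apply, cpow_apply] at h2
  rw [← h2]
  have h3 : ∀ k : ℕ, (((d : V →ₗ[F] V) + ((d⁻¹ : V ≃ₗ[F] V) : V →ₗ[F] V)) ^ k) w = x ^ k • w := by
    intro k
    induction k with
    | zero => rw [pow_zero, pow_zero, one_smul]; rfl
    | succ k ih =>
      rw [pow_succ, Module.End.mul_apply, LinearMap.add_apply]
      have e : (d : V →ₗ[F] V) w + ((d⁻¹ : V ≃ₗ[F] V) : V →ₗ[F] V) w = x • w := hx w hw
      rw [e, map_smul, ih, smul_smul, pow_succ, mul_comm]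
  exact h3 _

section full

variable [FiniteDimensional F V]

/-- a function not changed by `c ^ i` vanishes -/
theorem kill {c : V ≃ₗ[F] V} {φ : V → V} (hadd : ∀ x y, φ (x + y) = φ x + φ y) {i : ℤ}
    (hi : ∀ v, (c ^ i) v = v → v = 0) (h : ∀ w, φ ((c ^ i) w) = φ w) (w : V) : φ w = 0 := by
  let D : V →ₗ[F] V := ((c ^ i : V ≃ₗ[F] V) : V →ₗ[F] V) - LinearMap.id
  have hD : ∀ v, D v = (c ^ i) v - v := fun _ => rfl
  have hinj : Function.Injective D := by
    rw [injective_iff_map_eq_zero]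
    intro v hv
    exact hi v (sub_eq_zero.1 hv)
  obtain ⟨v, hv⟩ := LinearMap.injective_iff_surjective.1 hinj w
  have h1 : (c ^ i) v = w + v := by rw [← hv, hD, sub_add_cancel]
  have h2 := h v
  rw [h1, hadd] at h2
  exact add_eq_right.1 h2

/-- the step: `c` acts on the values of `φ` as a power of `c` on the argument -/
theorem step {c : V ≃ₗ[F] V} {φ : V → V} (hadd : ∀ x y, φ (x + y) = φ x + φ y) {t : F} {m i : ℤ}
    (ht : ∀ w, c (c w) + w = t • c w)
    (hφ : ∀ w, φ ((c ^ m) w) + φ ((c ^ (-m)) w) = t • φ w) (hc : ∀ w, c (φ w) = φ ((c ^ i) w))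
    (hi : ∀ v, (c ^ (i + m)) v = v → v = 0) : ∀ w, c (φ w) = φ ((c ^ m) w) := by
  have hneg : ∀ x, φ (-x) = -φ x := by
    have h0 : φ 0 = 0 := by
      have := hadd 0 0
      rw [add_zero] at this
      exact left_eq_add.1 this
    intro x
    have := hadd x (-x)
    rw [add_neg_cancel, h0] at this
    exact (neg_eq_of_add_eq_zero_right this.symm).symm
  have h1 : ∀ w, c (c (φ w) - φ ((c ^ m) w)) = c (φ ((c ^ (-m)) w)) - φ w := by
    intro w
    have e1 := ht (φ w)
    have e2 := congrArg c (hφ w)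
    rw [map_add, map_smul, ← e1] at e2
    rw [map_sub]
    have e3 : c (φ ((c ^ (-m)) w)) = c (c (φ w)) + φ w - c (φ ((c ^ m) w)) := by rw [← e2]; abel
    rw [e3]
    abel
  have h2 : ∀ w, c (φ ((c ^ i) w) - φ ((c ^ m) w)) = φ ((c ^ i) ((c ^ i) w)) - φ ((c ^ m) ((c ^ i) w)) := by
    intro w
    rw [map_sub, hc, hc, ← zadd c i m, ← zadd c m i, add_comm i m]
  have h3 := kill (c := c) (φ := fun w => c (φ w) - φ ((c ^ m) w)) (fun x y => by
      rw [hadd, map_add, map_add, hadd]
      abel) (i := i + m) hi (fun w => by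
      have e1 := h1 ((c ^ m) w)
      rw [← zadd c (-m) m, neg_add_cancel, zzero] at e1
      have e2 := h2 ((c ^ m) w)
      rw [← hc] at e2
      rw [e1] at e2
      have e3 : c (φ w) - φ ((c ^ m) w) = φ ((c ^ i) ((c ^ i) ((c ^ m) w))) - φ ((c ^ m) ((c ^ i) ((c ^ m) w))) := e2
      show c (φ ((c ^ (i + m)) w)) - φ ((c ^ m) ((c ^ (i + m)) w)) = _
      rw [e3, hc, zadd c i m])
  intro w
  exact sub_eq_zero.1 (h3 w)

theorem step0 {c : V ≃ₗ[F] V} {φ : V → V} (hadd : ∀ x y, φ (x + y) = φ x + φ y) {t : F} {m i : ℤ}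
    (ht : ∀ w, c (c w) + w = t • c w)
    (hφ : ∀ w, φ ((c ^ m) w) + φ ((c ^ (-m)) w) = t • φ w) (hc : ∀ w, c (φ w) = φ ((c ^ i) w))
    (hi : ∀ v, (c ^ (i + m)) v = v → v = 0) (hi' : ∀ v, (c ^ (i - m)) v = v → v = 0)
    (hm : ∀ v, (c ^ (2 * m)) v = v → v = 0) (w : V) : φ w = 0 := by
  have h1 := step hadd ht hφ hc hi
  have h2 := step hadd (m := -m) ht (fun w => by rw [neg_neg, add_comm]; exact hφ w) hc (by rw [← sub_eq_add_neg]; exact hi')
  refine kill hadd hm (fun w => ?_) w
  have e1 := h1 ((c ^ m) w)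
  have e2 := h2 ((c ^ m) w)
  rw [e1, ← zadd, ← zadd, neg_add_cancel, zzero] at e2
  rw [two_mul]
  exact e2

theorem iter {c : V ≃ₗ[F] V} {ψ : V → V → V} {a b : ℤ} (h : ∀ u w, ψ ((c ^ a) u) w = ψ u ((c ^ b) w)) (k : ℕ) :
    ∀ u w, ψ ((c ^ (a * k)) u) w = ψ u ((c ^ (b * k)) w) := by
  induction k with
  | zero => intro u w; rw [Nat.cast_zero, mul_zero, mul_zero, zzero, zzero]
  | succ k ih =>
    intro u w
    rw [Nat.cast_succ, mul_add, mul_one, add_comm, zadd, h, ih, mul_add, mul_one, zadd]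

theorem iterc {c : V ≃ₗ[F] V} {φ : V → V} {a : ℤ} (h : ∀ w, c (φ ((c ^ a) w)) = φ w) (k : ℕ) :
    ∀ w, (c ^ (k : ℤ)) (φ ((c ^ (a * k)) w)) = φ w := by
  induction k with
  | zero => intro w; rw [Nat.cast_zero, mul_zero, zzero, zzero]
  | succ k ih =>
    intro w
    rw [Nat.cast_succ, mul_add, mul_one, add_comm (a * (k : ℤ)) a, zadd c a (a * k), zadd c k 1, zone, h, ih]

theorem zz_full (h : TC Q σ st) (hQ : Nondeg Q) (h2 : 2 < Module.finrank F V) {c : V ≃ₗ[F] V}
    (hst : ∀ u w, c (st u w) = st (c u) (c w)) {n : ℕ} (hodd : Odd n) (hcn : c ^ n = 1)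
    (hinj : ∀ i : ℤ, (i : ZMod n) ≠ 0 → ∀ v, (c ^ i) v = v → v = 0)
    {t : F} (ht : ∀ w, c (c w) + w = t • c w) {N : ℕ}
    (hN3 : (N : ZMod n) ^ 3 = 1) (hN2 : (N : ZMod n) ^ 2 ≠ 1)
    (hF : ∀ w, (c ^ (N : ℤ)) w + (c ^ (-(N : ℤ))) w = σ t • w)
    (hF2 : ∀ w, (c ^ ((N : ℤ) ^ 2)) w + (c ^ (-((N : ℤ) ^ 2))) w = σ (σ t) • w) : False := by
  obtain ⟨b, hb⟩ : ∃ b : ZMod n, b = (N : ZMod n) := ⟨_, rfl⟩
  rw [← hb] at hN3 hN2
  have htwo : ∀ x : ZMod n, 2 * x = 0 → x = 0 := by
    intro x hx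
    obtain ⟨k, hk⟩ := hodd
    have h1 : ((n : ℕ) : ZMod n) = 0 := CharP.cast_eq_zero _ _
    have h3 : ((2 * k + 1 : ℕ) : ZMod n) = 0 := by rw [← hk]; exact h1
    push_cast at h3
    linear_combination x * h3 - (k : ZMod n) * hx
  have hne1 : (1 : ZMod n) ≠ 0 := by
    intro h1
    apply hN2
    linear_combination (b ^ 2 - 1) * h1
  have b4 : b ^ 4 = b := by linear_combination b * hN3
  have e1 : 1 - b ^ 4 + b ^ 2 ≠ 0 := by
    intro h0
    have h0' : 1 - b + b ^ 2 = 0 := by linear_combination h0 + b4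
    exact hne1 (htwo _ (by linear_combination (1 + b) * h0' - hN3))
  have e2 : 1 - b ^ 4 - b ^ 2 ≠ 0 := by
    intro h0
    have h0' : 1 - b - b ^ 2 = 0 := by linear_combination h0 + b4
    have h5 : b - 1 = 0 := htwo _ (by linear_combination (b - 1) * h0' + hN3)
    exact hN2 (by linear_combination (b + 1) * h5)
  have e3 : 2 * b ^ 2 ≠ 0 := by
    intro h0
    have h5 := htwo _ h0
    exact hne1 (by linear_combination b * h5 - hN3)
  have e4 : 1 + b ^ 4 - b ^ 2 ≠ 0 := by
    intro h0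
    have h0' : 1 + b - b ^ 2 = 0 := by linear_combination h0 - b4
    have h5 : b = 0 := htwo _ (by linear_combination (b + 1) * h0' + hN3)
    exact hne1 (by linear_combination b ^ 2 * h5 - hN3)
  -- the relations
  have a1 : ∀ u w, st ((c ^ (N : ℤ)) u) w + st ((c ^ (-(N : ℤ))) u) w = t • st u w := by
    intro u w
    rw [← h.add_left, hF, h.smul_left, RingEquiv.symm_apply_apply]
  have a2 : ∀ u w, st u ((c ^ ((N : ℤ) ^ 2)) w) + st u ((c ^ (-((N : ℤ) ^ 2))) w) = t • st u w := by
    intro u w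
    rw [← h.add_right, hF2, h.smul_right, h.cube]
  have hcc : ∀ (i : ℤ) (v : V), c ((c ^ i) v) = (c ^ i) (c v) := by
    intro i v
    rw [← zone c v, ← zone c ((c ^ i) v), ← zadd, ← zadd, add_comm]
  have hsub : ∀ u x y, st u (x - y) = st u x - st u y := by
    intro u x y
    rw [sub_eq_add_neg, h.add_right, h.neg_right, ← sub_eq_add_neg]
  -- `f`
  obtain ⟨f, hf⟩ : ∃ f : V → V → V, ∀ u w, f u w = st ((c ^ (N : ℤ)) u) w - st u ((c ^ ((N : ℤ) ^ 2)) w) :=
    ⟨fun u w => _, fun _ _ => rfl⟩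
  have f1 : ∀ u w, f ((c ^ (N : ℤ)) u) w = f u ((c ^ (-((N : ℤ) ^ 2))) w) := by
    intro u w
    have g1 := a1 ((c ^ (N : ℤ)) u) w
    have g2 := a2 ((c ^ (N : ℤ)) u) w
    rw [← zadd c (-(N : ℤ)) N, neg_add_cancel, zzero] at g1
    rw [hf, hf, ← zadd c ((N : ℤ) ^ 2) (-((N : ℤ) ^ 2)), add_neg_cancel, zzero]
    rw [← g2] at g1
    have g3 : st ((c ^ (N : ℤ)) ((c ^ (N : ℤ)) u)) w = st ((c ^ (N : ℤ)) u) ((c ^ ((N : ℤ) ^ 2)) w) +
        st ((c ^ (N : ℤ)) u) ((c ^ (-((N : ℤ) ^ 2))) w) - st u w := by rw [← g1]; abel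
    rw [g3]
    abel
  have z3 : c ^ ((N : ℤ) * ((N ^ 2 : ℕ) : ℤ)) = c ^ (1 : ℤ) := zcongr hcn (by
    push_cast
    rw [← hb]
    linear_combination hN3)
  have z4 : c ^ ((N : ℤ) ^ 2 * ((N ^ 2 : ℕ) : ℤ)) = c ^ (N : ℤ) := zcongr hcn (by
    push_cast
    rw [← hb]
    linear_combination b * hN3)
  have fc : ∀ u w, c (f u w) = f u ((c ^ (1 - (N : ℤ) ^ 4)) w) := by
    intro u w
    have g1 : c (f u w) = f (c u) (c w) := by
      rw [hf, hf, map_sub, hst, hst, hcc, hcc]
    have g2 := iter f1 (N ^ 2) u (c w)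
    rw [z3, zone] at g2
    rw [g1, g2, ← zone c w, ← zadd]
    congr 2
    push_cast
    ring_nf
  have fadd : ∀ u x y, f u (x + y) = f u x + f u y := by
    intro u x y
    rw [hf, hf, hf, map_add, h.add_right, h.add_right]
    abel
  have f2 : ∀ u w, f u ((c ^ ((N : ℤ) ^ 2)) w) + f u ((c ^ (-((N : ℤ) ^ 2))) w) = t • f u w := by
    intro u w
    have g1 := a2 ((c ^ (N : ℤ)) u) w
    have g2 := a2 u ((c ^ ((N : ℤ) ^ 2)) w)
    rw [hf, hf, hf, smul_sub, ← g1, ← g2, ← zadd c ((N : ℤ) ^ 2) (-((N : ℤ) ^ 2)), ← zadd c (-((N : ℤ) ^ 2)) ((N : ℤ) ^ 2),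
      add_neg_cancel, neg_add_cancel]
    abel
  have f0 : ∀ u w, f u w = 0 := by
    intro u
    refine step0 (fadd u) ht (f2 u) (fc u) (hinj _ ?_) (hinj _ ?_) (hinj _ ?_)
    · push_cast
      rw [← hb]
      exact e1
    · push_cast
      rw [← hb]
      exact e2
    · push_cast
      rw [← hb]
      exact e3
  have r2 : ∀ u w, st ((c ^ (N : ℤ)) u) w = st u ((c ^ ((N : ℤ) ^ 2)) w) := by
    intro u w
    have := f0 u w
    rw [hf] at this
    exact sub_eq_zero.1 this
  have r1 : ∀ u w, c (st u w) = st u ((c ^ (-((N : ℤ) ^ 2))) w) := by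
    intro u
    refine step (i := 1 + (N : ℤ) ^ 4) (h.add_right u) ht (fun w => by rw [neg_neg, add_comm]; exact a2 u w) ?_ (hinj _ ?_)
    · intro w
      have g2 := iter r2 (N ^ 2) u (c w)
      rw [z3, zone] at g2
      rw [hst, g2, ← zone c w, ← zadd]
      congr 2
      push_cast
      ring_nf
    · push_cast
      rw [← hb, ← sub_eq_add_neg]
      exact e4
  have r3 : ∀ u w, c (st ((c ^ (N : ℤ)) u) w) = st u w := by
    intro u w
    rw [r2, r1, ← zadd, neg_add_cancel, zzero]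
  have r4 : ∀ x a, (c ^ (((N ^ 2 : ℕ) : ℕ) : ℤ)) (st x ((c ^ (N : ℤ)) a)) = st x a := by
    intro x a
    have g1 := iterc (c := c) (φ := st x) (a := (N : ℤ) ^ 2) (fun w => by
      rw [r1, ← zadd, neg_add_cancel, zzero]) (N ^ 2) a
    rw [z4] at g1
    exact g1
  have r5 : ∀ x d, (c ^ (((N ^ 2 : ℕ) : ℕ) : ℤ)) (st (c x) d) = st x d := by
    intro x d
    have g1 := iterc (c := c) (φ := fun y => st y d) (a := (N : ℤ)) (fun w => r3 w d) (N ^ 2) x
    rw [z3, zone] at g1
    exact g1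
  -- the contradiction
  have key : ∀ a b' d, polar Q a d = 0 → polar Q ((c ^ (N : ℤ)) a) d = 0 → st (st a b') d = 0 := by
    intro a b' d h5 h6
    have g1 := h.lin1 a b' d
    have g2 := h.lin1 ((c ^ (N : ℤ)) a) b' d
    rw [h5, map_zero, zero_smul] at g1
    rw [h6, map_zero, zero_smul] at g2
    have g3 := r5 (st ((c ^ (N : ℤ)) a) b') d
    rw [r3] at g3
    have g4 := r4 (st d b') a
    rw [← g3] at g2
    have g5 := congrArg (fun v => (c ^ (((N ^ 2 : ℕ) : ℕ) : ℤ)) v) g2
    simp only [map_add, map_zero] at g5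
    rw [g4, ← zadd] at g5
    have g6 : (c ^ (((N ^ 2 : ℕ) : ℤ) + ((N ^ 2 : ℕ) : ℤ))) (st (st a b') d) = st (st a b') d := by
      rw [eq_neg_of_add_eq_zero_left g5, eq_neg_of_add_eq_zero_left g1]
    refine hinj _ ?_ _ g6
    push_cast
    rw [← hb, ← two_mul]
    exact e3
  have hex : ∃ a, Q a ≠ 0 := by
    by_contra hno
    push Not at hno
    have hV : ∀ x : V, x = 0 := fun x => hQ x (fun y => by rw [polar, hno, hno, hno]; simp)
    have hs : Subsingleton V := ⟨fun x y => by rw [hV x, hV y]⟩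
    rw [Module.finrank_zero_of_subsingleton] at h2
    omega
  obtain ⟨a, ha⟩ := hex
  have hker : LinearMap.ker ((polarBilin Q a).prod (polarBilin Q ((c ^ (N : ℤ)) a))) ≠ ⊥ := by
    apply LinearMap.ker_ne_bot_of_finrank_lt
    rw [Module.finrank_prod, Module.finrank_self]
    exact h2
  obtain ⟨d, hd, hd0⟩ := Submodule.exists_mem_ne_zero_of_ne_bot hker
  have hd' : ((polarBilin Q a) d, (polarBilin Q ((c ^ (N : ℤ)) a)) d) = (0, 0) := hd
  have hd1 : polar Q a d = 0 := congrArg Prod.fst hd'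
  have hd2 : polar Q ((c ^ (N : ℤ)) a) d = 0 := congrArg Prod.snd hd'
  apply hd0
  have g1 := key a (st d a) d hd1 hd2
  have g2 := key a (st a a) d hd1 hd2
  have g3 : st a d = 0 := by
    rw [h.right, h.smul_left] at g2
    exact (smul_eq_zero.1 g2).resolve_left fun h0 => ha (by
      have h7 := (map_eq_zero σ.symm).1 h0
      exact (map_eq_zero σ.symm).1 h7)
  have g4 := h.left a d
  rw [g3, h.zero_left] at g4
  exact (smul_eq_zero.1 g4.symm).resolve_left fun h0 => ha ((map_eq_zero σ).1 h0)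

end full

section gen

variable [Finite F] [FiniteDimensional F V]

theorem zpow_wx {c : V ≃ₗ[F] V} {n : ℕ} {w : V} (hw : w ∈ wx c n) (i : ℤ) : (c ^ i) w ∈ wx c n := by
  have h1 : ∀ k : ℕ, ∀ w ∈ wx c n, (c ^ (k : ℤ)) w ∈ wx c n := by
    intro k
    induction k with
    | zero => intro w hw; rw [Nat.cast_zero, zzero]; exact hw
    | succ k ih =>
      intro w hw
      rw [Nat.cast_succ, zadd, zone]
      exact ih _ (map_wx hw)
  have h2 : ∀ k : ℕ, ∀ w ∈ wx c n, (c ^ (-(k : ℤ))) w ∈ wx c n := by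
    intro k
    induction k with
    | zero => intro w hw; rw [Nat.cast_zero, neg_zero, zzero]; exact hw
    | succ k ih =>
      intro w hw
      rw [Nat.cast_succ, neg_add, zadd]
      refine ih _ ?_
      rw [zpow_neg_one]
      exact symm_wx hw
  obtain ⟨k, rfl | rfl⟩ := i.eq_nat_or_neg
  · exact h1 k w hw
  · exact h2 k w hw

/-- every element of the complement is of the form `c v - v` -/
theorem wx_eq {c : V ≃ₗ[F] V} {n : ℕ} (hnF : (n : F) ≠ 0) {w : V} (hw : w ∈ wx c n) : ∃ v, c v - v = w := by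
  let D : wx c n →ₗ[F] wx c n := cW c n - LinearMap.id
  have hinj : Function.Injective D := by
    rw [injective_iff_map_eq_zero]
    intro v hv
    exact cW_fix hnF v (sub_eq_zero.1 hv)
  obtain ⟨v, hv⟩ := LinearMap.injective_iff_surjective.1 hinj ⟨w, hw⟩
  exact ⟨v, congrArg Subtype.val hv⟩

theorem fix_full {c : V ≃ₗ[F] V} {n : ℕ} (hcn : c ^ n = 1) (hnF : (n : F) ≠ 0) {i : ℤ}
    (h : ∀ w ∈ wx c n, (c ^ i) w = w) : c ^ i = 1 := by
  have hfx : ∀ v, c v = v → (c ^ i) v = v := by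
    intro v hv
    have h1 : ∀ k : ℕ, (c ^ (k : ℤ)) v = v := by
      intro k
      induction k with
      | zero => rw [Nat.cast_zero, zzero]
      | succ k ih => rw [Nat.cast_succ, zadd, zone, hv, ih]
    obtain ⟨k, rfl | rfl⟩ := i.eq_nat_or_neg
    · exact h1 k
    · have e := zadd c (-(k : ℤ)) k v
      rw [neg_add_cancel, zzero, h1] at e
      exact e.symm
  apply LinearEquiv.ext
  intro v
  show (c ^ i) v = v
  have h1 : (n : F) • v - nm c n v ∈ wx c n := by
    rw [mem_wx, map_sub, map_smul, nm_of_fix (nm_fix hcn v), sub_self]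
  have h2 := h _ h1
  rw [map_sub, map_smul, hfx _ (nm_fix hcn v)] at h2
  have h3 : (n : F) • ((c ^ i) v - v) = 0 := by
    rw [smul_sub, sub_left_inj.1 h2, sub_self]
  exact sub_eq_zero.1 ((smul_eq_zero.1 h3).resolve_left hnF)

theorem zz (h : TC Q σ st) (hQ : Nondeg Q) (h2 : 2 < Module.finrank F V) {p j : ℕ} [CharP F p] [Fact p.Prime]
    (hσ : ∀ a : F, σ a = a ^ (p ^ j)) {c : V ≃ₗ[F] V} (hc : c ∈ O Q) (hst : ∀ u w, c (st u w) = st (c u) (c w))
    {n : ℕ} (hodd : Odd n) (hord : orderOf c = n) (hnF : (n : F) ≠ 0) {t : F}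
    (ht : ∀ v, c (c (c v - v)) + (c v - v) = t • c (c v - v))
    (hb3 : ((p ^ j : ℕ) : ZMod n) ^ 3 = 1 ∨ ((p ^ j : ℕ) : ZMod n) ^ 3 = -1) (hb2 : ((p ^ j : ℕ) : ZMod n) ^ 2 ≠ 1) :
    False := by
  have hcn : c ^ n = 1 := by rw [← hord]; exact pow_orderOf_eq_one c
  have hordz : ∀ i : ℤ, c ^ i = 1 → (i : ZMod n) = 0 := by
    intro i hi
    apply (ZMod.intCast_zmod_eq_zero_iff_dvd i n).2
    rw [← hord]
    exact orderOf_dvd_iff_zpow_eq_one.2 hi
  have hnt : Nontrivial V := by
    apply Module.nontrivial_of_finrank_pos (R := F)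
    omega
  have htw : ∀ w ∈ wx c n, c (c w) + w = t • c w := by
    intro w hw
    obtain ⟨v, rfl⟩ := wx_eq hnF hw
    exact ht v
  have hcm : ∀ w, c ((c ^ (-1 : ℤ)) w) = w := by
    intro w
    rw [← zone c ((c ^ (-1 : ℤ)) w), ← zadd, add_neg_cancel, zzero]
  have ht1 : ∀ w ∈ wx c n, c w + (c ^ (-1 : ℤ)) w = t • w := by
    intro w hw
    have h1 := htw _ (zpow_wx hw (-1))
    rwa [hcm] at h1
  have hinjw : ∀ i : ℤ, (i : ZMod n) ≠ 0 → ∀ v ∈ wx c n, (c ^ i) v = v → v = 0 := by
    intro i hi v hv hvi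
    by_contra hv0
    apply hi
    apply hordz
    exact fix_full hcn hnF (fix_all hcn hnF (fun w hw i => zpow_wx hw i) ht1 hv hv0 hvi)
  have hB : ∀ w ∈ wx c n, (c ^ ((p ^ j : ℕ) : ℤ)) w + (c ^ (-((p ^ j : ℕ) : ℤ))) w = σ t • w := by
    intro w hw
    have h1 := frob (p := p) (d := c) (W := wx c n) (x := t) (fun w hw => by rw [← zpow_neg_one]; exact ht1 w hw) j w hw
    rw [hσ, ← h1, zpow_natCast, zpow_neg, zpow_natCast, inv_pow]
  by_cases hU : fx c = ⊥
  · -- the fixed space is trivial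
    have hall : ∀ v, v ∈ wx c n := by
      intro v
      rw [mem_wx]
      have h1 : nm c n v ∈ fx c := nm_fix hcn v
      rw [hU] at h1
      exact (Submodule.mem_bot F).1 h1
    have hB2 : ∀ w, (c ^ (((p ^ j : ℕ) : ℤ) ^ 2)) w + (c ^ (-(((p ^ j : ℕ) : ℤ) ^ 2))) w = σ (σ t) • w := by
      intro w
      have h1 := frob (p := p) (d := c ^ ((p ^ j : ℕ) : ℤ)) (W := wx c n) (x := σ t)
        (fun w hw => by rw [← zpow_neg]; exact hB w hw) j w (hall w)
      rw [hσ (σ t), ← h1, ← zpow_natCast, ← zpow_mul, ← zpow_neg, ← zpow_natCast (c ^ (-((p ^ j : ℕ) : ℤ))), ← zpow_mul, pow_two,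
        neg_mul]
    have hinj : ∀ i : ℤ, (i : ZMod n) ≠ 0 → ∀ v, (c ^ i) v = v → v = 0 := fun i hi v => hinjw i hi v (hall v)
    have n1 : 1 ≤ n := by
      rcases Nat.eq_zero_or_pos n with h0 | h0
      · rw [h0, Nat.cast_zero] at hnF
        exact absurd rfl hnF
      · exact h0
    rcases hb3 with hb3 | hb3
    · exact zz_full h hQ h2 hst hodd hcn hinj (fun w => htw w (hall w)) (N := p ^ j) hb3 hb2 (fun w => hB w (hall w)) hB2
    · have hN : (((p ^ j * (n - 1) : ℕ)) : ZMod n) = -((p ^ j : ℕ) : ZMod n) := by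
        rw [Nat.cast_mul, Nat.cast_sub n1, Nat.cast_one, CharP.cast_eq_zero (ZMod n) n]
        ring
      have hz1 : c ^ (((p ^ j * (n - 1) : ℕ)) : ℤ) = c ^ (-((p ^ j : ℕ) : ℤ)) := zcongr hcn (by
        rw [Int.cast_natCast, hN, Int.cast_neg, Int.cast_natCast])
      have hz2 : c ^ (-(((p ^ j * (n - 1) : ℕ)) : ℤ)) = c ^ ((p ^ j : ℕ) : ℤ) := zcongr hcn (by
        rw [Int.cast_neg, Int.cast_natCast, hN, neg_neg, Int.cast_natCast])
      have hz3 : c ^ ((((p ^ j * (n - 1) : ℕ)) : ℤ) ^ 2) = c ^ (((p ^ j : ℕ) : ℤ) ^ 2) := zcongr hcn (by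
        rw [Int.cast_pow, Int.cast_natCast, hN, Int.cast_pow, Int.cast_natCast, neg_sq])
      have hz4 : c ^ (-((((p ^ j * (n - 1) : ℕ)) : ℤ) ^ 2)) = c ^ (-(((p ^ j : ℕ) : ℤ) ^ 2)) := by
        rw [zpow_neg, hz3, ← zpow_neg]
      refine zz_full h hQ h2 hst hodd hcn hinj (fun w => htw w (hall w)) (N := p ^ j * (n - 1)) ?_ ?_ ?_ ?_
      · rw [hN, Odd.neg_pow (by decide), hb3, neg_neg]
      · rw [hN, neg_sq]
        exact hb2
      · intro w
        rw [hz1, hz2, add_comm]
        exact hB w (hall w)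
      · intro w
        rw [hz3, hz4]
        exact hB2 w
  · obtain ⟨k, hk, hkQ⟩ := exists_nonsing_fx hQ hc hcn hnF hU
    have hc1 : c ≠ 1 := by
      rintro rfl
      rw [orderOf_one] at hord
      subst hord
      exact hb2 (Subsingleton.elim _ _)
    have hnw := nontrivial_wx hcn hc1
    obtain ⟨⟨w, hw⟩, hw0⟩ := exists_ne (0 : wx c n)
    have hw0 : w ≠ 0 := fun h0 => hw0 (Subtype.ext h0)
    -- `σ t = t`
    have hst1 : σ t = t := by
      have h1 := ht1 _ (st_wx h hst hk hw)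
      have h3 : (c ^ (-1 : ℤ)) (st k w) = st k ((c ^ (-1 : ℤ)) w) := by
        apply c.injective
        rw [hcm, hst, hk, hcm]
      have h4 : c (st k w) = st k (c w) := by rw [hst, hk]
      rw [h3, h4, ← h.add_right, ht1 w hw, h.smul_right] at h1
      have h5 : (σ t - t) • st k w = 0 := by rw [sub_smul, h1, sub_self]
      rcases smul_eq_zero.1 h5 with h6 | h6
      · exact sub_eq_zero.1 h6
      · exact absurd (st_inj h hkQ h6) hw0
    have hrel : ∀ w ∈ wx c n, (c ^ ((p ^ j : ℕ) : ℤ)) w + (c ^ (-((p ^ j : ℕ) : ℤ))) w = c w + (c ^ (-1 : ℤ)) w := by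
      intro w hw
      rw [hB w hw, ht1 w hw, hst1]
    have hy : (c ^ (((p ^ j : ℕ) : ℤ) - 1)) ((c ^ (((p ^ j : ℕ) : ℤ) + 1)) w - w) = (c ^ (((p ^ j : ℕ) : ℤ) + 1)) w - w := by
      have h1 := hrel _ (zpow_wx hw ((p ^ j : ℕ) : ℤ))
      rw [← zadd, ← zadd, neg_add_cancel, zzero, ← zone c ((c ^ ((p ^ j : ℕ) : ℤ)) w), ← zadd, ← zadd] at h1
      rw [map_sub, ← zadd]
      rw [show ((p ^ j : ℕ) : ℤ) - 1 + (((p ^ j : ℕ) : ℤ) + 1) = ((p ^ j : ℕ) : ℤ) + ((p ^ j : ℕ) : ℤ) by ring,
        show ((p ^ j : ℕ) : ℤ) - 1 = -1 + ((p ^ j : ℕ) : ℤ) by ring, show ((p ^ j : ℕ) : ℤ) + 1 = 1 + ((p ^ j : ℕ) : ℤ) by ring]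
      rw [sub_eq_sub_iff_add_eq_add, h1]
    by_cases hy0 : (c ^ (((p ^ j : ℕ) : ℤ) + 1)) w - w = 0
    · have h1 := hordz _ (fix_full hcn hnF (fix_all hcn hnF (fun w hw i => zpow_wx hw i) ht1 hw hw0 (sub_eq_zero.1 hy0)))
      rw [Int.cast_add, Int.cast_natCast, Int.cast_one] at h1
      apply hb2
      linear_combination (((p ^ j : ℕ) : ZMod n) - 1) * h1
    · have hmem : (c ^ (((p ^ j : ℕ) : ℤ) + 1)) w - w ∈ wx c n := Submodule.sub_mem _ (zpow_wx hw _) hw
      have h1 := hordz _ (fix_full hcn hnF (fix_all hcn hnF (fun w hw i => zpow_wx hw i) ht1 hmem hy0 hy))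
      rw [Int.cast_sub, Int.cast_natCast, Int.cast_one] at h1
      apply hb2
      linear_combination (((p ^ j : ℕ) : ZMod n) + 1) * h1

end gen

end zz

/-- **ZZ** -/
theorem ZZ {F : Type*} [Field F] [Finite F] {s : F ≃+* F} (h3 : ∀ a, s (s (s a)) = a) (hne : s ≠ RingEquiv.refl F) {q0 : ℕ}
    (hq : Nat.card F = q0 ^ 3) {c : V8 F ≃ₗ[F] V8 F} (hc : c ∈ AutD (fG s)) {n : ℕ} (hodd : Odd n)
    (hn : orderOf c = n) (h1 : n ∣ Nat.card F - 1 ∨ n ∣ Nat.card F + 1) (h2 : ¬ n ∣ q0 ^ 2 - 1) {t : F}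
    (ht : ∀ v, c (c (c v - v)) + (c v - v) = t • c (c v - v)) : False := by
  obtain ⟨p, k, j, hp, hk, hch, hq', hs, hj⟩ := numbers h3 hne
  have hfp : Fact p.Prime := ⟨hp⟩
  have hq0 : q0 = p ^ k := by
    rw [hq] at hq'
    exact Nat.pow_left_injective (by norm_num) hq'
  have hq1 : 1 ≤ q0 := by
    rw [hq0]
    exact Nat.one_le_pow _ _ hp.pos
  have hq3 : 1 ≤ q0 ^ 3 := Nat.one_le_pow _ _ hq1
  obtain ⟨a, ha⟩ : ∃ a : ZMod n, a = ((q0 : ℕ) : ZMod n) := ⟨_, rfl⟩
  have ha3 : a ^ 3 = 1 ∨ a ^ 3 = -1 := by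
    rcases h1 with h1 | h1
    · left
      have h5 := (ZMod.natCast_eq_zero_iff _ _).2 h1
      rw [hq, Nat.cast_sub hq3] at h5
      push_cast at h5
      rw [← ha] at h5
      linear_combination h5
    · right
      have h5 := (ZMod.natCast_eq_zero_iff _ _).2 h1
      rw [hq] at h5
      push_cast at h5
      rw [← ha] at h5
      linear_combination h5
  have ha2 : a ^ 2 ≠ 1 := by
    intro h5
    apply h2
    apply (ZMod.natCast_eq_zero_iff _ _).1
    rw [Nat.cast_sub (Nat.one_le_pow _ _ hq1)]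
    push_cast
    rw [← ha, h5, sub_self]
  have hnF : (n : F) ≠ 0 := by
    intro h0
    have h5 := (CharP.cast_eq_zero_iff F p n).1 h0
    have hpc : p ∣ Nat.card F := by
      rw [hq', ← pow_mul]
      exact dvd_pow_self p (by omega)
    have hc1 : 1 ≤ Nat.card F := by rw [hq]; exact hq3
    apply hp.one_lt.ne'
    apply Nat.dvd_one.1
    rcases h1 with h1 | h1
    · have h6 := Nat.dvd_sub hpc (h5.trans h1)
      rwa [Nat.sub_sub_self hc1] at h6
    · exact (Nat.dvd_add_right hpc).1 (h5.trans h1)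
  have hb : (((p ^ j : ℕ) : ZMod n)) = a ∨ (((p ^ j : ℕ) : ZMod n)) = a ^ 2 := by
    rcases hj with rfl | rfl
    · left
      rw [ha, hq0]
    · right
      rw [ha, hq0]
      push_cast
      ring
  refine zz (p := p) (j := j) (Cfsg.Agent.H256.RC.tc_fG h3) nondeg8 (by rw [finrank8]; norm_num) hs (c := c) (E_le_O hc.1)
    hc.2 hodd hn hnF ht ?_ ?_
  · rcases hb with hb | hb
    · rw [hb]
      exact ha3
    · left
      rw [hb]
      rcases ha3 with h | h
      · linear_combination (a ^ 3 + 1) * h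
      · linear_combination (a ^ 3 - 1) * h
  · rcases hb with hb | hb
    · rw [hb]
      exact ha2
    · rw [hb]
      intro h5
      apply ha2
      rcases ha3 with h | h
      · linear_combination (a + 1) * (h5 - a * h)
      · linear_combination (a - 1) * (a * h - h5)

end Cfsg.Agent.H393.TZ
end

-- part: H393/RC/TriZW
section
/-!
# S3510, triality, type iii: the box ZZ with the subspace `W` (helper393)
-/

set_option autoImplicit false

namespace Cfsg.Agent.H393.TZ

open Module QuadraticMap Cfsg.Agent.LieClassical.OrthCore Cfsg.Agent.LieClassical.OrthTrans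
  Cfsg.Agent.LieClassical.OrthSimple Cfsg.Agent.LieClassical.QuadForms
  Cfsg.Agent.ClassicalGeometry.TrialityOct Cfsg.Agent.ClassicalGeometry.Triality
  Cfsg.Agent.H198.TriBase Cfsg.Agent.H198.TriAut
  Cfsg.Agent.H198.TriDia Cfsg.Agent.H198.TriTC Cfsg.Agent.H198.TwComp

/-- orthogonal projection on a nondegenerate subspace -/
theorem exists_proj {F V : Type*} [Field F] [AddCommGroup V] [Module F V] [FiniteDimensional F V]
    {Q : QuadraticForm F V} {W : Submodule F V}
    (hW : ∀ v ∈ W, (∀ w ∈ W, polar Q v w = 0) → v = 0) (v : V) : ∃ w ∈ W, ∀ w' ∈ W, polar Q (v - w) w' = 0 := by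
  let f : W →ₗ[F] Module.Dual F W := (W.subtype.dualMap).comp ((polarBilin Q).comp W.subtype)
  have hfa : ∀ x y : W, f x y = polar Q (x : V) (y : V) := fun _ _ => rfl
  have hf : Function.Injective f := by
    rw [injective_iff_map_eq_zero]
    intro x hx
    apply Subtype.ext
    apply hW _ x.2
    intro w hw
    have := congrArg (fun g : Module.Dual F W => g ⟨w, hw⟩) hx
    exact this
  have hs : Function.Surjective f :=
    (LinearMap.injective_iff_surjective_of_finrank_eq_finrank (by exact (Subspace.dual_finrank_eq).symm)).1 hf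
  obtain ⟨w, hw⟩ := hs ((W.subtype.dualMap) (polarBilin Q v))
  refine ⟨w, w.2, fun w' hw' => ?_⟩
  have h1 := congrArg (fun g : Module.Dual F W => g ⟨w', hw'⟩) hw
  have h2 : polar Q (w : V) w' = polar Q v w' := h1
  rw [polar_sub_left, h2, sub_self]

theorem zzW {F : Type*} [Field F] [Finite F] {s : F ≃+* F} (h3 : ∀ a, s (s (s a)) = a) (hne : s ≠ RingEquiv.refl F)
    {q0 : ℕ} (hq : Nat.card F = q0 ^ 3) {c : V8 F ≃ₗ[F] V8 F} (hcA : c ∈ AutD (fG s)) {l k : ℕ} (hl : l.Prime)
    (hl2 : l ≠ 2) (hn : orderOf c = l ^ k) (h1 : l ^ k ∣ Nat.card F ^ 2 - 1) (h2 : ¬ l ^ k ∣ q0 ^ 2 - 1)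
    {W : Submodule F (V8 F)} {τ : F} (hcW : ∀ v ∈ W, c v ∈ W) (hτ : ∀ v ∈ W, c (c v) + v = τ • c v)
    (hW : ∀ v ∈ W, (∀ w ∈ W, polar (plusForm 4 F) v w = 0) → v = 0)
    (hWp : ∀ v, (∀ w ∈ W, polar (plusForm 4 F) v w = 0) → c v = v) : False := by
  have hmem : ∀ v, c v - v ∈ W := by
    intro v
    obtain ⟨w, hw, hp⟩ := exists_proj hW v
    have e := hWp _ hp
    rw [map_sub] at e
    have e2 : c v - v = c w - w := by
      rw [sub_eq_sub_iff_add_eq_add]
      rw [sub_eq_sub_iff_add_eq_add] at e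
      rw [e, add_comm]
    rw [e2]
    exact W.sub_mem (hcW w hw) hw
  have hodd : Odd (l ^ k) := (hl.odd_of_ne_two hl2).pow
  have h3' : l ^ k ∣ Nat.card F - 1 ∨ l ^ k ∣ Nat.card F + 1 := by
    obtain ⟨N, hN⟩ : ∃ N, N = Nat.card F := ⟨_, rfl⟩
    rw [← hN] at h1 ⊢
    have hN1 : 1 ≤ N := by
      rw [hN]
      exact Nat.card_pos
    have e1 : N ^ 2 - 1 = (N + 1) * (N - 1) := by
      have := Nat.sq_sub_sq N 1
      rwa [one_pow] at this
    rw [e1] at h1
    by_cases hd : l ∣ N - 1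
    · left
      have hcop : Nat.Coprime (l ^ k) (N + 1) := by
        apply Nat.Coprime.pow_left
        rw [hl.coprime_iff_not_dvd]
        intro hd2
        have h5 : l ∣ (N + 1) - (N - 1) := Nat.dvd_sub hd2 hd
        have h6 : (N + 1) - (N - 1) = 2 := by omega
        rw [h6] at h5
        exact hl2 ((Nat.prime_dvd_prime_iff_eq hl Nat.prime_two).1 h5)
      exact hcop.dvd_of_dvd_mul_left h1
    · right
      have hcop : Nat.Coprime (l ^ k) (N - 1) := by
        apply Nat.Coprime.pow_left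
        rw [hl.coprime_iff_not_dvd]
        exact hd
      exact hcop.dvd_of_dvd_mul_right h1
  exact ZZ h3 hne hq hcA hodd hn h3' h2 (fun v => hτ _ (hmem v))

end Cfsg.Agent.H393.TZ
end

-- part: H65/RC/ZN4
section
/-!
# S3510, triality part of `PΩ₈⁺(q)`, type iii, box ZN4 (helper65)

`ZN4` : for `|F| = q0 ^ 3` an automorphism `c ∈ AutD (fG s)` of odd prime order `l` dividing `q0 ^ 2 + 1` is trivial.

* `no_fix` : a twisted symmetric composition over a field with the `l`-th roots of unity, fixed by `σ`, has no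
  automorphism `f` with `f ^ l = 1` and `ker (f - 1) = 0`;
* `tcd` : `dia (fG s)` is a twisted symmetric composition;
* `no_fix8` : base change to the extension of degree four.
-/

set_option autoImplicit false

namespace Cfsg.Agent.H65.RC

open Module QuadraticMap Cfsg.Agent.LieClassical.OrthCore Cfsg.Agent.LieClassical.OrthTrans
  Cfsg.Agent.LieClassical.OrthSimple
  Cfsg.Agent.LieClassical.OrthFinite
  Cfsg.Agent.ClassicalGeometry.OrthAut1
  Cfsg.Agent.ClassicalGeometry.OrthSemi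
  Cfsg.Agent.LieClassical.QuadForms
  Cfsg.Agent.ClassicalGeometry.TrialityOct Cfsg.Agent.ClassicalGeometry.Triality
  Cfsg.Agent.ClassicalGeometry.TrialitySpaces Cfsg.Agent.H198.TriBase Cfsg.Agent.H198.TriAut
  Cfsg.Agent.H198.TriDia Cfsg.Agent.H198.TwComp

/-! ### Arithmetic -/

theorem four_dvd {q0 l d : ℕ} (hl : l.Prime) (hl2 : l ≠ 2) (h1 : l ∣ q0 ^ 2 + 1)
    (hd : (q0 : ZMod l) ^ d = 1) : 4 ∣ d := by
  have : Fact l.Prime := ⟨hl⟩
  have : Fact (2 < l) := ⟨lt_of_le_of_ne hl.two_le (Ne.symm hl2)⟩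
  have h2 : (q0 : ZMod l) ^ 2 = -1 := by
    have h3 : ((q0 ^ 2 + 1 : ℕ) : ZMod l) = 0 := (ZMod.natCast_eq_zero_iff _ _).2 h1
    push_cast at h3
    exact eq_neg_of_add_eq_zero_left h3
  have h4 : orderOf (q0 : ZMod l) = 2 ^ (1 + 1) := by
    have : Fact (Nat.Prime 2) := ⟨Nat.prime_two⟩
    apply orderOf_eq_prime_pow
    · rw [pow_one, h2]
      exact ZMod.neg_one_ne_one
    · rw [pow_succ, pow_one, pow_mul, h2]
      ring
  have h5 := orderOf_dvd_of_pow_eq_one hd
  rwa [h4] at h5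

theorem ne_three {q0 l : ℕ} (h1 : l ∣ q0 ^ 2 + 1) : l ≠ 3 := by
  rintro rfl
  have h2 : (q0 ^ 2 + 1) % 3 = 0 := Nat.mod_eq_zero_of_dvd h1
  have h3 : q0 % 3 = 0 ∨ q0 % 3 = 1 ∨ q0 % 3 = 2 := by omega
  rcases h3 with h | h | h <;> simp only [Nat.pow_mod, Nat.add_mod, h, _root_.ne_eq, _root_.OfNat.ofNat_ne_zero, _root_.not_false_eq_true, _root_.zero_pow, _root_.Nat.zero_mod, _root_.Nat.one_mod, _root_.zero_add, _root_.one_ne_zero, _root_.one_pow, _root_.Nat.reduceAdd, _root_.Nat.mod_succ, _root_.Nat.reducePow, _root_.Nat.reduceMod] at h2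

/-! ### Automorphisms without fixed vectors -/

section abs

variable {K V : Type*} [Field K] [AddCommGroup V] [Module K V] {Q : QuadraticForm K V} {σ : K ≃+* K} {m : V → V → V}
  {f : V →ₗ[K] V} {l : ℕ}

/-- The projection to an eigenspace, up to the factor `l`. -/
noncomputable def pr (f : V →ₗ[K] V) (l : ℕ) (k : K) (v : V) : V := ∑ t ∈ Finset.range l, k⁻¹ ^ t • (f ^ t) v

theorem pr_eig (hf : f ^ l = 1) {k : K} (hk : k ^ l = 1) (hl : l ≠ 0) (v : V) : f (pr f l k v) = k • pr f l k v := by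
  have hk0 : k ≠ 0 := by
    rintro rfl
    rw [zero_pow hl] at hk
    exact zero_ne_one hk
  have h1 : ∀ t, f (k⁻¹ ^ t • (f ^ t) v) = k • (k⁻¹ ^ (t + 1) • (f ^ (t + 1)) v) := by
    intro t
    rw [map_smul, smul_smul, pow_succ' k⁻¹ t, ← mul_assoc, mul_inv_cancel₀ hk0, one_mul, pow_succ' f t]
    rfl
  have h2 : ∑ t ∈ Finset.range l, k⁻¹ ^ (t + 1) • (f ^ (t + 1)) v = pr f l k v := by
    have h3 := Finset.sum_range_succ (fun t => k⁻¹ ^ t • (f ^ t) v) l
    rw [Finset.sum_range_succ'] at h3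
    have h4 : k⁻¹ ^ l • (f ^ l) v = k⁻¹ ^ 0 • (f ^ 0) v := by rw [inv_pow, hk, hf, inv_one, pow_zero, pow_zero]
    rw [h4] at h3
    exact add_right_cancel h3
  unfold pr at h2 ⊢
  rw [map_sum, Finset.sum_congr rfl (fun t _ => h1 t), ← Finset.smul_sum, h2]

theorem sum_pr {z : K} (hz : IsPrimitiveRoot z l) (hl : l ≠ 0) (v : V) :
    ∑ j ∈ Finset.range l, pr f l (z ^ j) v = (l : K) • v := by
  unfold pr
  rw [Finset.sum_comm]
  have h1 : ∀ t ∈ Finset.range l, ∑ j ∈ Finset.range l, (z ^ j)⁻¹ ^ t • (f ^ t) v =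
      if t = 0 then (l : K) • v else 0 := by
    intro t ht
    rw [← Finset.sum_smul]
    by_cases h0 : t = 0
    · subst h0
      simp only [_root_.pow_zero, _root_.Finset.sum_const, _root_.Finset.card_range, _root_.nsmul_eq_mul, _root_.mul_one, _root_.Module.End.one_apply, ↓ _root_.reduceIte]
    · rw [if_neg h0]
      have h2 : ∑ j ∈ Finset.range l, (z ^ j)⁻¹ ^ t = ∑ j ∈ Finset.range l, (z⁻¹ ^ t) ^ j := by
        apply Finset.sum_congr rfl
        intro j _
        rw [← inv_pow, ← pow_mul, ← pow_mul, mul_comm]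
      have h3 : z⁻¹ ^ t ≠ 1 := by
        intro h4
        rw [inv_pow, inv_eq_one] at h4
        have h5 := hz.dvd_of_pow_eq_one t h4
        exact absurd (Nat.le_of_dvd (Nat.pos_of_ne_zero h0) h5) (not_le.2 (Finset.mem_range.1 ht))
      have h6 : ∑ j ∈ Finset.range l, (z⁻¹ ^ t) ^ j = 0 := by
        have h7 := geom_sum_mul (z⁻¹ ^ t) l
        have h8 : (z⁻¹ ^ t) ^ l = 1 := by
          rw [← pow_mul, mul_comm, pow_mul, inv_pow, hz.pow_eq_one, inv_one, one_pow]
        rw [h8, sub_self] at h7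
        exact (mul_eq_zero.1 h7).resolve_right (sub_ne_zero.2 h3)
      rw [h2, h6, zero_smul]
  rw [Finset.sum_congr rfl h1, Finset.sum_ite_eq' (Finset.range l) 0]
  rw [if_pos (Finset.mem_range.2 (Nat.pos_of_ne_zero hl))]

variable (h : TC Q σ m) (hmul : ∀ u w, f (m u w) = m (f u) (f w))

include h hmul in
theorem eig_mul {k n : K} (hk : σ k = k) (hn : σ n = n) {u w : V} (hu : f u = k • u) (hw : f w = n • w) :
    f (m u w) = (k * n) • m u w := by
  have hk' : σ.symm k = k := by rw [RingEquiv.symm_apply_eq, hk]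
  rw [hmul, hu, hw, h.smul_left, h.smul_right, hk', hn, smul_smul]

/-- Twisted symmetric compositions have no automorphism of prime order `l ≠ 2, 3` without fixed vectors. -/
theorem no_fix (hQ : Nondeg Q) (hl : l.Prime) (hl2 : l ≠ 2) (hl3 : l ≠ 3) (hlK : (l : K) ≠ 0)
    (h : TC Q σ m) (hmul : ∀ u w, f (m u w) = m (f u) (f w)) (hf : f ^ l = 1)
    {z : K} (hz : IsPrimitiveRoot z l) (hsz : σ z = z)
    (hfix : ∀ v, f v = v → v = 0) (v : V) : v = 0 := by
  by_contra hv
  have hs : ∀ j : ℕ, σ (z ^ j) = z ^ j := fun j => by rw [map_pow, hsz]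
  have hzl : ∀ j : ℕ, (z ^ j) ^ l = 1 := fun j => by rw [← pow_mul, mul_comm, pow_mul, hz.pow_eq_one, one_pow]
  -- a nonzero vector has a nonzero projection
  obtain ⟨j, hj⟩ : ∃ j, pr f l (z ^ j) v ≠ 0 := by
    by_contra hno
    push Not at hno
    have h1 := sum_pr (f := f) hz hl.ne_zero v
    rw [Finset.sum_eq_zero (fun j _ => hno j)] at h1
    exact (smul_ne_zero hlK hv) h1.symm
  -- `u ⋄ u ≠ 0` for eigenvectors
  have key : ∀ (i : ℕ) (u : V), u ≠ 0 → f u = z ^ i • u → m u u ≠ 0 := by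
    intro i u hu0 hu h0
    obtain ⟨w, hw⟩ := hQ.exists_polar_ne hu0
    -- a projection of `w`
    obtain ⟨n, hn⟩ : ∃ n, polar Q u (pr f l (z ^ n) w) ≠ 0 := by
      by_contra hno
      push Not at hno
      have h1 := sum_pr (f := f) hz hl.ne_zero w
      have h2 : polar Q u ((l : K) • w) = 0 := by
        rw [← h1]
        have h3 : ∀ s : Finset ℕ, polar Q u (∑ j ∈ s, pr f l (z ^ j) w) = 0 := by
          intro s
          induction s using Finset.induction_on with
          | empty => rw [Finset.sum_empty, polar_zero_right]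
          | insert a s ha ih => rw [Finset.sum_insert ha, polar_add_right, hno, ih, zero_add]
        exact h3 _
      rw [polar_smul_right, smul_eq_mul] at h2
      exact (mul_ne_zero hlK hw) h2
    set w' := pr f l (z ^ n) w with hw'
    have hfw : f w' = z ^ n • w' := pr_eig hf (hzl n) hl.ne_zero w
    -- lin1
    have e1 := h.lin1 u u w'
    rw [h0, h.zero_left, zero_add] at e1
    have e2 : f (m w' u) = (z ^ n * z ^ i) • m w' u := eig_mul h hmul (hs n) (hs i) hfw hu
    have e3 : f (m (m w' u) u) = ((z ^ n * z ^ i) * z ^ i) • m (m w' u) u :=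
      eig_mul h hmul (by rw [map_mul, hs, hs]) (hs i) e2 hu
    have hne : σ (polar Q u w') • u ≠ 0 := smul_ne_zero (fun h5 => hn ((map_eq_zero σ).1 h5)) hu0
    rw [e1, map_smul, hu, smul_comm] at e3
    have e4 : (z ^ i - z ^ n * z ^ i * z ^ i) • (σ (polar Q u w') • u) = 0 := by rw [sub_smul, e3, sub_self]
    have e5 := sub_eq_zero.1 ((smul_eq_zero.1 e4).resolve_right hne)
    have hz0 : z ≠ 0 := hz.ne_zero hl.ne_zero
    have e6 : z ^ n * z ^ i = 1 := by
      have e7 : (z ^ n * z ^ i) * z ^ i = 1 * z ^ i := by rw [one_mul, ← e5]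
      exact mul_right_cancel₀ (pow_ne_zero i hz0) e7
    rw [e6, one_smul] at e2
    have e8 := hfix _ e2
    rw [e8, h.zero_left] at e1
    exact hne e1.symm
  have hu := pr_eig hf (hzl j) hl.ne_zero v
  set u := pr f l (z ^ j) v with hudef
  have hj1 : z ^ j ≠ 1 := by
    intro h1
    rw [h1, one_smul] at hu
    exact hj (hfix _ hu)
  have hldj : ¬ l ∣ j := fun h1 => hj1 ((hz.pow_eq_one_iff_dvd j).2 h1)
  have hcop : ∀ n : ℕ, n.Prime → n ≠ l → z ^ (j * n) ≠ 1 := by
    intro n hn hnl h1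
    have h2 := (hz.pow_eq_one_iff_dvd _).1 h1
    rcases (hl.dvd_mul).1 h2 with h3 | h3
    · exact hldj h3
    · exact hnl ((Nat.prime_dvd_prime_iff_eq hl hn).1 h3).symm
  -- `Q u = 0`
  have huu : f (m u u) = (z ^ j * z ^ j) • m u u := eig_mul h hmul (hs j) (hs j) hu hu
  have hQu : Q u = 0 := by
    have e1 := h.left u u
    have e2 : f (m (m u u) u) = (z ^ j * z ^ j * z ^ j) • m (m u u) u :=
      eig_mul h hmul (by rw [map_mul, hs]) (hs j) huu hu
    rw [e1, map_smul, hu, smul_comm] at e2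
    by_contra hQ0
    have hne : σ (Q u) • u ≠ 0 := smul_ne_zero (fun h5 => hQ0 ((map_eq_zero σ).1 h5)) hj
    have e4 : (z ^ j - z ^ j * z ^ j * z ^ j) • (σ (Q u) • u) = 0 := by rw [sub_smul, e2, sub_self]
    have e5 := sub_eq_zero.1 ((smul_eq_zero.1 e4).resolve_right hne)
    have hz0 : z ≠ 0 := hz.ne_zero hl.ne_zero
    have e6 : z ^ (j * 2) = 1 := by
      have e7 : (z ^ j * z ^ j) * z ^ j = 1 * z ^ j := by rw [one_mul, ← e5]
      rw [pow_mul, pow_two]
      exact mul_right_cancel₀ (pow_ne_zero j hz0) e7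
    exact hcop 2 Nat.prime_two (Ne.symm hl2) e6
  have h1 : m u u ≠ 0 := key j u hj hu
  have h2 : m (m u u) (m u u) ≠ 0 := key (j * 2) _ h1 (by rw [pow_mul, pow_two]; exact huu)
  obtain ⟨h3, -⟩ := h.sq_sq hQu hj
  apply h2
  rw [h3]
  have e1 : f (m (m u u) (m u u)) = ((z ^ j * z ^ j) * (z ^ j * z ^ j)) • m (m u u) (m u u) :=
    eig_mul h hmul (by rw [map_mul, hs]) (by rw [map_mul, hs]) huu huu
  rw [h3] at h2
  rw [h3, map_smul, hu, smul_comm] at e1
  exfalso
  have e4 : (z ^ j - (z ^ j * z ^ j) * (z ^ j * z ^ j)) • (polar Q u (m u u) • u) = 0 := by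
    rw [sub_smul, e1, sub_self]
  have e5 := sub_eq_zero.1 ((smul_eq_zero.1 e4).resolve_right h2)
  have hz0 : z ≠ 0 := hz.ne_zero hl.ne_zero
  have e6 : z ^ (j * 3) = 1 := by
    have e7 : (z ^ j) ^ 3 * z ^ j = 1 * z ^ j := by
      rw [one_mul]
      nth_rw 3 [e5]
      ring
    rw [pow_mul]
    exact mul_right_cancel₀ (pow_ne_zero j hz0) e7
  exact hcop 3 Nat.prime_three (Ne.symm hl3) e6

end abs

/-! ### The twisted product -/

section tw

variable {F : Type} [Field F]

theorem dia_fG (s : F ≃+* F) (u w : V8 F) : dia (fG s) u w = omul (fP s.symm (oconj u)) (fP s (oconj w)) := rfl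

theorem fP_oconj (s : F ≃+* F) (u : V8 F) : fP s (oconj u) = oconj (fP s u) := by
  apply ext8 <;> first | rfl | exact map_neg s _

theorem norm_fP (s : F ≃+* F) (u : V8 F) : plusForm 4 F (fP s u) = s (plusForm 4 F u) := by
  rw [(isSS_fP s).form, one_mul]

/-- `dia (fG s)` is a twisted symmetric composition. -/
theorem tcd {s : F ≃+* F} (h3 : ∀ a, s (s (s a)) = a) : TC (plusForm 4 F) s (dia (fG s)) := by
  have hss : ∀ a, s.symm (s.symm a) = s a := fun a => by
    rw [RingEquiv.symm_apply_eq, RingEquiv.symm_apply_eq, h3]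
  have hs2 : ∀ a, s (s a) = s.symm a := fun a => by rw [RingEquiv.eq_symm_apply, h3]
  have f1 : ∀ x : V8 F, fP s.symm (fP s.symm x) = fP s x := fun x => funext fun i => hss _
  have f2 : ∀ x : V8 F, fP s (fP s x) = fP s.symm x := fun x => funext fun i => hs2 _
  have f3 : ∀ x : V8 F, fP s (fP s.symm x) = x := fun x => funext fun i => s.apply_symm_apply _
  have f4 : ∀ x : V8 F, fP s.symm (fP s x) = x := fun x => funext fun i => s.symm_apply_apply _
  have i1 := isSS_fP s
  have i2 := isSS_fP s.symm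
  have o1 : ∀ x y : V8 F, oconj (x + y) = oconj x + oconj y := fun x y => by coord8
  have o2 : ∀ (k : F) (x : V8 F), oconj (k • x) = k • oconj x := fun k x => by coord8
  refine ⟨fun a b c => ?_, fun a b c => ?_, fun k a b => ?_, fun k a b => ?_, fun a b => ?_, fun a b => ?_, h3⟩
  · rw [dia_fG, dia_fG, dia_fG, o1, i2.add, add_omul]
  · rw [dia_fG, dia_fG, dia_fG, o1, i1.add, omul_add]
  · rw [dia_fG, dia_fG, o2, i2.smul, smul_omul]
  · rw [dia_fG, dia_fG, o2, i1.smul, omul_smul]
  · simp only [dia_fG, oconj_omul, fP_omul, fP_oconj, oconj_oconj, f1, f4, omul_omul_oconj, norm_fP]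
  · simp only [dia_fG, oconj_omul, fP_omul, fP_oconj, oconj_oconj, f2, f3, oconj_omul_omul, norm_fP]

end tw

/-! ### Base change -/

section base

variable {F E : Type} [Field F] [Field E] (i : F →+* E)

/-- Base change of vectors. -/
def bc (x : V8 F) : V8 E := fun k => i (x k)

theorem bc_omul (x y : V8 F) : bc i (omul x y) = omul (bc i x) (bc i y) := by
  apply ext8 <;>
  · change i _ = _
    simp only [omul_l0, omul_l1, omul_l2, omul_l3, omul_r0, omul_r1, omul_r2, omul_r3, map_add,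
      map_sub, map_mul]
    rfl

theorem bc_oconj (x : V8 F) : bc i (oconj x) = oconj (bc i x) := by
  apply ext8 <;> first | rfl | exact map_neg i _

theorem bc_fP {s : F ≃+* F} {s' : E ≃+* E} (h : ∀ a, i (s a) = s' (i a)) (x : V8 F) :
    bc i (fP s x) = fP s' (bc i x) := funext fun _ => h _

theorem bc_dia {s : F ≃+* F} {s' : E ≃+* E} (h : ∀ a, i (s a) = s' (i a)) (u w : V8 F) :
    bc i (dia (fG s) u w) = dia (fG s') (bc i u) (bc i w) := by
  have h' : ∀ a, i (s.symm a) = s'.symm (i a) := fun a => by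
    rw [RingEquiv.eq_symm_apply, ← h, RingEquiv.apply_symm_apply]
  rw [dia_fG, dia_fG, bc_omul, bc_fP i h, bc_fP i h', bc_oconj, bc_oconj]

/-- Base change of linear maps. -/
noncomputable def bl (f : V8 F →ₗ[F] V8 F) : V8 E →ₗ[E] V8 E := Matrix.toLin' ((LinearMap.toMatrix' f).map i)

theorem bl_bc (f : V8 F →ₗ[F] V8 F) (x : V8 F) : bl i f (bc i x) = bc i (f x) := by
  have h1 : f x = (LinearMap.toMatrix' f).mulVec x := by
    rw [← Matrix.toLin'_apply, Matrix.toLin'_toMatrix']
  rw [h1, bl, Matrix.toLin'_apply]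
  funext k
  exact (RingHom.map_mulVec i _ x k).symm

/-- A subspace containing the base changes of all vectors. -/
theorem bc_span (W : Submodule E (V8 E)) (h : ∀ x, bc i x ∈ W) (v : V8 E) : v ∈ W := by
  have h1 : v = ∑ k, v k • bc i (Pi.single k (1 : F)) := by
    funext j
    rw [Finset.sum_apply, Finset.sum_eq_single j]
    · simp [bc]
    · intro k _ hk
      simp [bc, Pi.single_eq_of_ne' hk]
    · intro hj
      exact absurd (Finset.mem_univ j) hj
  rw [h1]
  exact W.sum_mem fun k _ => W.smul_mem _ (h _)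

theorem bl_pow {f : V8 F →ₗ[F] V8 F} {n : ℕ} (h : f ^ n = 1) : bl i f ^ n = 1 := by
  have h1 : ∀ (n : ℕ) (x : V8 F), (bl i f ^ n) (bc i x) = bc i ((f ^ n) x) := by
    intro n
    induction n with
    | zero => intro x; rfl
    | succ n ih =>
      intro x
      rw [pow_succ, pow_succ]
      change (bl i f ^ n) (bl i f (bc i x)) = bc i ((f ^ n) (f x))
      rw [bl_bc, ih]
  apply LinearMap.ext
  intro v
  exact bc_span i (LinearMap.eqLocus (bl i f ^ n) 1) (fun x => by
    change (bl i f ^ n) (bc i x) = bc i x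
    rw [h1, h]
    rfl) v

theorem bl_fix {f : V8 F →ₗ[F] V8 F} (h : ∀ v, f v = v → v = 0) (v : V8 E) (hv : bl i f v = v) : v = 0 := by
  by_contra hv0
  set! A := LinearMap.toMatrix' f - 1 with hA
  have h1 : (A.map i).mulVec v = 0 := by
    have e : A.map i = (LinearMap.toMatrix' f).map i - 1 := by
      rw [hA]
      ext a b
      simp [Matrix.one_apply, apply_ite i]
    rw [e, Matrix.sub_mulVec, Matrix.one_mulVec, sub_eq_zero]
    rw [bl, Matrix.toLin'_apply] at hv
    exact hv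
  have h2 : (A.map i).det = 0 := Matrix.exists_mulVec_eq_zero_iff.1 ⟨v, hv0, h1⟩
  have h3 : A.det = 0 := by
    have e : i A.det = (A.map i).det := RingHom.map_det i A
    rw [h2] at e
    exact (map_eq_zero i).1 e
  obtain ⟨x, hx0, hx⟩ := Matrix.exists_mulVec_eq_zero_iff.2 h3
  apply hx0
  apply h
  rw [hA, Matrix.sub_mulVec, Matrix.one_mulVec, sub_eq_zero, ← Matrix.toLin'_apply, Matrix.toLin'_toMatrix'] at hx
  exact hx

theorem bl_mul {s : F ≃+* F} {s' : E ≃+* E} (h : ∀ a, i (s a) = s' (i a)) (h3 : ∀ a, s' (s' (s' a)) = a)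
    {f : V8 F →ₗ[F] V8 F} (hf : ∀ u w, f (dia (fG s) u w) = dia (fG s) (f u) (f w)) (u w : V8 E) :
    bl i f (dia (fG s') u w) = dia (fG s') (bl i f u) (bl i f w) := by
  have hT := tcd h3
  -- left variable
  have h1 : ∀ (y : V8 F) (u : V8 E), bl i f (dia (fG s') u (bc i y)) = dia (fG s') (bl i f u) (bl i f (bc i y)) := by
    intro y
    let W : Submodule E (V8 E) :=
      { carrier := {u | bl i f (dia (fG s') u (bc i y)) = dia (fG s') (bl i f u) (bl i f (bc i y))}
        zero_mem' := by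
          change bl i f (dia (fG s') 0 (bc i y)) = dia (fG s') (bl i f 0) (bl i f (bc i y))
          rw [map_zero, hT.zero_left, hT.zero_left, map_zero]
        add_mem' := by
          intro a b ha hb
          change bl i f (dia (fG s') (a + b) (bc i y)) = dia (fG s') (bl i f (a + b)) (bl i f (bc i y))
          change bl i f (dia (fG s') a (bc i y)) = _ at ha
          change bl i f (dia (fG s') b (bc i y)) = _ at hb
          rw [map_add, hT.add_left, hT.add_left, map_add, ha, hb]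
        smul_mem' := by
          intro k a ha
          change bl i f (dia (fG s') (k • a) (bc i y)) = dia (fG s') (bl i f (k • a)) (bl i f (bc i y))
          change bl i f (dia (fG s') a (bc i y)) = _ at ha
          rw [map_smul, hT.smul_left, hT.smul_left, map_smul, ha] }
    apply bc_span i W
    intro x
    change bl i f (dia (fG s') (bc i x) (bc i y)) = dia (fG s') (bl i f (bc i x)) (bl i f (bc i y))
    rw [← bc_dia i h, bl_bc, bl_bc, bl_bc, ← bc_dia i h, hf]
  let W : Submodule E (V8 E) :=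
    { carrier := {w | bl i f (dia (fG s') u w) = dia (fG s') (bl i f u) (bl i f w)}
      zero_mem' := by
        change bl i f (dia (fG s') u 0) = dia (fG s') (bl i f u) (bl i f 0)
        rw [map_zero, hT.zero_right, hT.zero_right, map_zero]
      add_mem' := by
        intro a b ha hb
        change bl i f (dia (fG s') u (a + b)) = dia (fG s') (bl i f u) (bl i f (a + b))
        change bl i f (dia (fG s') u a) = _ at ha
        change bl i f (dia (fG s') u b) = _ at hb
        rw [map_add, hT.add_right, hT.add_right, map_add, ha, hb]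
      smul_mem' := by
        intro k a ha
        change bl i f (dia (fG s') u (k • a)) = dia (fG s') (bl i f u) (bl i f (k • a))
        change bl i f (dia (fG s') u a) = _ at ha
        rw [map_smul, hT.smul_right, hT.smul_right, map_smul, ha] }
  exact bc_span i W (fun x => h1 x u) w

end base

/-! ### No automorphism without fixed vectors -/

section fin

variable {F : Type} [Field F]

theorem nd8 (E : Type) [Field E] : Nondeg (plusForm 4 E) := fun x hx => polar_plusForm_nondeg 4 x hx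

theorem no_fix8 [Finite F] {s : F ≃+* F} (h3 : ∀ a, s (s (s a)) = a) {q0 : ℕ} (hq : Nat.card F = q0 ^ 3)
    {c : V8 F →ₗ[F] V8 F} (hc : ∀ u w, c (dia (fG s) u w) = dia (fG s) (c u) (c w)) {l : ℕ} (hl : l.Prime)
    (hl2 : l ≠ 2) (h1 : l ∣ q0 ^ 2 + 1) (hcl : c ^ l = 1) (hfix : ∀ v, c v = v → v = 0) : False := by
  obtain ⟨p, hp⟩ := CharP.exists F
  have hpp : p.Prime := CharP.char_is_prime F p
  have : Fact p.Prime := ⟨hpp⟩
  let _ := ZMod.algebra F p
  -- `|F| = p ^ n`, `n = 3 k`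
  set! n := finrank (ZMod p) F with hn
  have hcard : Nat.card F = p ^ n := by
    rw [Module.natCard_eq_pow_finrank (K := ZMod p) (V := F), Nat.card_zmod]
  obtain ⟨k, -, hk⟩ := (Nat.dvd_prime_pow hpp).1 (Dvd.intro_left (q0 ^ 2) (by rw [← pow_succ, ← hq, hcard]) :
    q0 ∣ p ^ n)
  have hn3 : n = k * 3 := by
    rw [hk, ← pow_mul] at hq
    exact Nat.pow_right_injective hpp.two_le (hcard.symm.trans hq)
  have hk0 : k ≠ 0 := by
    intro h0
    rw [h0, zero_mul] at hn3
    exact absurd hn3 (Module.finrank_pos (R := ZMod p) (M := F)).ne'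
  -- `s = x ^ (p ^ j)`
  let s₁ : F ≃ₐ[ZMod p] F := AlgEquiv.ofRingEquiv (f := s) (fun x => by
    have e : (s : F →+* F).comp (algebraMap (ZMod p) F) = algebraMap (ZMod p) F := Subsingleton.elim _ _
    exact congrArg (fun g : ZMod p →+* F => g x) e)
  obtain ⟨j, hj⟩ := FiniteField.exists_forall_apply_eq_pow (ZMod p) p F s₁
  rw [Nat.card_zmod] at hj
  have hsj : ∀ x, s x = x ^ p ^ j := hj
  have h3j : ∀ x : F, x ^ p ^ (3 * j) = x := by
    intro x
    have e := h3 x
    rw [hsj, hsj, hsj, ← pow_mul, ← pow_mul, ← pow_add, ← pow_add] at e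
    have e2 : 3 * j = j + (j + j) := by ring
    rw [e2]
    exact e
  have hnj : n ∣ 3 * j := by
    rw [hn, ← FiniteField.orderOf_frobeniusAlgEquivOfAlgebraic (ZMod p) F]
    apply orderOf_dvd_of_pow_eq_one
    apply AlgEquiv.ext
    intro x
    rw [AlgEquiv.coe_pow, FiniteField.coe_frobeniusAlgEquivOfAlgebraic_iterate, ZMod.card]
    exact h3j x
  obtain ⟨t, ht⟩ : k ∣ j := by
    rw [hn3, mul_comm 3 j] at hnj
    exact (Nat.mul_dvd_mul_iff_right (by norm_num)).1 hnj
  -- `l` is not the characteristic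
  have hlp : l ≠ p := by
    rintro rfl
    have e1 : l ∣ q0 ^ 2 := by
      rw [hk, ← pow_mul]
      exact dvd_pow_self l (mul_ne_zero hk0 two_ne_zero)
    exact hl.one_lt.ne' (Nat.dvd_one.1 ((Nat.dvd_add_right e1).1 h1))
  have h4 : l ∣ q0 ^ 4 - 1 := by
    have e : q0 ^ 4 - 1 = (q0 ^ 2 + 1) * (q0 ^ 2 - 1) := by
      rw [← Nat.sq_sub_sq, ← pow_mul]
    rw [e]
    exact Dvd.dvd.mul_right h1 _
  have hq0 : 0 < q0 := by
    rw [hk]
    exact pow_pos hpp.pos k
  -- the extension of degree four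
  let E := FiniteField.Extension F p 4
  have : CharP E p := charP_of_injective_algebraMap (algebraMap F E).injective p
  have : ExpChar E p := ExpChar.prime hpp
  let i : F →+* E := algebraMap F E
  have hE : Nat.card E = p ^ (n * 4) := by
    rw [FiniteField.natCard_extension, hcard, pow_mul]
  let s' : E ≃+* E := iterateFrobeniusEquiv E p (4 * j)
  have hs' : ∀ x, s' x = x ^ p ^ (4 * j) := fun x => rfl
  have hi : ∀ a, i (s a) = s' (i a) := by
    intro a
    rw [hs', ← map_pow, hsj]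
    have e : 4 * j = 3 * j + j := by ring
    rw [e, pow_add, pow_mul, h3j]
  have h3' : ∀ a, s' (s' (s' a)) = a := by
    intro a
    rw [hs', hs', hs', ← pow_mul, ← pow_mul, ← pow_add, ← pow_add]
    obtain ⟨r, hr⟩ := hnj
    have e : 4 * j + (4 * j + 4 * j) = (n * 4) * r := by
      calc 4 * j + (4 * j + 4 * j) = 4 * (3 * j) := by ring
        _ = 4 * (n * r) := by rw [hr]
        _ = _ := by ring
    rw [e, pow_mul, ← hE]
    have := Fintype.ofFinite E
    rw [Nat.card_eq_fintype_card]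
    exact FiniteField.pow_card_pow r a
  -- the root of unity
  have : Fact l.Prime := ⟨hl⟩
  have hlE : l ∣ Nat.card Eˣ := by
    have e0 : p ^ (k * 3 * 4) = (q0 ^ 4) ^ 3 := by
      rw [hk]
      ring
    rw [Nat.card_units, hE, hn3, e0]
    have e : q0 ^ 4 - 1 ∣ (q0 ^ 4) ^ 3 - 1 := by
      simpa only [_root_.one_pow] using Nat.sub_dvd_pow_sub_pow (q0 ^ 4) 1 3
    exact h4.trans e
  obtain ⟨z, hz⟩ := exists_prime_orderOf_dvd_card' l hlE
  have hzp : IsPrimitiveRoot (z : E) l := by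
    have e := IsPrimitiveRoot.orderOf z
    rw [hz] at e
    exact IsPrimitiveRoot.coe_units_iff.2 e
  have hz4 : (z : E) ^ q0 ^ 4 = z := by
    obtain ⟨r, hr⟩ := h4
    have e : q0 ^ 4 = l * r + 1 := by
      have := pow_pos hq0 4
      omega
    rw [e, pow_succ, pow_mul, hzp.pow_eq_one, one_pow, one_mul]
  have hsz : s' (z : E) = z := by
    rw [hs', ht]
    have e : p ^ (4 * (k * t)) = (q0 ^ 4) ^ t := by
      rw [hk]
      ring
    rw [e]
    clear e ht
    induction t with
    | zero => simp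
    | succ t ih => rw [pow_succ, pow_mul, ih, hz4]
  have hlK : (l : E) ≠ 0 := by
    intro h0
    have e := (CharP.cast_eq_zero_iff E p l).1 h0
    exact hlp ((Nat.prime_dvd_prime_iff_eq hpp hl).1 e).symm
  have key := no_fix (nd8 E) hl hl2 (ne_three h1) hlK (tcd h3') (bl_mul i hi h3' hc) (bl_pow i hcl) hzp hsz
    (bl_fix i hfix)
  have h5 := norm_one8 (F := E)
  rw [key (one8 E), QuadraticMap.map_zero] at h5
  exact zero_ne_one h5

theorem l_ne [Finite F] {q0 : ℕ} (hq : Nat.card F = q0 ^ 3) {l : ℕ} (h1 : l ∣ q0 ^ 2 + 1) : (l : F) ≠ 0 := by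
  intro h0
  have e1 : (q0 : F) ^ 3 = 0 := by
    have := Fintype.ofFinite F
    rw [← Nat.cast_pow, ← hq, Nat.card_eq_fintype_card]
    exact FiniteField.cast_card_eq_zero F
  have e2 : (q0 : F) = 0 := pow_eq_zero_iff (by norm_num) |>.1 e1
  obtain ⟨r, hr⟩ := h1
  have e3 := congrArg (Nat.cast (R := F)) hr
  push_cast at e3
  rw [e2, h0] at e3
  simp only [_root_.ne_eq, _root_.OfNat.ofNat_ne_zero, _root_.not_false_eq_true, _root_.zero_pow, _root_.zero_add, _root_.MulZeroClass.zero_mul, _root_.one_ne_zero] at e3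

theorem card_mod {α : Type*} [Fintype α] {l : ℕ} [Fact l.Prime] {g : α → α} (hg : g^[l] = id) (a₀ : α)
    (h : ∀ a, g a = a ↔ a = a₀) : Fintype.card α ≡ 1 [MOD l] := by
  classical
  let g' : Function.End α := g
  have hg' : g' ^ l ^ 1 = 1 := by
    rw [pow_one]
    have e : ∀ n : ℕ, (g' ^ n : Function.End α) = (g^[n] : α → α) := by
      intro n
      induction n with
      | zero => rfl
      | succ n ih => rw [pow_succ, ih, Function.iterate_succ]; rfl
    rw [e, hg]
    rfl
  have h3 := Equiv.Perm.card_fixedPoints_modEq (p := l) (n := 1) hg'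
  have h4 : Fintype.card (Function.fixedPoints g') = 1 := by
    rw [Fintype.card_eq_one_iff]
    refine ⟨⟨a₀, (h a₀).2 rfl⟩, ?_⟩
    rintro ⟨v, hv⟩
    exact Subtype.ext ((h v).1 hv)
  rw [h4] at h3
  exact h3

/-- invariant subspaces without fixed vectors -/
theorem four_dvd_finrank [Finite F] {q0 : ℕ} (hq : Nat.card F = q0 ^ 3) {l : ℕ} (hl : l.Prime)
    (hl2 : l ≠ 2) (h1 : l ∣ q0 ^ 2 + 1) {f : V8 F →ₗ[F] V8 F} (hf : f ^ l = 1) (W : Submodule F (V8 F))
    (hW : ∀ v ∈ W, f v ∈ W) (h0 : ∀ v ∈ W, f v = v → v = 0) : 4 ∣ finrank F W := by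
  have : Fact l.Prime := ⟨hl⟩
  let g : W →ₗ[F] W := f.restrict hW
  have hg : (g : W → W)^[l] = id := by
    have h2 : ∀ (n : ℕ) (v : W), (((g : W → W)^[n] v : W) : V8 F) = (f ^ n) v := by
      intro n
      induction n with
      | zero => intro v; rfl
      | succ n ih =>
        intro v
        rw [Function.iterate_succ_apply, ih, pow_succ]
        rfl
    funext v
    apply Subtype.ext
    rw [h2, hf]
    rfl
  have : Fintype W := Fintype.ofFinite W
  have h2 : Fintype.card W ≡ 1 [MOD l] := by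
    refine card_mod hg 0 (fun a => ⟨fun ha => ?_, fun ha => ?_⟩)
    · exact Subtype.ext ((h0 a a.2 (congrArg Subtype.val ha) :))
    · rw [ha, map_zero]
  have h3 : Fintype.card W = q0 ^ (3 * finrank F W) := by
    rw [← Nat.card_eq_fintype_card, Module.natCard_eq_pow_finrank (K := F) (V := W), hq, pow_mul]
  rw [h3, ← ZMod.natCast_eq_natCast_iff] at h2
  push_cast at h2
  have h4 := four_dvd hl hl2 h1 h2
  exact (Nat.Coprime.dvd_mul_left (by norm_num : Nat.Coprime 4 3)).1 h4

theorem ZN4 [Finite F] {s : F ≃+* F} (h3 : ∀ a, s (s (s a)) = a) (hne : s ≠ RingEquiv.refl F) {q0 : ℕ}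
    (hq : Nat.card F = q0 ^ 3) {c : V8 F ≃ₗ[F] V8 F} (hc : c ∈ AutD (fG s)) {l : ℕ} (hl : l.Prime)
    (hl2 : l ≠ 2) (h1 : l ∣ q0 ^ 2 + 1) (hcl : c ^ l = 1) : c = 1 := by
  by_contra hc1
  have _ := hne
  have hT := tcd h3
  have hlF := l_ne (F := F) hq h1
  set! f : V8 F →ₗ[F] V8 F := c.toLinearMap with hf
  have hfc : ∀ v, f v = c v := fun v => rfl
  have hfl : f ^ l = 1 := by
    have e : ∀ (n : ℕ) (v : V8 F), (f ^ n) v = (c ^ n : V8 F ≃ₗ[F] V8 F) v := by
      intro n
      induction n with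
      | zero => intro v; rfl
      | succ n ih =>
        intro v
        rw [pow_succ, pow_succ]
        exact ih (c v)
    apply LinearMap.ext
    intro v
    rw [e, hcl]
    rfl
  have hmul : ∀ u w, f (dia (fG s) u w) = dia (fG s) (f u) (f w) := hc.2
  have hO : ∀ v, plusForm 4 F (f v) = plusForm 4 F v := fun v => mem_O.1 (E_le_O hc.1) v
  have hOp : ∀ u v, polar (plusForm 4 F) (f u) (f v) = polar (plusForm 4 F) u v := by
    intro u v
    rw [polar, polar, ← map_add, hO, hO, hO]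
  -- a fixed vector
  obtain ⟨v₀, hv₀, hv₀0⟩ : ∃ v, f v = v ∧ v ≠ 0 := by
    by_contra hno
    push Not at hno
    exact no_fix8 h3 hq hmul hl hl2 h1 hfl hno
  set! K := LinearMap.ker (f - 1) with hK
  set! U := LinearMap.range (f - 1) with hU
  have memK : ∀ v, v ∈ K ↔ f v = v := by
    intro v
    rw [hK, LinearMap.mem_ker]
    exact sub_eq_zero
  have memU : ∀ v, v ∈ U ↔ ∃ y, f y - y = v := fun v => Iff.rfl
  have hUf : ∀ v ∈ U, f v ∈ U := by
    intro v hv
    obtain ⟨y, rfl⟩ := (memU v).1 hv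
    exact (memU _).2 ⟨f y, by rw [map_sub]⟩
  have hUK : ∀ v ∈ U, f v = v → v = 0 := by
    intro v hv hfv
    obtain ⟨y, hy⟩ := (memU v).1 hv
    have hy' : f y = y + v := by rw [← hy]; abel
    have e : ∀ n : ℕ, (f ^ n) y = y + (n : F) • v := by
      intro n
      induction n with
      | zero => simp only [_root_.pow_zero, _root_.Module.End.one_apply, _root_.Nat.cast_zero, _root_.zero_smul, _root_.add_zero]
      | succ n ih =>
        rw [pow_succ']
        change f ((f ^ n) y) = _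
        rw [ih, map_add, map_smul, hfv, hy', Nat.cast_succ, add_smul, one_smul]
        abel
    have e2 := e l
    rw [hfl] at e2
    have e3 : (l : F) • v = 0 := by
      have e4 : y + 0 = y + (l : F) • v := by rw [add_zero]; exact e2
      exact (add_left_cancel e4).symm
    exact (smul_eq_zero.1 e3).resolve_left hlF
  have hd : Disjoint U K := by
    rw [Submodule.disjoint_def]
    intro v hv hv'
    exact hUK v hv ((memK v).1 hv')
  have hdim := LinearMap.finrank_range_add_finrank_ker (f - 1)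
  rw [← hU, ← hK] at hdim
  have h8 : finrank F (V8 F) = 8 := by simp
  have htop : U ⊔ K = ⊤ := Submodule.eq_top_of_disjoint U K hdim.ge hd
  rw [h8] at hdim
  have hU0 : U ≠ ⊥ := by
    intro h0
    apply hc1
    apply LinearEquiv.ext
    intro v
    have e : f v - v ∈ U := (memU _).2 ⟨v, rfl⟩
    rw [h0, Submodule.mem_bot, sub_eq_zero] at e
    exact e
  have hK0 : K ≠ ⊥ := by
    intro h0
    have e : v₀ ∈ K := (memK _).2 hv₀
    rw [h0, Submodule.mem_bot] at e
    exact hv₀0 e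
  have hUpos : 0 < finrank F U := by
    rw [Nat.pos_iff_ne_zero, Ne, Submodule.finrank_eq_zero]
    exact hU0
  have hKpos : 0 < finrank F K := by
    rw [Nat.pos_iff_ne_zero, Ne, Submodule.finrank_eq_zero]
    exact hK0
  have hU4 := four_dvd_finrank hq hl hl2 h1 hfl U hUf hUK
  have hU4' : finrank F U = 4 := by omega
  have hK4 : finrank F K = 4 := by omega
  -- a nonsingular vector of `U`
  obtain ⟨x, hxU, hQx⟩ : ∃ x ∈ U, plusForm 4 F x ≠ 0 := by
    by_contra hno
    push Not at hno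
    obtain ⟨x, hx, hx0⟩ := (Submodule.ne_bot_iff U).1 hU0
    obtain ⟨y, hy⟩ := (nd8 F).exists_polar_ne hx0
    have hyt : y ∈ U ⊔ K := by rw [htop]; exact Submodule.mem_top
    obtain ⟨a, ha, b, hb, rfl⟩ := Submodule.mem_sup.1 hyt
    apply hy
    rw [polar_add_right]
    have e1 : polar (plusForm 4 F) x a = 0 := by
      rw [polar, hno _ (U.add_mem hx ha), hno _ hx, hno _ ha]
      ring
    have e2 : polar (plusForm 4 F) x b = 0 := by
      obtain ⟨y, rfl⟩ := (memU x).1 hx
      have e3 := hOp y b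
      rw [(memK b).1 hb] at e3
      rw [sub_eq_add_neg, polar_add_left, polar_neg_left, e3, add_neg_cancel]
    rw [e1, e2, add_zero]
  -- a singular fixed vector
  obtain ⟨w, hwK, hw0, hQw⟩ := exists_sing_mem (Q := plusForm 4 F) K (show 3 ≤ finrank F K by omega)
  have hfw : f w = w := (memK w).1 hwK
  have hLf : ∀ y, f (dia (fG s) w y) = dia (fG s) w (f y) := fun y => by rw [hmul, hfw]
  have hLU : ∀ y ∈ U, dia (fG s) w y ∈ U := by
    intro y hy
    obtain ⟨y', rfl⟩ := (memU y).1 hy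
    refine (memU _).2 ⟨dia (fG s) w y', ?_⟩
    rw [hLf, sub_eq_add_neg, sub_eq_add_neg, hT.add_right, hT.neg_right]
  let K' : Submodule F (V8 F) :=
    { carrier := {y | y ∈ U ∧ dia (fG s) w y = 0}
      zero_mem' := ⟨U.zero_mem, hT.zero_right w⟩
      add_mem' := by
        rintro a b ⟨ha, ha'⟩ ⟨hb, hb'⟩
        exact ⟨U.add_mem ha hb, by rw [hT.add_right, ha', hb', add_zero]⟩
      smul_mem' := by
        rintro k a ⟨ha, ha'⟩
        exact ⟨U.smul_mem k ha, by rw [hT.smul_right, ha', smul_zero]⟩ }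
  have memK' : ∀ y, y ∈ K' ↔ y ∈ U ∧ dia (fG s) w y = 0 := fun y => Iff.rfl
  have hK'U : K' ≤ U := fun y hy => hy.1
  have hK'4 := four_dvd_finrank hq hl hl2 h1 hfl K'
    (fun y hy => ⟨hUf y hy.1, by rw [← hLf, hy.2, map_zero]⟩) (fun y hy => hUK y hy.1)
  have hle : finrank F K' ≤ 4 := (Submodule.finrank_mono hK'U).trans hU4'.le
  rcases Nat.eq_zero_or_pos (finrank F K') with h0 | h0
  · -- `w ⋄ ·` is injective on `U`
    rw [Submodule.finrank_eq_zero] at h0
    let L : U → U := fun y => ⟨(dia (fG s) w y :), hLU y y.2⟩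
    have hinj : Function.Injective L := by
      intro a b hab
      have e : dia (fG s) w (a : V8 F) = dia (fG s) w b := congrArg Subtype.val hab
      have e2 : (a : V8 F) - b ∈ K' := by
        refine ⟨U.sub_mem a.2 b.2, ?_⟩
        rw [sub_eq_add_neg, hT.add_right, hT.neg_right, e, add_neg_cancel]
      rw [h0, Submodule.mem_bot, sub_eq_zero] at e2
      exact Subtype.ext e2
    obtain ⟨y, hy⟩ := (Finite.injective_iff_surjective.1 hinj) ⟨x, hxU⟩
    have hy' : dia (fG s) w (y : V8 F) = x := congrArg Subtype.val hy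
    have e1 := hT.left w (y : V8 F)
    rw [hQw, map_zero, zero_smul, hy'] at e1
    have e2 := hT.left x w
    rw [e1, hT.zero_left] at e2
    exact hw0 ((smul_eq_zero.1 e2.symm).resolve_left (fun e3 => hQx ((map_eq_zero s).1 e3)))
  · have e4 : finrank F K' = finrank F U := by omega
    have e5 : K' = U := Submodule.eq_of_le_of_finrank_eq hK'U e4
    have e6 : x ∈ K' := by rw [e5]; exact hxU
    have e2 := hT.right x w
    rw [e6.2, hT.zero_right] at e2
    exact hw0 ((smul_eq_zero.1 e2.symm).resolve_left (fun e3 => hQx ((map_eq_zero s.symm).1 e3)))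

end fin

end Cfsg.Agent.H65.RC
end

-- part: H195/RC/MixArith
section
/-!
# Arithmetic for the mixed case of type iii (S3510)
-/

set_option autoImplicit false

namespace Cfsg.Agent.H195.RC.MixArith

theorem prime_dvd_mul_or {l a b : ℕ} (hl : l.Prime) (h : l ∣ a * b) : l ∣ a ∨ l ∣ b := (Nat.Prime.dvd_mul hl).1 h

/-- sign `+` -/
theorem three_plus {m : ℕ} (hm : 1 ≤ m) (h3 : 3 ∣ (m + 1) ^ 3 - 1) :
    ¬ 3 ^ padicValNat 3 ((m + 1) ^ 3 - 1) ∣ (m + 1) ^ 2 - 1 := by
  have hf : Fact (Nat.Prime 3) := ⟨Nat.prime_three⟩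
  have e1 : (m + 1) ^ 3 - 1 = m * (m ^ 2 + 3 * m + 3) := by
    have : (m + 1) ^ 3 = m * (m ^ 2 + 3 * m + 3) + 1 := by ring
    omega
  have e2 : (m + 1) ^ 2 - 1 = m * (m + 2) := by
    have : (m + 1) ^ 2 = m * (m + 2) + 1 := by ring
    omega
  intro hd
  rw [e1] at hd h3
  rw [e2] at hd
  have h3m : 3 ∣ m := by
    rcases prime_dvd_mul_or Nat.prime_three h3 with h | h
    · exact h
    · have h4 : 3 ∣ m ^ 2 := by
        have : m ^ 2 = (m ^ 2 + 3 * m + 3) - 3 * (m + 1) := by
          have : 3 * (m + 1) ≤ m ^ 2 + 3 * m + 3 := by linarith only [_root_.sq_nonneg (↑m : ℤ)]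
          (clear * -; omega)
        rw [this]
        exact Nat.dvd_sub h (Dvd.intro _ rfl)
      exact Nat.prime_three.dvd_of_dvd_pow h4
  have hco : Nat.Coprime (3 ^ padicValNat 3 (m * (m ^ 2 + 3 * m + 3))) (m + 2) := by
    apply Nat.Coprime.pow_left
    rw [Nat.prime_three.coprime_iff_not_dvd]
    intro h
    omega
  have h5 := hco.dvd_of_dvd_mul_right hd
  have h6 : 3 ∣ m ^ 2 + 3 * m + 3 := by
    obtain ⟨t, ht⟩ := h3m
    exact ⟨3 * t ^ 2 + 3 * t + 1, by rw [ht]; ring⟩
  have h7 := Nat.mul_dvd_mul h5 h6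
  rw [← pow_succ] at h7
  exact pow_succ_padicValNat_not_dvd (by positivity) h7

/-- sign `-` -/
theorem three_minus {m : ℕ} (hm : 1 ≤ m) (h3 : 3 ∣ (m + 1) ^ 3 + 1) :
    ¬ 3 ^ padicValNat 3 ((m + 1) ^ 3 + 1) ∣ (m + 1) ^ 2 - 1 := by
  have hf : Fact (Nat.Prime 3) := ⟨Nat.prime_three⟩
  have e1 : (m + 1) ^ 3 + 1 = (m ^ 2 + m + 1) * (m + 2) := by ring
  have e2 : (m + 1) ^ 2 - 1 = m * (m + 2) := by
    have : (m + 1) ^ 2 = m * (m + 2) + 1 := by ring
    omega
  intro hd
  rw [e1] at hd h3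
  rw [e2] at hd
  have h3m : 3 ∣ m + 2 := by
    rcases prime_dvd_mul_or Nat.prime_three h3 with h | h
    · have hm3 : m % 3 = 0 ∨ m % 3 = 1 ∨ m % 3 = 2 := by (clear * -; omega)
      have hd3 : m = 3 * (m / 3) + m % 3 := (Nat.div_add_mod m 3).symm
      generalize m / 3 = t at hd3
      rcases hm3 with h' | h' | h'
      · exfalso
        rw [h', add_zero] at hd3
        have e : m ^ 2 + m + 1 = 3 * (3 * t ^ 2 + t) + 1 := by rw [hd3]; ring
        rw [e] at h
        omega
      · omega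
      · exfalso
        rw [h'] at hd3
        have e : m ^ 2 + m + 1 = 3 * (3 * t ^ 2 + 5 * t + 2) + 1 := by rw [hd3]; ring
        rw [e] at h
        omega
    · exact h
  have hco : Nat.Coprime (3 ^ padicValNat 3 ((m ^ 2 + m + 1) * (m + 2))) m := by
    apply Nat.Coprime.pow_left
    rw [Nat.prime_three.coprime_iff_not_dvd]
    intro h
    omega
  rw [mul_comm m] at hd
  have h5 := hco.dvd_of_dvd_mul_right hd
  have h6 : 3 ∣ m ^ 2 + m + 1 := by
    obtain ⟨t, ht⟩ := h3m
    have hmt : 1 ≤ t := by omega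
    obtain ⟨t, rfl⟩ := Nat.exists_eq_add_of_le hmt
    have : m = 3 * t + 1 := by omega
    exact ⟨3 * t ^ 2 + 3 * t + 1, by rw [this]; ring⟩
  have h7 := Nat.mul_dvd_mul h5 h6
  rw [← pow_succ, mul_comm (m + 2)] at h7
  exact pow_succ_padicValNat_not_dvd (by positivity) h7

theorem ndvd_plus {l m : ℕ} (hl : l.Prime) (hl3 : l ≠ 3) (h : l ∣ (m + 1) ^ 2 + (m + 1) + 1) :
    ¬ l ∣ (m + 1) ^ 2 - 1 := by
  have e2 : (m + 1) ^ 2 - 1 = m * (m + 2) := by
    have : (m + 1) ^ 2 = m * (m + 2) + 1 := by ring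
    omega
  rw [e2]
  intro hd
  have e3 : (m + 1) ^ 2 + (m + 1) + 1 = m * (m + 3) + 3 := by ring
  have e4 : (m + 1) ^ 2 + (m + 1) + 1 = (m + 2) * (m + 1) + 1 := by ring
  rcases prime_dvd_mul_or hl hd with h1 | h1
  · rw [e3] at h
    have h2 := (Nat.dvd_add_right (h1.mul_right (m + 3))).1 h
    exact hl3 ((Nat.prime_dvd_prime_iff_eq hl Nat.prime_three).1 h2)
  · rw [e4] at h
    have h2 := (Nat.dvd_add_right (h1.mul_right (m + 1))).1 h
    exact hl.one_lt.ne' (Nat.dvd_one.1 h2)

theorem sub_eq (m : ℕ) : (m + 1) ^ 2 - (m + 1) + 1 = m ^ 2 + m + 1 := by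
  have : (m + 1) ^ 2 = (m ^ 2 + m) + (m + 1) := by ring
  omega

theorem ndvd_minus {l m : ℕ} (hl : l.Prime) (hl3 : l ≠ 3) (h : l ∣ (m + 1) ^ 2 - (m + 1) + 1) :
    ¬ l ∣ (m + 1) ^ 2 - 1 := by
  have e2 : (m + 1) ^ 2 - 1 = m * (m + 2) := by
    have : (m + 1) ^ 2 = m * (m + 2) + 1 := by ring
    omega
  rw [e2]
  rw [sub_eq] at h
  intro hd
  rcases prime_dvd_mul_or hl hd with h1 | h1
  · have e3 : m ^ 2 + m + 1 = m * (m + 1) + 1 := by ring
    rw [e3] at h
    have h2 := (Nat.dvd_add_right (h1.mul_right (m + 1))).1 h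
    exact hl.one_lt.ne' (Nat.dvd_one.1 h2)
  · have e3 : m ^ 2 + m + 1 + (m + 2) = (m + 2) * m + 3 := by ring
    have h4 : l ∣ m ^ 2 + m + 1 + (m + 2) := Nat.dvd_add h h1
    rw [e3] at h4
    have h2 := (Nat.dvd_add_right (h1.mul_right m)).1 h4
    exact hl3 ((Nat.prime_dvd_prime_iff_eq hl Nat.prime_three).1 h2)

theorem dvd_cube_plus {l m : ℕ} (h : l ∣ (m + 1) ^ 2 + (m + 1) + 1) : l ∣ (m + 1) ^ 3 - 1 := by
  have e1 : (m + 1) ^ 3 - 1 = ((m + 1) ^ 2 + (m + 1) + 1) * m := by
    have : (m + 1) ^ 3 = ((m + 1) ^ 2 + (m + 1) + 1) * m + 1 := by ring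
    omega
  rw [e1]
  exact h.mul_right _

theorem dvd_cube_minus {l m : ℕ} (h : l ∣ (m + 1) ^ 2 - (m + 1) + 1) : l ∣ (m + 1) ^ 3 + 1 := by
  rw [sub_eq] at h
  have e1 : (m + 1) ^ 3 + 1 = (m ^ 2 + m + 1) * (m + 2) := by ring
  rw [e1]
  exact h.mul_right _

/-- an odd prime divisor -/
theorem exists_plus (m : ℕ) : ∃ l, l.Prime ∧ l ∣ (m + 1) ^ 2 + (m + 1) + 1 :=
  Nat.exists_prime_and_dvd (by linarith only [_root_.sq_nonneg (↑m + 1 : ℤ), _root_.Nat.cast_nonneg (α := ℤ) (m)])

theorem exists_minus {m : ℕ} (hm : 1 ≤ m) : ∃ l, l.Prime ∧ l ∣ (m + 1) ^ 2 - (m + 1) + 1 := by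
  rw [sub_eq]
  exact Nat.exists_prime_and_dvd (by linarith only [hm, _root_.sq_nonneg (↑m : ℤ)])

theorem odd_plus (m : ℕ) : Odd ((m + 1) ^ 2 + (m + 1) + 1) := by
  have : (m + 1) ^ 2 + (m + 1) + 1 = (m + 1) * (m + 2) + 1 := by ring
  rw [this]
  exact (Nat.even_mul_succ_self (m + 1)).add_one

theorem odd_minus (m : ℕ) : Odd ((m + 1) ^ 2 - (m + 1) + 1) := by
  rw [sub_eq]
  have : m ^ 2 + m + 1 = m * (m + 1) + 1 := by ring
  rw [this]
  exact (Nat.even_mul_succ_self m).add_one

theorem ne_two_of_odd {l n : ℕ} (hn : Odd n) (h : l ∣ n) : l ≠ 2 := by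
  rintro rfl
  exact (Nat.not_even_iff_odd.2 hn) (even_iff_two_dvd.2 h)

/-- an odd prime divisor of `q0² + 1` -/
theorem exists_four {q0 : ℕ} (hq : 2 ≤ q0) : ∃ l, l.Prime ∧ l ≠ 2 ∧ l ∣ q0 ^ 2 + 1 := by
  rcases Nat.even_or_odd q0 with he | ho
  · obtain ⟨l, hl, hd⟩ := Nat.exists_prime_and_dvd (n := q0 ^ 2 + 1) (by nlinarith)
    exact ⟨l, hl, ne_two_of_odd ((he.pow_of_ne_zero (by norm_num)).add_one) hd, hd⟩
  · obtain ⟨t, ht⟩ := ho
    have e1 : q0 ^ 2 + 1 = 2 * (2 * (t ^ 2 + t) + 1) := by rw [ht]; ring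
    obtain ⟨l, hl, hd⟩ := Nat.exists_prime_and_dvd (n := 2 * (t ^ 2 + t) + 1) (by
      have : 1 ≤ t := by omega
      linarith only [this, _root_.sq_nonneg (↑t : ℤ)])
    refine ⟨l, hl, ne_two_of_odd ⟨t ^ 2 + t, rfl⟩ hd, ?_⟩
    rw [e1]
    exact hd.mul_left 2

theorem four_dvd {l q0 : ℕ} (h : l ∣ q0 ^ 2 + 1) : l ∣ (q0 ^ 3) ^ 2 + 1 := by
  have h1 : (((q0 ^ 2 + 1 : ℕ) : ℤ)) ∣ (((q0 ^ 3) ^ 2 + 1 : ℕ) : ℤ) := by
    push_cast
    exact ⟨(q0 : ℤ) ^ 4 - q0 ^ 2 + 1, by ring⟩
  exact h.trans (Int.natCast_dvd_natCast.1 h1)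

theorem sq_sub_one {n N : ℕ} (h : n ∣ N - 1 ∨ n ∣ N + 1) (hN : 1 ≤ N) : n ∣ N ^ 2 - 1 := by
  obtain ⟨k, rfl⟩ := Nat.exists_eq_add_of_le hN
  have e1 : (1 + k) ^ 2 - 1 = k * (k + 2) := by
    have : (1 + k) ^ 2 = k * (k + 2) + 1 := by ring
    omega
  rw [e1]
  rcases h with h | h
  · have : 1 + k - 1 = k := by omega
    rw [this] at h
    exact h.mul_right _
  · have : 1 + k + 1 = k + 2 := by omega
    rw [this] at h
    exact h.mul_left _

end Cfsg.Agent.H195.RC.MixArith
end

-- part: H195/RC/MixFrame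
section
/-!
# S3510, triality of type iii, the mixed case: the frame (helper195)

`Lin1 g`: the conclusion of `mix_lin`.  `frame`: under `Lin1 g` some member of the family has an order dividing
`q0² + q0 + 1` or `q0² - q0 + 1`.
-/

set_option autoImplicit false
open Cfsg

namespace Cfsg.Agent.H195.RC.Mix

open Module QuadraticMap MulAction
open Cfsg.Agent.LieClassical.OrthCore Cfsg.Agent.LieClassical.OrthTrans
open Cfsg.Agent.LieClassical.OrthSimple Cfsg.Agent.ClassicalGeometry.OrthSemi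
open Cfsg.Agent.ClassicalGeometry.OrthAut1 Cfsg.Agent.H106.RC Cfsg.Agent.H93.RC Cfsg.Agent.H566.RC
open Cfsg.Agent.LieClassical.QuadForms Cfsg.Agent.ClassicalGeometry.TrialityOct
open Cfsg.Agent.ClassicalGeometry.Triality Cfsg.Agent.ClassicalGeometry.TrialitySpaces
open Cfsg.Agent.H198.TriBase Cfsg.Agent.H198.TriAut Cfsg.Agent.H206.Balance Cfsg.Agent.H198.TriDia
open Cfsg.Agent.H198.TwComp Cfsg.Agent.H198 Cfsg.Agent.H864.RC

variable {F : Type} [Field F]

/-- the conclusion of `mix_lin`, for the whole family -/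
def Lin1 {ι : Type} (g : ι → (V8 F ≃ₗ[F] V8 F)) : Prop :=
  (∃ n0, (n0 = Nat.card F - 1 ∨ n0 = Nat.card F + 1) ∧ ∀ n, n ∣ n0 → Odd n → ∃ c ∈ E (plusForm 4 F),
    ∃ (τ : F) (W : Submodule F (V8 F)), W ≠ ⊥ ∧ orderOf c = n ∧ (∀ i, c * g i = g i * c) ∧
      (∀ v ∈ W, c v ∈ W) ∧ (∀ v ∈ W, c (c v) + v = τ • c v) ∧
      (∀ v ∈ W, (∀ w ∈ W, polar (plusForm 4 F) v w = 0) → v = 0) ∧
      (∀ v, (∀ w ∈ W, polar (plusForm 4 F) v w = 0) → c v = v)) ∨
  (∀ l, l.Prime → l ≠ 2 → l ∣ Nat.card F ^ 2 + 1 → ∃ c ∈ E (plusForm 4 F), c ^ l = 1 ∧ c ≠ 1 ∧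
    ∀ i, c * g i = g i * c)

theorem polar_E {d : V8 F ≃ₗ[F] V8 F} (hd : d ∈ E (plusForm 4 F)) (v w : V8 F) :
    polar (plusForm 4 F) (d v) (d w) = polar (plusForm 4 F) v w := by
  have h : ∀ x, plusForm 4 F (d x) = plusForm 4 F x := fun x => E_le_O hd x
  rw [QuadraticMap.polar, QuadraticMap.polar, ← map_add, h, h, h]

section env
variable {G Ω ι : Type} [Group G] [MulAction G Ω] {N : Subgroup G} {hG : _root_.Cfsg.Agent.LieClassical.OrthTrans.Good (plusForm 4 F)}
  {κ : P8 F →* G} {s : F ≃+* F} {x₁ : G} {x : ι → G} {r : ι → ℕ} {g : ι → (V8 F ≃ₗ[F] V8 F)}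

/-- an `l`-element of `E Q` commuting with the family, `l` no `r i`, has a conjugate in `AutD` -/
theorem exists_conj [Finite F] [Finite G] [Finite ι] (h : T3 hG N κ s Ω x₁ x r g) (hN : NoN Ω N) {l k : ℕ}
    (hl : l.Prime) (hl2 : l ≠ 2) (hlr : ∀ i, r i ≠ l) {c : V8 F ≃ₗ[F] V8 F} (hc : c ∈ E (plusForm 4 F))
    (hcl : c ^ (l ^ k) = 1) (hcg : ∀ i, c * g i = g i * c) :
    ∃ d ∈ E (plusForm 4 F), d * c * d⁻¹ ∈ AutD (fG s) := by
  have hA : IsPGroup l (Subgroup.zpowers c) := by
    rintro ⟨a, ha⟩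
    obtain ⟨j, rfl⟩ := Subgroup.mem_zpowers_iff.1 ha
    refine ⟨k, Subtype.ext ?_⟩
    show (c ^ j) ^ (l ^ k) = 1
    rw [← zpow_natCast, ← zpow_mul, mul_comm, zpow_mul, zpow_natCast, hcl, one_zpow]
  obtain ⟨d, hd, hda⟩ := h.kl_lin hN hl (h.ir hN hl hlr) (fun h0 => absurd h0 hl2) (Subgroup.zpowers c) hA
    (by rw [Subgroup.zpowers_le]; exact hc)
    (by
      intro a ha i
      obtain ⟨j, rfl⟩ := Subgroup.mem_zpowers_iff.1 ha
      have : Commute (c ^ j) (g i) := Commute.zpow_left (hcg i) j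
      exact this)
  exact ⟨d, hd, hda c (Subgroup.mem_zpowers c)⟩

theorem dead_zz [Finite F] [Finite G] [Finite ι] (h : T3 hG N κ s Ω x₁ x r g) (hN : NoN Ω N) {q0 : ℕ}
    (hq : Nat.card F = q0 ^ 3) {l k : ℕ} (hl : l.Prime) (hl2 : l ≠ 2) (hlr : ∀ i, r i ≠ l)
    (h1 : l ^ k ∣ Nat.card F ^ 2 - 1) (h2 : ¬ l ^ k ∣ q0 ^ 2 - 1) {c : V8 F ≃ₗ[F] V8 F}
    (hc : c ∈ E (plusForm 4 F)) (hn : orderOf c = l ^ k) (hcg : ∀ i, c * g i = g i * c)
    {W : Submodule F (V8 F)} {τ : F} (hcW : ∀ v ∈ W, c v ∈ W) (hτ : ∀ v ∈ W, c (c v) + v = τ • c v)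
    (hW : ∀ v ∈ W, (∀ w ∈ W, polar (plusForm 4 F) v w = 0) → v = 0)
    (hWp : ∀ v, (∀ w ∈ W, polar (plusForm 4 F) v w = 0) → c v = v) : False := by
  obtain ⟨d, hd, hda⟩ := exists_conj h hN hl hl2 hlr hc (by rw [← hn]; exact pow_orderOf_eq_one c) hcg
  have hpol := polar_E hd
  have hcd : ∀ v, (d * c * d⁻¹) (d v) = d (c v) := by
    intro v
    show d (c (d⁻¹ (d v))) = d (c v)
    congr 2
    exact d.symm_apply_apply v
  have hmem : ∀ v, v ∈ W.map (d : V8 F →ₗ[F] V8 F) ↔ ∃ w ∈ W, d w = v := fun v => Iff.rfl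
  refine Cfsg.Agent.H393.TZ.zzW h.cube h.ne hq hda hl hl2 (k := k) ?_ h1 h2 (W := W.map (d : V8 F →ₗ[F] V8 F))
    (τ := τ) ?_ ?_ ?_ ?_
  · rw [← hn]
    exact MulEquiv.orderOf_eq (MulAut.conj d) c
  · rintro _ ⟨w, hw, rfl⟩
    exact ⟨c w, hcW w hw, (hcd w).symm⟩
  · rintro _ ⟨w, hw, rfl⟩
    show (d * c * d⁻¹) ((d * c * d⁻¹) (d w)) + d w = τ • (d * c * d⁻¹) (d w)
    rw [hcd, hcd, ← map_smul, ← hτ w hw, map_add]
  · rintro _ ⟨w, hw, rfl⟩ hp
    have : w = 0 := hW w hw fun w' hw' => by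
      have := hp (d w') ⟨w', hw', rfl⟩
      rw [← hpol]
      exact this
    rw [this, map_zero]
  · intro v hv
    have e1 : v = d (d⁻¹ v) := (d.apply_symm_apply v).symm
    rw [e1, hcd, hWp]
    intro w hw
    rw [← hpol, ← e1]
    exact hv _ ⟨w, hw, rfl⟩

/-- **the frame** -/
theorem frame [Finite F] [Finite G] [Finite ι] (h : T3 hG N κ s Ω x₁ x r g) (hN : NoN Ω N) {q0 : ℕ}
    (hq : Nat.card F = q0 ^ 3) (hL : Lin1 g) :
    ∃ i, r i ∣ q0 ^ 2 + q0 + 1 ∨ r i ∣ q0 ^ 2 - q0 + 1 := by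
  have hcard : 1 < Nat.card F := Finite.one_lt_card
  have hq2 : 2 ≤ q0 := by
    by_contra hcon
    have : q0 = 0 ∨ q0 = 1 := by omega
    rcases this with h0 | h0 <;> rw [hq, h0] at hcard <;> norm_num at hcard
  obtain ⟨m, hm⟩ := Nat.exists_eq_add_of_le' (show 1 ≤ q0 by omega)
  have hm1 : 1 ≤ m := by omega
  rcases hL with ⟨n0, hn0, hL⟩ | hL
  · by_cases h3 : 3 ∣ n0
    · exfalso
      have hn1 : n0 ≠ 0 := by rcases hn0 with h0 | h0 <;> omega
      obtain ⟨c, hc, τ, W, -, hn, hcg, hcW, hτ, hW, hWp⟩ := hL (3 ^ padicValNat 3 n0) pow_padicValNat_dvd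
        (Odd.pow (by decide))
      refine dead_zz h hN hq Nat.prime_three (by norm_num) h.three (k := padicValNat 3 n0)
        ?_ ?_ hc hn hcg hcW hτ hW hWp
      · apply MixArith.sq_sub_one _ hcard.le
        rcases hn0 with h0 | h0
        · left; rw [← h0]; exact pow_padicValNat_dvd
        · right; rw [← h0]; exact pow_padicValNat_dvd
      · rcases hn0 with h0 | h0
        · rw [hq, hm] at h0
          rw [h0] at h3 ⊢
          rw [hm]
          exact MixArith.three_plus hm1 h3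
        · rw [hq, hm] at h0
          rw [h0] at h3 ⊢
          rw [hm]
          exact MixArith.three_minus hm1 h3
    · by_contra hcon
      push Not at hcon
      have key : ∀ l : ℕ, l.Prime → l ≠ 2 → l ∣ n0 → ¬ l ∣ q0 ^ 2 - 1 → (∀ i, r i ≠ l) → False := by
        intro l hl hl2 hd h2 hlr
        obtain ⟨c, hc, τ, W, -, hn, hcg, hcW, hτ, hW, hWp⟩ := hL l hd (hl.odd_of_ne_two hl2)
        refine dead_zz h hN hq hl hl2 hlr (k := 1) ?_ ?_ hc (by rw [pow_one]; exact hn) hcg hcW hτ hW hWp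
        · rw [pow_one]
          apply MixArith.sq_sub_one _ hcard.le
          rcases hn0 with h0 | h0
          · left; rw [← h0]; exact hd
          · right; rw [← h0]; exact hd
        · rw [pow_one]; exact h2
      rcases hn0 with h0 | h0
      · obtain ⟨l, hl, hd⟩ := MixArith.exists_plus m
        have hd' : l ∣ n0 := by
          rw [h0, hq, hm]; exact MixArith.dvd_cube_plus hd
        have hl3 : l ≠ 3 := by
          rintro rfl
          exact h3 hd'
        refine key l hl (MixArith.ne_two_of_odd (MixArith.odd_plus m) hd) hd' ?_ ?_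
        · rw [hm]; exact MixArith.ndvd_plus hl hl3 hd
        · intro i hi
          apply (hcon i).1
          rw [hi, hm]
          exact hd
      · obtain ⟨l, hl, hd⟩ := MixArith.exists_minus hm1
        have hd' : l ∣ n0 := by
          rw [h0, hq, hm]; exact MixArith.dvd_cube_minus hd
        have hl3 : l ≠ 3 := by
          rintro rfl
          exact h3 hd'
        refine key l hl (MixArith.ne_two_of_odd (MixArith.odd_minus m) hd) hd' ?_ ?_
        · rw [hm]; exact MixArith.ndvd_minus hl hl3 hd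
        · intro i hi
          apply (hcon i).2
          rw [hi, hm]
          exact hd
  · exfalso
    obtain ⟨l, hl, hl2, hd⟩ := MixArith.exists_four hq2
    by_cases hlr : ∃ i, r i = l
    · obtain ⟨i, hi⟩ := hlr
      exact h.ne1 i (Cfsg.Agent.H65.RC.ZN4 h.cube h.ne hq (h.mem i) hl hl2 hd (by rw [← hi]; exact h.pow i))
    · push Not at hlr
      obtain ⟨c, hc, hcl, hc1, hcg⟩ := hL l hl hl2 (by rw [hq]; exact MixArith.four_dvd hd)
      obtain ⟨d, hdE, hda⟩ := exists_conj h hN hl hl2 hlr hc (k := 1) (by rw [pow_one]; exact hcl) hcg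
      have h5 : (d * c * d⁻¹) ^ l = 1 := by rw [conj_pow, hcl, mul_one, mul_inv_cancel]
      have h6 := Cfsg.Agent.H65.RC.ZN4 h.cube h.ne hq hda hl hl2 hd h5
      apply hc1
      rw [mul_inv_eq_one] at h6
      exact mul_eq_left.1 h6

end env

end Cfsg.Agent.H195.RC.Mix
end

private theorem dce_f1495d8ee841 : _root_.True := by
  try have : _root_.True := by simp only [_root_.Cfsg.Agent.H65.RC.bl.eq_1]
  try have : _root_.True := by simp only [_root_.Cfsg.Agent.H65.RC.bc.eq_1]
  exact _root_.True.intro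
end

-- part: H520/RC/BoxG
section
prune_inst 0xd1702104550000000000200440000000380000000000080020000e000b08a00284420800088001001820000000040000021000000040000004000000080405010000140000400000000000000000000000000000000000000000000000010000200000000
set_option linter.all false
open scoped Cfsg.Agent.FastGrp

-- part: H520/RC/BoxGPol
section
/-!
# S3510, triality type iii, box G: polynomials (helper520)

* `exists_frob` : elements of `F[T]`, `T ^ n = 1`, satisfy `y ^ N = y`;
* `exists_h` : elements of prime order of `F[X] / (f)`;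
* `galois` : a root `θ` of `f` with `f (θ⁻¹) = 0`, `θ ≠ θ⁻¹`.
-/

set_option autoImplicit false
set_option linter.unusedSectionVars false

namespace Cfsg.Agent.H520.RC

open Polynomial Module

section frob

variable {F : Type*} [Field F] [Finite F]

theorem coprime_card {n : ℕ} (hn : (n : F) ≠ 0) : Nat.Coprime (Nat.card F) n := by
  have := Fintype.ofFinite F
  obtain ⟨p, hp⟩ := CharP.exists F
  obtain ⟨k, hpp, hk⟩ := FiniteField.card F p
  rw [Nat.card_eq_fintype_card, hk]
  apply Nat.Coprime.pow_left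
  rw [Nat.Prime.coprime_iff_not_dvd hpp]
  intro h
  exact hn ((CharP.cast_eq_zero_iff F p n).2 h)

theorem pow_card_iter {A : Type*} [Ring A] [Algebra F A] (T : A) (f : F[X]) (m : ℕ) :
    aeval T f ^ (Nat.card F ^ m) = aeval (T ^ (Nat.card F ^ m)) f := by
  have := Fintype.ofFinite F
  have h1 : ∀ (T : A), aeval T f ^ Nat.card F = aeval (T ^ Nat.card F) f := by
    intro T
    rw [← map_pow, Nat.card_eq_fintype_card, ← FiniteField.expand_card, expand_aeval]
  induction m generalizing T with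
  | zero => rw [pow_zero, pow_one, pow_one]
  | succ m ih => rw [pow_succ, pow_mul, ih, h1, ← pow_mul]

/-- elements of `F[T]`, `T ^ n = 1`, satisfy `y ^ N = y` -/
theorem exists_frob {A : Type*} [Ring A] [Algebra F A] {T : A} {n : ℕ} (hT : T ^ n = 1) (hn : (n : F) ≠ 0) :
    ∃ N : ℕ, 2 ≤ N ∧ ∀ f : F[X], aeval T f ^ N = aeval T f := by
  have h1 := Nat.ModEq.pow_totient (coprime_card hn)
  have hn0 : 0 < n := Nat.pos_of_ne_zero (fun h => hn (by rw [h, Nat.cast_zero]))
  have hφ : 0 < n.totient := Nat.totient_pos.2 hn0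
  have hq : 1 < Nat.card F := Finite.one_lt_card
  have h2 : 1 < Nat.card F ^ n.totient := Nat.one_lt_pow (by omega) hq
  refine ⟨Nat.card F ^ n.totient, h2, fun f => ?_⟩
  rw [pow_card_iter]
  suffices h : T ^ (Nat.card F ^ n.totient) = T by rw [h]
  rw [← Nat.div_add_mod (Nat.card F ^ n.totient) n, pow_add, pow_mul, hT, one_pow, one_mul]
  have h3 : Nat.card F ^ n.totient % n = 1 % n := h1
  rw [h3]
  rcases Nat.lt_or_ge 1 n with h4 | h4
  · rw [Nat.mod_eq_of_lt h4, pow_one]
  · have h5 : n = 1 := by omega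
    subst h5
    rw [Nat.mod_self, pow_zero]
    rw [pow_one] at hT
    exact hT.symm

end frob

section field

variable {F : Type*} [Field F] [Finite F]

theorem card_adj {f : F[X]} (hf : f ≠ 0) : Nat.card (AdjoinRoot f) = Nat.card F ^ f.natDegree := by
  have h1 := (AdjoinRoot.powerBasis hf).finrank
  rw [AdjoinRoot.powerBasis_dim] at h1
  have : Module.Finite F (AdjoinRoot f) := (AdjoinRoot.powerBasis hf).finite
  rw [Module.natCard_eq_pow_finrank (K := F), h1]

/-- elements of prime order -/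
theorem exists_h {f : F[X]} (hf : Irreducible f) {l : ℕ} (hl : l.Prime) (h : l ∣ Nat.card F ^ f.natDegree - 1) :
    ∃ h : F[X], f ∣ h ^ l - 1 ∧ ¬ f ∣ h - 1 := by
  have : Fact (Irreducible f) := ⟨hf⟩
  have : Fact l.Prime := ⟨hl⟩
  have hc := card_adj hf.ne_zero
  have hfin : Finite (AdjoinRoot f) := Nat.finite_of_card_ne_zero (by
    rw [hc]
    exact pow_ne_zero _ Nat.card_pos.ne')
  have := Fintype.ofFinite (AdjoinRoot f)
  have h1 : l ∣ Nat.card (AdjoinRoot f)ˣ := by
    rw [Nat.card_units, hc]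
    exact h
  obtain ⟨y, hy⟩ := exists_prime_orderOf_dvd_card' l h1
  obtain ⟨h, hh⟩ := AdjoinRoot.mk_surjective (y : AdjoinRoot f)
  refine ⟨h, ?_, ?_⟩
  · rw [← AdjoinRoot.mk_eq_zero, map_sub, map_pow, map_one, hh, ← Units.val_pow_eq_pow_val, ← hy,
      pow_orderOf_eq_one, Units.val_one, sub_self]
  · rw [← AdjoinRoot.mk_eq_zero, map_sub, map_one, hh]
    intro h0
    have h2 : y = 1 := Units.ext (sub_eq_zero.1 h0)
    rw [h2, orderOf_one] at hy
    exact hl.one_lt.ne hy

/-- the automorphism `θ ↦ θ⁻¹` of `F[X] / (f)` -/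
theorem galois {f g : F[X]} (hf : Irreducible f) (hg : f ∣ X * g - 1) (hfg : f ∣ f.comp g) (h2 : ¬ f ∣ X ^ 2 - 1) :
    ∃ k : ℕ, f.natDegree = 2 * k ∧ ∀ h : F[X], f ∣ h.comp g - h ^ (Nat.card F ^ k) := by
  have : Fact (Irreducible f) := ⟨hf⟩
  have hc := card_adj hf.ne_zero
  have hfin : Finite (AdjoinRoot f) := Nat.finite_of_card_ne_zero (by
    rw [hc]
    exact pow_ne_zero _ Nat.card_pos.ne')
  have := Fintype.ofFinite F
  have hfd : FiniteDimensional F (AdjoinRoot f) := Module.Finite.of_finite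
  have hrank : Module.finrank F (AdjoinRoot f) = f.natDegree := by
    rw [(AdjoinRoot.powerBasis hf.ne_zero).finrank, AdjoinRoot.powerBasis_dim]
  set θ : AdjoinRoot f := AdjoinRoot.root f with hθ
  set θ' : AdjoinRoot f := AdjoinRoot.mk f g with hθ'
  have e1 : θ * θ' = 1 := by
    have h3 := AdjoinRoot.mk_eq_zero.2 hg
    rw [map_sub, map_mul, AdjoinRoot.mk_X, map_one, sub_eq_zero] at h3
    exact h3
  have e2 : aeval θ' f = 0 := by
    have h3 := AdjoinRoot.mk_eq_zero.2 hfg
    rw [← AdjoinRoot.aeval_eq, aeval_comp] at h3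
    rwa [AdjoinRoot.aeval_eq] at h3
  let σ : AdjoinRoot f →ₐ[F] AdjoinRoot f := AdjoinRoot.liftAlgHom f (Algebra.ofId F _) θ' e2
  have hσθ : σ θ = θ' := AdjoinRoot.liftAlgHom_root _ _ _ _
  have hσθ' : σ θ' = θ := by
    have h3 : σ θ * σ θ' = 1 := by rw [← map_mul, e1, map_one]
    rw [hσθ] at h3
    calc σ θ' = θ * θ' * σ θ' := by rw [e1, one_mul]
      _ = θ * (θ' * σ θ') := by rw [mul_assoc]
      _ = θ := by rw [h3, mul_one]
  have hσσ : σ ^ 2 = 1 := by
    apply AdjoinRoot.algHom_ext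
    rw [pow_two]
    show σ (σ θ) = θ
    rw [hσθ, hσθ']
  have hσ1 : σ ≠ 1 := by
    intro h3
    apply h2
    rw [← AdjoinRoot.mk_eq_zero, map_sub, map_pow, AdjoinRoot.mk_X, map_one]
    have h4 : θ' = θ := by
      rw [← hσθ, h3]
      rfl
    rw [h4] at e1
    rw [pow_two]
    exact sub_eq_zero.2 e1
  obtain ⟨j, hj⟩ := (FiniteField.bijective_frobeniusAlgHom_pow F (AdjoinRoot f)).2 σ
  have hj' : FiniteField.frobeniusAlgHom F (AdjoinRoot f) ^ (j : ℕ) = σ := hj
  have hord := FiniteField.orderOf_frobeniusAlgHom F (AdjoinRoot f)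
  have hjlt := j.2
  have h5 : Module.finrank F (AdjoinRoot f) ∣ j * 2 := by
    have h6 : orderOf (FiniteField.frobeniusAlgHom F (AdjoinRoot f)) ∣ j * 2 := by
      apply orderOf_dvd_of_pow_eq_one
      rw [pow_mul, hj', hσσ]
    rwa [hord] at h6
  have hj0 : (j : ℕ) ≠ 0 := by
    intro h6
    rw [h6, pow_zero] at hj'
    exact hσ1 hj'.symm
  obtain ⟨c, hc'⟩ := h5
  have h7 : c = 1 := by
    rcases Nat.lt_or_ge c 2 with h8 | h8
    · rcases Nat.lt_or_ge 0 c with h9 | h9
      · omega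
      · have : c = 0 := by omega
        subst this
        omega
    · have := Nat.mul_le_mul_left (Module.finrank F (AdjoinRoot f)) h8
      omega
  rw [h7, mul_one] at hc'
  refine ⟨j, by omega, fun h => ?_⟩
  have h8 : ∀ (m : ℕ) (y : AdjoinRoot f), (FiniteField.frobeniusAlgHom F (AdjoinRoot f) ^ m) y = y ^ (Nat.card F ^ m) := by
    intro m y
    induction m generalizing y with
    | zero => simp
    | succ m ih =>
      rw [pow_succ]
      show (FiniteField.frobeniusAlgHom F (AdjoinRoot f) ^ m) (FiniteField.frobeniusAlgHom F (AdjoinRoot f) y) = _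
      rw [ih, FiniteField.coe_frobeniusAlgHom, Nat.card_eq_fintype_card, ← pow_mul]
      congr 1
      ring
  rw [← AdjoinRoot.mk_eq_zero, map_sub, sub_eq_zero, map_pow, ← h8, hj', ← AdjoinRoot.aeval_eq, aeval_comp,
    AdjoinRoot.aeval_eq, ← AdjoinRoot.aeval_eq (f := f) h, ← hθ', ← hσθ, aeval_algHom_apply]

end field

end Cfsg.Agent.H520.RC
end

-- part: H520/RC/BoxGOp
section
/-!
# S3510, triality type iii, box G: one semisimple isometry (helper520)

`Sn Q s n` : `s` is an isometry, `s ^ n = 1`, `n ≠ 0` in `F`;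
`Rn Q s R` : `R` is nondegenerate and invariant under the isometries commuting with `s`.
-/

set_option autoImplicit false
set_option linter.unusedSectionVars false

namespace Cfsg.Agent.H520.RC

open Polynomial Module QuadraticMap
open Cfsg.Agent.LieClassical.OrthCore Cfsg.Agent.LieClassical.OrthTrans

variable {F V : Type*} [Field F] [AddCommGroup V] [Module F V] {Q : QuadraticForm F V} {s : V ≃ₗ[F] V} {n : ℕ}
  {R : Submodule F V}

/-- a semisimple isometry -/
structure Sn (Q : QuadraticForm F V) (s : V ≃ₗ[F] V) (n : ℕ) : Prop where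
  nd : Nondeg Q
  mem : s ∈ O Q
  pow : s ^ n = 1
  ne : (n : F) ≠ 0

/-- nondegenerate and invariant -/
structure Rn (Q : QuadraticForm F V) (s : V ≃ₗ[F] V) (R : Submodule F V) : Prop where
  nd : ∀ v ∈ R, (∀ w ∈ R, polar Q v w = 0) → v = 0
  can : ∀ c ∈ O Q, c * s = s * c → ∀ v ∈ R, c v ∈ R

/-- polynomials in `s` -/
noncomputable def ev (s : V ≃ₗ[F] V) (f : F[X]) : Module.End F V := aeval (s : V →ₗ[F] V) f

theorem Sn.pos (h : Sn Q s n) : 0 < n := Nat.pos_of_ne_zero (fun h0 => h.ne (by rw [h0, Nat.cast_zero]))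

theorem Sn.inv (h : Sn Q s n) : Sn Q s⁻¹ n := ⟨h.nd, inv_mem h.mem, by rw [inv_pow, h.pow, inv_one], h.ne⟩

theorem Rn.inv (h : Rn Q s R) : Rn Q s⁻¹ R := ⟨h.nd, fun c hc h1 => h.can c hc (by
  have h2 : s * (c * s⁻¹) * s = s * (s⁻¹ * c) * s := by rw [h1]
  simpa only [mul_assoc, _root_.mul_inv_cancel_left, _root_.inv_mul_cancel, _root_.mul_one] using h2.symm)⟩

theorem Rn.s_mem (hR : Rn Q s R) (h : s ∈ O Q) {v : V} (hv : v ∈ R) : s v ∈ R := hR.can s h rfl v hv

theorem Rn.sinv_mem (hR : Rn Q s R) (h : s ∈ O Q) {v : V} (hv : v ∈ R) : s⁻¹ v ∈ R :=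
  hR.can s⁻¹ (inv_mem h) (by rw [inv_mul_cancel, mul_inv_cancel]) v hv

theorem ev_mul (s : V ≃ₗ[F] V) (f g : F[X]) (v : V) : ev s (f * g) v = ev s f (ev s g v) := by
  rw [ev, map_mul]; rfl

theorem ev_mul' (s : V ≃ₗ[F] V) (f g : F[X]) (v : V) : ev s (f * g) v = ev s g (ev s f v) := by
  rw [mul_comm, ev_mul]

theorem ev_add (s : V ≃ₗ[F] V) (f g : F[X]) (v : V) : ev s (f + g) v = ev s f v + ev s g v := by
  rw [ev, map_add]; rfl

theorem ev_sub (s : V ≃ₗ[F] V) (f g : F[X]) (v : V) : ev s (f - g) v = ev s f v - ev s g v := by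
  rw [ev, map_sub]; rfl

theorem ev_one (s : V ≃ₗ[F] V) (v : V) : ev s 1 v = v := by
  rw [ev, map_one]; rfl

theorem ev_X (s : V ≃ₗ[F] V) (v : V) : ev s X v = s v := by
  rw [ev, aeval_X]; rfl

theorem ev_C (s : V ≃ₗ[F] V) (a : F) (v : V) : ev s (C a) v = a • v := by
  rw [ev, aeval_C]; rfl

theorem ev_pow_succ (s : V ≃ₗ[F] V) (f : F[X]) (m : ℕ) (v : V) : ev s (f ^ (m + 1)) v = ev s f (ev s (f ^ m) v) := by
  rw [pow_succ', ev_mul]

theorem ev_end_pow (s : V ≃ₗ[F] V) (f : F[X]) (m : ℕ) (v : V) : (ev s f ^ m) v = ev s (f ^ m) v := by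
  rw [ev, ev, map_pow]

theorem ev_X_pow (s : V ≃ₗ[F] V) (m : ℕ) (v : V) : ev s (X ^ m) v = (s ^ m) v := by
  induction m generalizing v with
  | zero => rw [pow_zero, ev_one, pow_zero]; rfl
  | succ m ih => rw [pow_succ, ev_mul, ev_X, ih, pow_succ]; rfl

theorem ev_inv_mem (hR : ∀ v ∈ R, s v ∈ R) (f : F[X]) {v : V} (hv : v ∈ R) : ev s f v ∈ R := by
  induction f using Polynomial.induction_on' generalizing v with
  | add p q hp hq => rw [ev_add]; exact R.add_mem (hp hv) (hq hv)
  | monomial m a =>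
    rw [← C_mul_X_pow_eq_monomial, ev_mul, ev_C, ev_X_pow]
    apply R.smul_mem
    induction m generalizing v with
    | zero => rw [pow_zero]; exact hv
    | succ m ih => rw [pow_succ]; exact ih (hR v hv)

theorem ev_comm (s : V ≃ₗ[F] V) (c : V →ₗ[F] V) (hc : ∀ v, c (s v) = s (c v)) (f : F[X]) (v : V) :
    c (ev s f v) = ev s f (c v) := by
  induction f using Polynomial.induction_on' generalizing v with
  | add p q hp hq => rw [ev_add, ev_add, map_add, hp, hq]
  | monomial m a =>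
    rw [← C_mul_X_pow_eq_monomial, ev_mul, ev_C, ev_X_pow, ev_mul, ev_C, ev_X_pow, map_smul]
    congr 1
    induction m generalizing v with
    | zero => rfl
    | succ m ih =>
      rw [pow_succ]
      show c ((s ^ m) (s v)) = (s ^ m) (s (c v))
      rw [ih, hc]

theorem polar_s (h : s ∈ O Q) (v w : V) : polar Q (s v) w = polar Q v (s⁻¹ w) := by
  have h1 := polar_map h v (s⁻¹ w)
  have h2 : s (s⁻¹ w) = w := LinearEquiv.apply_symm_apply s w
  rw [h2] at h1
  exact h1

/-- the adjoint of `f (s)` is `f (s⁻¹)` -/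
theorem adj (h : s ∈ O Q) (f : F[X]) (v w : V) : polar Q (ev s f v) w = polar Q v (ev s⁻¹ f w) := by
  induction f using Polynomial.induction_on' generalizing v w with
  | add p q hp hq => rw [ev_add, ev_add, polar_add_left, polar_add_right, hp, hq]
  | monomial m a =>
    rw [← C_mul_X_pow_eq_monomial, ev_mul, ev_C, ev_X_pow, ev_mul, ev_C, ev_X_pow, polar_smul_left,
      polar_smul_right]
    congr 1
    induction m generalizing v w with
    | zero => rw [pow_zero, pow_zero]; rfl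
    | succ m ih =>
      rw [pow_succ, pow_succ']
      show polar Q ((s ^ m) (s v)) w = polar Q v (s⁻¹ ((s⁻¹ ^ m) w))
      rw [ih, polar_s h]

section fin

variable [Finite F]

theorem Sn.frob (h : Sn Q s n) : ∃ N : ℕ, 2 ≤ N ∧ ∀ (f : F[X]) (v : V), ev s (f ^ N) v = ev s f v := by
  have h1 : (s : V →ₗ[F] V) ^ n = 1 := by
    apply LinearMap.ext
    intro v
    have h2 := ev_X_pow s n v
    rw [h.pow] at h2
    rw [ev, map_pow, aeval_X] at h2
    exact h2
  obtain ⟨N, hN, h2⟩ := exists_frob (F := F) h1 h.ne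
  refine ⟨N, hN, fun f v => ?_⟩
  rw [ev, map_pow, h2]
  rfl

/-- the pairing of `ker f (s)` and `ker f (s⁻¹)` is perfect -/
theorem pair (h : Sn Q s n) (hR : Rn Q s R) (f : F[X]) {v : V} (hv : v ∈ R) (hf : ev s f v = 0) (hv0 : v ≠ 0) :
    ∃ w ∈ R, ev s⁻¹ f w = 0 ∧ polar Q v w ≠ 0 := by
  obtain ⟨N, hN, h1⟩ := h.inv.frob
  obtain ⟨w, hw, hvw⟩ : ∃ w ∈ R, polar Q v w ≠ 0 := by
    by_contra hcon
    push Not at hcon
    exact hv0 (hR.nd v hv hcon)
  obtain ⟨m, rfl⟩ : ∃ m, N = m + 1 + 1 := ⟨N - 2, by omega⟩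
  refine ⟨w - ev s⁻¹ (f ^ (m + 1)) w, R.sub_mem hw (ev_inv_mem (fun v hv => hR.sinv_mem h.mem hv) _ hw), ?_, ?_⟩
  · rw [map_sub, ← ev_pow_succ, h1, sub_self]
  · rw [polar_sub_right, ev_pow_succ, ← adj h.mem, hf, polar_zero_left, sub_zero]
    exact hvw

end fin

theorem ev_dvd {f g : F[X]} (h : f ∣ g) {v : V} (hv : ev s f v = 0) : ev s g v = 0 := by
  obtain ⟨k, rfl⟩ := h
  rw [ev_mul', hv, map_zero]

/-- the annihilator of `v ≠ 0`, `f (s) v = 0`, `f` irreducible -/
theorem dvd_of_ev {f g : F[X]} (hf : Irreducible f) {v : V} (hv : ev s f v = 0) (hv0 : v ≠ 0) (hg : ev s g v = 0) :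
    f ∣ g := by
  by_contra hn
  obtain ⟨a, b, hab⟩ := (hf.coprime_iff_not_dvd.2 hn)
  apply hv0
  rw [← ev_one s v, ← hab, ev_add, ev_mul, ev_mul, hv, hg, map_zero, map_zero, add_zero]

/-- `f (s⁻¹)` as a polynomial in `s` -/
noncomputable def til (n : ℕ) (f : F[X]) : F[X] := f.comp (X ^ (n - 1))

theorem Sn.s_inv (h : Sn Q s n) : s⁻¹ = s ^ (n - 1) := by
  have h1 : s ^ (n - 1) * s = 1 := by rw [← pow_succ, Nat.sub_add_cancel h.pos, h.pow]
  exact (eq_inv_of_mul_eq_one_left h1).symm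

theorem ev_til (h : Sn Q s n) (f : F[X]) (v : V) : ev s (til n f) v = ev s⁻¹ f v := by
  have h2 : aeval (s : V →ₗ[F] V) (X ^ (n - 1) : F[X]) = ((s⁻¹ : V ≃ₗ[F] V) : V →ₗ[F] V) := by
    apply LinearMap.ext
    intro w
    have h1 := ev_X_pow s (n - 1) w
    rw [ev] at h1
    rw [h1, h.s_inv]
    rfl
  rw [ev, til, aeval_comp, ev, h2]

/-- an irreducible polynomial with a kernel -/
theorem exists_irr {g : F[X]} (hg : g ≠ 0) (hR : ∀ v ∈ R, s v ∈ R) {v : V} (hv : v ∈ R) (hv0 : v ≠ 0)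
    (hgv : ev s g v = 0) : ∃ f : F[X], f.Monic ∧ Irreducible f ∧ ∃ w ∈ R, w ≠ 0 ∧ ev s f w = 0 := by
  induction g using WfDvdMonoid.induction_on_irreducible generalizing v with
  | zero => exact absurd rfl hg
  | unit u hu =>
    exfalso
    obtain ⟨a, ha⟩ := hu.exists_left_inv
    apply hv0
    rw [← ev_one s v, ← ha, ev_mul, hgv, map_zero]
  | mul a i ha hi ih =>
    by_cases h1 : ev s a v = 0
    · exact ih ha hv hv0 h1
    · refine ⟨i * C i.leadingCoeff⁻¹, monic_mul_leadingCoeff_inv hi.ne_zero, ?_, ev s a v, ev_inv_mem hR _ hv, h1, ?_⟩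
      · have h2 : IsUnit (C i.leadingCoeff⁻¹) := isUnit_C.2 (isUnit_iff_ne_zero.2 (inv_ne_zero
          (leadingCoeff_ne_zero.2 hi.ne_zero)))
        exact (irreducible_mul_isUnit h2).2 hi
      · rw [ev_mul', ev_C, ← ev_mul, hgv, smul_zero]

/-! ### Orthogonal complements -/

/-- the orthogonal complement -/
def pp (Q : QuadraticForm F V) (B : Submodule F V) : Submodule F V where
  carrier := {w | ∀ v ∈ B, polar Q v w = 0}
  zero_mem' := fun v _ => polar_zero_right Q v
  add_mem' := fun ha hb v hv => by rw [polar_add_right, ha v hv, hb v hv, add_zero]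
  smul_mem' := fun c a ha v hv => by rw [polar_smul_right, ha v hv, smul_zero]

section fd

variable [FiniteDimensional F V] {B : Submodule F V}

theorem exists_proj (hB : ∀ v ∈ B, (∀ w ∈ B, polar Q v w = 0) → v = 0) (v : V) : ∃ b ∈ B, v - b ∈ pp Q B := by
  let φ : B →ₗ[F] Module.Dual F B := ((polarBilin Q).domRestrict₁₂ B B)
  have h1 : Function.Injective φ := by
    rw [← LinearMap.ker_eq_bot, LinearMap.ker_eq_bot']
    intro b hb
    apply Subtype.ext
    apply hB b b.2
    intro w hw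
    have h2 := LinearMap.congr_fun hb ⟨w, hw⟩
    exact h2
  have h2 : Function.Surjective φ :=
    (LinearMap.injective_iff_surjective_of_finrank_eq_finrank (by exact Subspace.dual_finrank_eq.symm)).1 h1
  obtain ⟨b, hb⟩ := h2 ((polarBilin Q v).comp B.subtype)
  refine ⟨b, b.2, fun w hw => ?_⟩
  have h3 := LinearMap.congr_fun hb ⟨w, hw⟩
  have h4 : polar Q (b : V) w = polar Q v w := h3
  rw [polar_sub_right, polar_comm Q w v, polar_comm Q w b, h4, sub_self]

theorem isCompl_pp (hB : ∀ v ∈ B, (∀ w ∈ B, polar Q v w = 0) → v = 0) : IsCompl B (pp Q B) := by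
  constructor
  · rw [Submodule.disjoint_def]
    intro v hv hv'
    exact hB v hv fun w hw => by rw [polar_comm]; exact hv' w hw
  · rw [codisjoint_iff_le_sup]
    intro v _
    obtain ⟨b, hb, hb'⟩ := exists_proj hB v
    rw [← add_sub_cancel b v]
    exact Submodule.add_mem_sup hb hb'

/-- extension by the identity -/
theorem exists_ext (hQ : Nondeg Q) (hB : ∀ v ∈ B, (∀ w ∈ B, polar Q v w = 0) → v = 0)
    (C : V →ₗ[F] V) (hC : ∀ v ∈ B, C v ∈ B) (hCQ : ∀ v ∈ B, Q (C v) = Q v) :
    ∃ c ∈ O Q, (∀ v ∈ B, c v = C v) ∧ ∀ w ∈ pp Q B, c w = w := by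
  have hcomp := isCompl_pp hB
  let π : V →ₗ[F] V := B.subtype ∘ₗ B.projectionOnto (pp Q B) hcomp
  have hπ : ∀ v, π v ∈ B := fun v => (B.projectionOnto (pp Q B) hcomp v).2
  have hπB : ∀ v ∈ B, π v = v := by
    intro v hv
    have := Submodule.projectionOnto_apply_left hcomp ⟨v, hv⟩
    show ((B.projectionOnto (pp Q B) hcomp v : B) : V) = v
    rw [this]
  have hπP : ∀ v ∈ pp Q B, π v = 0 := by
    intro v hv
    show ((B.projectionOnto (pp Q B) hcomp v : B) : V) = 0
    rw [(Submodule.projectionOnto_apply_eq_zero_iff hcomp).2 hv]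
    rfl
  have hd : ∀ v, v - π v ∈ pp Q B := by
    intro v
    obtain ⟨b, hb, hb'⟩ := exists_proj hB v
    have h1 : π v = b := by
      rw [← add_sub_cancel b v, map_add, hπB b hb, hπP _ hb', add_zero]
    rw [h1]
    exact hb'
  let L : V →ₗ[F] V := C ∘ₗ π + (LinearMap.id - π)
  have hL : ∀ v, L v = C (π v) + (v - π v) := fun v => rfl
  have hLQ : ∀ v, Q (L v) = Q v := by
    intro v
    have h1 : polar Q (C (π v)) (v - π v) = 0 := hd v _ (hC _ (hπ v))
    have h2 : polar Q (π v) (v - π v) = 0 := hd v _ (hπ v)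
    rw [hL, Q_add, h1, hCQ _ (hπ v)]
    conv_rhs => rw [← add_sub_cancel (π v) v, Q_add, h2]
  have hinj : Function.Injective L := by
    rw [← LinearMap.ker_eq_bot, LinearMap.ker_eq_bot']
    intro v hv
    apply hQ
    intro y
    have h1 : polar Q v y = polar Q (L v) (L y) := by
      simp only [polar, ← map_add, hLQ]
    rw [h1, hv, polar_zero_left]
  let c : V ≃ₗ[F] V := LinearEquiv.ofInjectiveEndo L hinj
  have hc : ∀ v, c v = L v := fun v => rfl
  refine ⟨c, fun v => by rw [hc, hLQ], fun v hv => ?_, fun v hv => ?_⟩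
  · rw [hc, hL, hπB v hv, sub_self, add_zero]
  · rw [hc, hL, hπP v hv, map_zero, zero_add, sub_zero]

/-- equality of maps on `B` and on `pp B` -/
theorem eq_of_split (hB : ∀ v ∈ B, (∀ w ∈ B, polar Q v w = 0) → v = 0) {a b : V ≃ₗ[F] V}
    (h1 : ∀ v ∈ B, a v = b v) (h2 : ∀ v ∈ pp Q B, a v = b v) : a = b := by
  apply LinearEquiv.ext
  intro v
  obtain ⟨u, hu, hu'⟩ := exists_proj hB v
  rw [← add_sub_cancel u v, map_add, map_add, h1 u hu, h2 _ hu']

theorem pp_inv {c : V ≃ₗ[F] V} (hc : c ∈ O Q) (hcB : ∀ v ∈ B, c v ∈ B) : ∀ v ∈ pp Q B, c v ∈ pp Q B := by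
  intro v hv w hw
  obtain ⟨u, rfl⟩ : ∃ u : B, c u = w := by
    have h1 : Function.Injective ((c : V →ₗ[F] V).restrict hcB) := by
      intro a b hab
      apply Subtype.ext
      exact c.injective (congrArg Subtype.val hab)
    obtain ⟨u, hu⟩ := LinearMap.surjective_of_injective h1 ⟨w, hw⟩
    exact ⟨u, congrArg Subtype.val hu⟩
  rw [polar_map hc]
  exact hv u u.2

end fd

end Cfsg.Agent.H520.RC
end

-- part: H520/RC/BoxGBlk
section
/-!
# S3510, triality type iii, box G: the blocks of one semisimple isometry (helper520)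
-/

set_option autoImplicit false
set_option linter.unusedSectionVars false

namespace Cfsg.Agent.H520.RC

open Polynomial Module QuadraticMap
open Cfsg.Agent.LieClassical.OrthCore Cfsg.Agent.LieClassical.OrthTrans

variable {F V : Type*} [Field F] [AddCommGroup V] [Module F V] {Q : QuadraticForm F V} {s : V ≃ₗ[F] V} {n : ℕ}
  {R : Submodule F V}

/-! ### Elements of order `p` -/

theorem siegel_pow {u w : V} (hu : Q u = 0) (hw : polar Q u w = 0) (m : ℕ) (h : polar Q u ((m : F) • w) = 0) :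
    siegel Q u w hu hw ^ m = siegel Q u ((m : F) • w) hu h := by
  induction m with
  | zero =>
    apply LinearEquiv.ext
    intro v
    rw [siegel_apply]
    simp only [_root_.pow_zero, _root_.LinearEquiv.coe_one, _root_.id_eq, _root_.Nat.cast_zero, _root_.zero_smul, _root_.smul_zero, _root_.add_zero, _root_.QuadraticMap.polar_zero_left, _root_.sub_zero, _root_.map_zero, _root_.MulZeroClass.zero_mul]
  | succ m ih =>
    have h1 : polar Q u ((m : F) • w) = 0 := by rw [polar_smul_right, hw, smul_zero]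
    rw [pow_succ, ih h1, siegel_mul hu h1 hw (by rw [polar_add_right, h1, hw, add_zero])]
    apply LinearEquiv.ext
    intro v
    rw [siegel_apply, siegel_apply]
    have e : (m : F) • w + w = ((m + 1 : ℕ) : F) • w := by push_cast; module
    rw [e]

theorem siegel_pow_char {p : ℕ} [CharP F p] {u w : V} (hu : Q u = 0) (hw : polar Q u w = 0) :
    siegel Q u w hu hw ^ p = 1 := by
  rw [siegel_pow hu hw p (by rw [CharP.cast_eq_zero, zero_smul, polar_zero_right])]
  apply LinearEquiv.ext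
  intro v
  rw [siegel_apply]
  simp

theorem siegel_ne_one (hQ : Nondeg Q) {u w : V} (hu : Q u = 0) (hw : polar Q u w = 0) (hu0 : u ≠ 0)
    (hwu : ∀ a : F, w ≠ a • u) : siegel Q u w hu hw ≠ 1 := by
  intro h
  obtain ⟨y, hy⟩ := hQ.exists_polar_eq hu0 1
  have h1 := LinearEquiv.congr_fun h y
  rw [siegel_apply, hy] at h1
  have h2 : y + (1 : F) • w - polar Q w y • u - (Q w * 1) • u = y := h1
  apply hwu (polar Q w y + Q w)
  have h3 : w = (y + (1 : F) • w - polar Q w y • u - (Q w * 1) • u) - y + (polar Q w y + Q w) • u := by module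
  rw [h2, sub_self, zero_add] at h3
  exact h3

/-- no element of order `p` commutes with `s` -/
def Np (Q : QuadraticForm F V) (s : V ≃ₗ[F] V) (p : ℕ) : Prop :=
  ∀ c ∈ E Q, c * s = s * c → c ^ p = 1 → c = 1

theorem comm_of {c : V ≃ₗ[F] V} (h : ∀ v, c (s v) = s (c v)) : c * s = s * c := LinearEquiv.ext h

theorem no_siegel {p : ℕ} [CharP F p] (hp : Np Q s p) (hQ : Nondeg Q) {u w : V} (hu : Q u = 0)
    (hw : polar Q u w = 0) (hu0 : u ≠ 0) (hwu : ∀ a : F, w ≠ a • u)
    (hc : ∀ v, siegel Q u w hu hw (s v) = s (siegel Q u w hu hw v)) : False :=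
  siegel_ne_one hQ hu hw hu0 hwu (hp _ (siegel_mem_E hu hw) (comm_of hc) (siegel_pow_char hu hw))

/-- eigenvectors for `a`, `a⁻¹` -/
theorem no_eigen {p : ℕ} [CharP F p] (hp : Np Q s p) (hQ : Nondeg Q) (hs : s ∈ O Q) {u w : V} (hu : Q u = 0)
    (hw : polar Q u w = 0) (hu0 : u ≠ 0) (hwu : ∀ a : F, w ≠ a • u) {a : F} (ha : a ≠ 0) (h1 : s u = a • u)
    (h2 : s w = a⁻¹ • w) : False := by
  refine no_siegel hp hQ hu hw hu0 hwu fun v => ?_
  have e1 : polar Q u (s v) = a⁻¹ * polar Q u v := by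
    have : polar Q (s u) (s v) = polar Q u v := polar_map hs u v
    rw [h1, polar_smul_left, smul_eq_mul] at this
    rw [← this, inv_mul_cancel_left₀ ha]
  have e2 : polar Q w (s v) = a * polar Q w v := by
    have : polar Q (s w) (s v) = polar Q w v := polar_map hs w v
    rw [h2, polar_smul_left, smul_eq_mul] at this
    rw [← this, mul_inv_cancel_left₀ ha]
  rw [siegel_apply, siegel_apply, map_sub, map_sub, map_add, map_smul, map_smul, map_smul, e1, e2, h1, h2]
  have e3 : Q w = a⁻¹ * a⁻¹ * Q w := by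
    have : Q (s w) = Q w := hs w
    rw [h2, QuadraticMap.map_smul, smul_eq_mul] at this
    exact this.symm
  have e4 : (Q w * (a⁻¹ * polar Q u v)) • u = (Q w * polar Q u v) • a • u := by
    rw [smul_smul]
    congr 1
    conv_rhs => rw [e3]
    field_simp
  rw [e4]
  have e5 : (a⁻¹ * polar Q u v) • w = polar Q u v • a⁻¹ • w := by rw [smul_smul, mul_comm]
  have e6 : (a * polar Q w v) • u = polar Q w v • a • u := by rw [smul_smul, mul_comm]
  rw [e5, e6]

/-- `s` quadratic -/
theorem no_quad {p : ℕ} [CharP F p] (hp : Np Q s p) (hQ : Nondeg Q) (hs : s ∈ O Q) {u : V} (hu : Q u = 0)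
    (hu0 : u ≠ 0) (hwu : ∀ a : F, s u ≠ a • u) {t : F} (h1 : s (s u) = t • s u - u) (hus : polar Q u (s u) = 0) :
    False := by
  refine no_siegel hp hQ hu hus hu0 hwu fun v => ?_
  have e1 : polar Q (s u) (s v) = polar Q u v := polar_map hs u v
  have e2 : polar Q u (s v) = t * polar Q u v - polar Q (s u) v := by
    have h2 : polar Q (s (s u)) (s v) = polar Q (s u) v := polar_map hs _ _
    rw [h1, polar_sub_left, polar_smul_left, e1, smul_eq_mul] at h2
    rw [← h2]; ring
  have e3 : Q (s u) = 0 := by rw [hs u, hu]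
  rw [siegel_apply, siegel_apply, map_sub, map_sub, map_add, map_smul, map_smul, map_smul, e1, e2, h1, e3]
  module

/-- two totally singular planes `⟨u, s u⟩`, `⟨w, s w⟩`, orthogonal -/
theorem no_two {p : ℕ} [CharP F p] (hp : Np Q s p) (hQ : Nondeg Q) (hs : s ∈ O Q) {u w : V} (hu : Q u = 0)
    (hw : Q w = 0) (hw0 : w ≠ 0) (hus : polar Q u (s u) = 0) (hws : polar Q w (s w) = 0)
    (huw : polar Q u w = 0) (hsuw : polar Q (s u) w = 0) (husw : polar Q u (s w) = 0)
    (hind : ∀ a b : F, a • u + b • s u = 0 → a = 0 ∧ b = 0)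
    (hdis : ∀ a b c d : F, a • u + b • s u = c • w + d • s w → a • u + b • s u = 0)
    {b d : F} (h1 : s (s u) = b • s u - d • u) (h2 : d • s (s w) = b • s w - w) : False := by
  have e0 : Q (s u) = 0 := by rw [hs u, hu]
  have e0' : Q (s w) = 0 := by rw [hs w, hw]
  have k2 : polar Q u (-d • s w) = 0 := by rw [polar_smul_right, husw, smul_zero]
  have k3 : polar Q (s u) (s w) = 0 := by rw [polar_map hs, huw]
  set A := siegel Q (s u) w e0 hsuw with hA
  set B := siegel Q u (-d • s w) hu k2 with hB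
  have hAa : ∀ v, A v = v + polar Q (s u) v • w - polar Q w v • s u := fun v => by
    rw [hA, siegel_apply, hw, zero_mul, zero_smul, sub_zero]
  have hQ' : Q (-d • s w) = 0 := by rw [QuadraticMap.map_smul, e0', smul_zero]
  have hBa : ∀ v, B v = v - (d * polar Q u v) • s w + (d * polar Q (s w) v) • u := fun v => by
    rw [hB, siegel_apply, hQ', polar_smul_left]
    simp only [smul_eq_mul]
    module
  have q1 : polar Q (s u) u = 0 := by rw [polar_comm]; exact hus
  have q2 : polar Q w u = 0 := by rw [polar_comm]; exact huw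
  have q3 : polar Q (s w) (s u) = 0 := by rw [polar_comm]; exact k3
  have q4 : polar Q (s w) w = 0 := by rw [polar_comm]; exact hws
  have hAB : ∀ v, A (B v) = v - (d * polar Q u v) • s w + (d * polar Q (s w) v) • u + polar Q (s u) v • w -
      polar Q w v • s u := fun v => by
    rw [hAa, hBa]
    simp only [polar_add_right, polar_sub_right, polar_smul_right, k3, q1, hws, q2, smul_zero, sub_zero, add_zero]
  have hBA : ∀ v, B (A v) = v - (d * polar Q u v) • s w + (d * polar Q (s w) v) • u + polar Q (s u) v • w -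
      polar Q w v • s u := fun v => by
    rw [hBa, hAa]
    simp only [polar_add_right, polar_sub_right, polar_smul_right, huw, hus, q4, q3, smul_zero, sub_zero, add_zero]
    module
  have hcomm : Commute A B := LinearEquiv.ext fun v => (hAB v).trans (hBA v).symm
  have hABE : A * B ∈ E Q := mul_mem (siegel_mem_E _ _) (siegel_mem_E _ _)
  have hABp : (A * B) ^ p = 1 := by
    rw [hcomm.mul_pow, siegel_pow_char, siegel_pow_char, mul_one]
  have hABs : A * B * s = s * (A * B) := by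
    apply comm_of
    intro v
    show A (B (s v)) = s (A (B v))
    have e1 : polar Q (s u) (s v) = polar Q u v := polar_map hs u v
    have e2 : polar Q (s w) (s v) = polar Q w v := polar_map hs w v
    have e3 : d * polar Q u (s v) = b * polar Q u v - polar Q (s u) v := by
      have h3 : polar Q (s (s u)) (s v) = polar Q (s u) v := polar_map hs _ _
      rw [h1, polar_sub_left, polar_smul_left, polar_smul_left, e1, smul_eq_mul, smul_eq_mul] at h3
      rw [← h3]; ring
    have e4 : polar Q w (s v) = b * polar Q w v - d * polar Q (s w) v := by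
      have h3 : polar Q (d • s (s w)) (s v) = d * polar Q (s w) v := by
        rw [polar_smul_left, polar_map hs, smul_eq_mul]
      rw [h2, polar_sub_left, polar_smul_left, e2, smul_eq_mul] at h3
      rw [← h3]; ring
    rw [hAB, hAB, map_sub, map_add, map_add, map_sub, map_smul, map_smul, map_smul, map_smul, h1, e1, e2, e4]
    have e5 : (d * polar Q u v) • s (s w) = polar Q u v • (b • s w - w) := by
      rw [mul_comm, mul_smul, h2]
    rw [e5, e3]
    module
  have h3 := hp _ hABE hABs hABp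
  apply hw0
  apply hQ
  intro v
  have h4 := LinearEquiv.congr_fun h3 v
  have h5 : v - (d * polar Q u v) • s w + (d * polar Q (s w) v) • u + polar Q (s u) v • w -
      polar Q w v • s u = v := (hAB v).symm.trans h4
  have h6 : (d * polar Q (s w) v) • u + (-polar Q w v) • s u = (-polar Q (s u) v) • w + (d * polar Q u v) • s w := by
    have h7 : (d * polar Q (s w) v) • u + (-polar Q w v) • s u - ((-polar Q (s u) v) • w + (d * polar Q u v) • s w) =
      (v - (d * polar Q u v) • s w + (d * polar Q (s w) v) • u + polar Q (s u) v • w -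
      polar Q w v • s u) - v := by module
    rw [h5, sub_self] at h7
    exact sub_eq_zero.1 h7
  have h8 := (hind _ _ (hdis _ _ _ _ h6)).2
  exact neg_eq_zero.1 h8

/-! ### Kernels of irreducible polynomials -/

theorem ker_iff_of_N (h : Sn Q s n) {f : F[X]} (hN : f ∣ til n f) {v : V} : ev s f v = 0 ↔ ev s⁻¹ f v = 0 := by
  constructor
  · intro h1
    rw [← ev_til h]
    exact ev_dvd hN h1
  · intro h1
    have h2 := ev_til h.inv f v
    rw [inv_inv] at h2
    rw [← h2]
    exact ev_dvd hN h1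

theorem eq_zero_of_S (h : Sn Q s n) {f : F[X]} (hf : Irreducible f) (hS : ¬ f ∣ til n f) {v : V}
    (h1 : ev s f v = 0) (h2 : ev s⁻¹ f v = 0) : v = 0 := by
  by_contra hv0
  apply hS
  apply dvd_of_ev hf h1 hv0
  rw [ev_til h]
  exact h2

theorem not_dvd_of_S {f : F[X]} (hf : Irreducible f) (hS : ¬ f ∣ til n f) : ¬ f ∣ X - 1 := by
  intro h1
  apply hS
  have h2 : Irreducible (X - C 1 : F[X]) := irreducible_X_sub_C 1
  rw [C_1] at h2
  have h3 : Associated f (X - 1) := (hf.associated_of_dvd h2) h1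
  have h4 : f.eval 1 = 0 := by
    have h5 : (X - C 1 : F[X]) ∣ f := by rw [C_1]; exact h3.symm.dvd
    exact (dvd_iff_isRoot.1 h5)
  refine h1.trans ?_
  rw [← C_1, dvd_iff_isRoot, IsRoot, til, eval_comp, eval_pow, eval_X, one_pow, h4]

theorem ts_polar (h : Sn Q s n) {f : F[X]} (hf : Irreducible f) (hS : ¬ f ∣ til n f) {v w : V}
    (hv : ev s f v = 0) (hw : ev s f w = 0) : polar Q v w = 0 := by
  obtain ⟨a, b, hab⟩ := hf.coprime_iff_not_dvd.2 hS
  have h1 : w = ev s⁻¹ f (ev s b w) := by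
    conv_lhs => rw [← ev_one s w, ← hab, ev_add, ev_mul, hw, map_zero, zero_add, ev_mul', ev_til h]
  rw [h1, ← adj h.mem, hv, polar_zero_left]

theorem exists_sub (hR : ∀ v ∈ R, s v ∈ R) {f : F[X]} (hf : Irreducible f) (h1 : ¬ f ∣ X - 1) {v : V} (hvR : v ∈ R)
    (hv : ev s f v = 0) : ∃ u ∈ R, ev s f u = 0 ∧ v = s u - u := by
  obtain ⟨a, b, hab⟩ := hf.coprime_iff_not_dvd.2 h1
  refine ⟨ev s b v, ev_inv_mem hR _ hvR, by rw [← ev_mul, mul_comm, ev_mul, hv, map_zero], ?_⟩
  conv_lhs => rw [← ev_one s v, ← hab, ev_add, ev_mul, hv, map_zero, zero_add, ev_mul', ev_sub, ev_X, ev_one]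

theorem Q_sub (hs : s ∈ O Q) (u : V) : Q (s u - u) = polar Q u u - polar Q (s u) u := by
  rw [sub_eq_add_neg, Q_add, QuadraticMap.map_neg, polar_neg_right, hs u, polar_self']
  ring

theorem Q_of_polar (hs : s ∈ O Q) {C : V →ₗ[F] V} (hC : ∀ v, C (s v) = s (C v)) {u : V}
    (h1 : polar Q (C (s u)) (C u) = polar Q (s u) u) (h2 : polar Q (C u) (C u) = polar Q u u) :
    Q (C (s u - u)) = Q (s u - u) := by
  rw [map_sub, hC, Q_sub hs, Q_sub hs, h2, ← hC, h1]

theorem ts_Q (h : Sn Q s n) {f : F[X]} (hf : Irreducible f) (hS : ¬ f ∣ til n f) {v : V}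
    (hv : ev s f v = 0) : Q v = 0 := by
  obtain ⟨u, -, hu, rfl⟩ := exists_sub (R := ⊤) (fun _ _ => trivial) hf (not_dvd_of_S hf hS) trivial hv
  have hsu : ev s f (s u) = 0 := by
    have := ev_comm s (s : V →ₗ[F] V) (fun _ => rfl) f u
    have h2 : s (ev s f u) = ev s f (s u) := this
    rw [← h2, hu, map_zero]
  rw [Q_sub h.mem, ts_polar h hf hS hu hu, ts_polar h hf hS hsu hu, sub_zero]

/-- the degree is bounded by the dimension -/
theorem natDegree_le [FiniteDimensional F V] (hR : ∀ v ∈ R, s v ∈ R) {f : F[X]} (hf : Irreducible f) {v : V}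
    (hv : v ∈ R) (hfv : ev s f v = 0) (hv0 : v ≠ 0) {K : Submodule F V} (hK : ∀ w ∈ R, ev s f w = 0 → w ∈ K) :
    f.natDegree ≤ finrank F K := by
  let φ : degreeLT F f.natDegree →ₗ[F] K :=
    { toFun := fun g => ⟨ev s (g : F[X]) v, hK _ (ev_inv_mem hR _ hv) (by
        rw [← ev_mul, mul_comm, ev_mul, hfv, map_zero])⟩
      map_add' := fun a b => Subtype.ext (ev_add s _ _ v)
      map_smul' := fun a b => Subtype.ext (by
        show ev s (a • (b : F[X])) v = a • ev s (b : F[X]) v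
        rw [smul_eq_C_mul, ev_mul, ev_C]) }
  have h1 : Function.Injective φ := by
    rw [← LinearMap.ker_eq_bot, LinearMap.ker_eq_bot']
    intro g hg
    have h2 : ev s (g : F[X]) v = 0 := congrArg Subtype.val hg
    have h3 := dvd_of_ev hf hfv hv0 h2
    apply Subtype.ext
    by_contra hg0
    have h4 := mem_degreeLT.1 g.2
    have h5 := degree_le_of_dvd h3 hg0
    have h6 : f.degree = f.natDegree := degree_eq_natDegree hf.ne_zero
    rw [h6] at h5
    exact absurd h4 (not_lt.2 h5)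
  have h2 := LinearMap.finrank_le_finrank_of_injective h1
  rwa [(degreeLTEquiv F f.natDegree).finrank_eq, Module.finrank_fintype_fun_eq_card, Fintype.card_fin] at h2

theorem indep {f : F[X]} (hf : Irreducible f) (hd : 2 ≤ f.natDegree) {u : V} (hu : ev s f u = 0) (hu0 : u ≠ 0)
    {a b : F} (h : a • u + b • s u = 0) : a = 0 ∧ b = 0 := by
  have h1 : ev s (C b * X + C a) u = 0 := by
    rw [ev_add, ev_mul, ev_X, ev_C, ev_C, add_comm]
    exact h
  have h2 := dvd_of_ev hf hu hu0 h1
  have h3 : (C b * X + C a : F[X]) = 0 := by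
    by_contra hne
    have h4 := natDegree_le_of_dvd h2 hne
    have h5 : (C b * X + C a : F[X]).natDegree ≤ 1 := natDegree_linear_le
    omega
  constructor
  · have := congrArg (fun g => coeff g 0) h3
    simpa using this
  · have := congrArg (fun g => coeff g 1) h3
    simpa using this

theorem quad_rel {f : F[X]} (hm : f.Monic) (hd : f.natDegree = 2) {u : V} (hu : ev s f u = 0) :
    s (s u) = (-f.coeff 1) • s u - f.coeff 0 • u := by
  have h1 : f = X * X + C (f.coeff 1) * X + C (f.coeff 0) := by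
    have h2 := eq_quadratic_of_degree_le_two (p := f) (by
      rw [degree_eq_natDegree hm.ne_zero, hd]; rfl)
    have h3 : f.coeff 2 = 1 := by
      have := hm.coeff_natDegree
      rwa [hd] at this
    rw [h3, C_1, one_mul, pow_two] at h2
    exact h2
  rw [h1, ev_add, ev_add, ev_mul, ev_mul, ev_X, ev_X, ev_C, ev_C] at hu
  have h3 : s (s u) = (s (s u) + f.coeff 1 • s u + f.coeff 0 • u) - f.coeff 1 • s u - f.coeff 0 • u := by module
  rw [h3, hu]
  module

theorem lin_rel {f : F[X]} (hm : f.Monic) (hd : f.natDegree = 1) {u : V} (hu : ev s f u = 0) :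
    s u = (-f.coeff 0) • u := by
  have h1 := hm.eq_X_add_C hd
  rw [h1, ev_add, ev_X, ev_C] at hu
  rw [neg_smul]
  exact eq_neg_of_add_eq_zero_left hu

end Cfsg.Agent.H520.RC
end

-- part: H520/RC/BoxGTwo
section
/-!
# S3510, triality type iii, box G: elements of prime order commuting with a semisimple isometry (helper520)
-/

set_option autoImplicit false
set_option linter.unusedSectionVars false

namespace Cfsg.Agent.H520.RC

open Polynomial Module QuadraticMap
open Cfsg.Agent.LieClassical.OrthCore Cfsg.Agent.LieClassical.OrthTrans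

variable {F V : Type*} [Field F] [Finite F] [AddCommGroup V] [Module F V] [FiniteDimensional F V]
  {Q : QuadraticForm F V} {s : V ≃ₗ[F] V} {n : ℕ} {R : Submodule F V}

/-- from a map on a nondegenerate subspace to an isometry commuting with `s` -/
theorem exists_comm (h : Sn Q s n) {B : Submodule F V} (hB : ∀ v ∈ B, (∀ w ∈ B, polar Q v w = 0) → v = 0)
    (hsB : ∀ v ∈ B, s v ∈ B) {C : V →ₗ[F] V} (hC : ∀ v ∈ B, C v ∈ B) (hCQ : ∀ v ∈ B, Q (C v) = Q v)
    (hCs : ∀ v ∈ B, C (s v) = s (C v)) {l : ℕ} (hCl : ∀ v ∈ B, (C ^ l) v = v) :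
    ∃ c ∈ O Q, c * s = s * c ∧ c ^ l = 1 ∧ ∀ v ∈ B, c v = C v := by
  obtain ⟨c, hc, h1, h2⟩ := exists_ext h.nd hB C hC hCQ
  refine ⟨c, hc, ?_, ?_, h1⟩
  · apply eq_of_split hB
    · intro v hv
      show c (s v) = s (c v)
      rw [h1 _ (hsB v hv), h1 v hv, hCs v hv]
    · intro v hv
      show c (s v) = s (c v)
      rw [h2 v hv, h2 _ (pp_inv h.mem hsB v hv)]
  · have e1 : ∀ m : ℕ, ∀ v ∈ B, (C ^ m) v ∈ B ∧ (c ^ m) v = (C ^ m) v := by
      intro m
      induction m with
      | zero => intro v hv; exact ⟨hv, rfl⟩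
      | succ m ih =>
        intro v hv
        obtain ⟨i1, i2⟩ := ih v hv
        rw [pow_succ', pow_succ']
        exact ⟨hC _ i1, by
          show c ((c ^ m) v) = C ((C ^ m) v)
          rw [i2, h1 _ i1]⟩
    have e2 : ∀ m : ℕ, ∀ v ∈ pp Q B, (c ^ m) v = v := by
      intro m
      induction m with
      | zero => intro v hv; rfl
      | succ m ih =>
        intro v hv
        rw [pow_succ]
        show (c ^ m) (c v) = v
        rw [h2 v hv, ih v hv]
    apply eq_of_split hB
    · intro v hv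
      rw [(e1 l v hv).2, hCl v hv]
      rfl
    · intro v hv
      rw [e2 l v hv]
      rfl

/-- self-dual case -/
theorem case_N (h : Sn Q s n) {f : F[X]} (hf : Irreducible f) (hN : f ∣ til n f) (h2 : ¬ f ∣ X ^ 2 - 1) {v : V}
    (hv : ev s f v = 0) (hv0 : v ≠ 0) :
    ∃ k : ℕ, f.natDegree = 2 * k ∧ ∀ l : ℕ, l.Prime → l ∣ Nat.card F ^ k + 1 →
      ∃ c ∈ O Q, c * s = s * c ∧ c ^ l = 1 ∧ ∀ w, ev s f w = 0 → c w = w → w = 0 := by
  have hX : ev s (X * X ^ (n - 1) - 1) v = 0 := by
    rw [ev_sub, ev_mul, ev_X, ev_X_pow, ev_one]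
    have : s ((s ^ (n - 1)) v) = (s ^ (n - 1 + 1)) v := by rw [pow_succ']; rfl
    rw [this, Nat.sub_add_cancel h.pos, h.pow]
    exact sub_self v
  obtain ⟨k, hk, hg⟩ := galois hf (dvd_of_ev hf hv hv0 hX) hN h2
  refine ⟨k, hk, fun l hl hlk => ?_⟩
  have hl2 : l ∣ Nat.card F ^ f.natDegree - 1 := by
    rw [hk, mul_comm, pow_mul]
    refine hlk.trans ?_
    have := Nat.sub_dvd_pow_sub_pow (Nat.card F ^ k) 1 2
    have e : (Nat.card F ^ k) ^ 2 - 1 = (Nat.card F ^ k + 1) * (Nat.card F ^ k - 1) := by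
      have := Nat.sq_sub_sq (Nat.card F ^ k) 1
      simpa only [_root_.one_pow] using this
    rw [e]
    exact dvd_mul_right _ _
  obtain ⟨g, hg1, hg2⟩ := exists_h hf hl hl2
  have hdual : ∀ w, ev s f w = 0 → ev s⁻¹ g (ev s g w) = w := by
    intro w hw
    have e1 : f ∣ til n g * g - 1 := by
      have e2 : til n g * g - 1 = (til n g - g ^ (Nat.card F ^ k)) * g + (g ^ (Nat.card F ^ k + 1) - 1) := by ring
      rw [e2]
      refine dvd_add ((hg g).mul_right g) (hg1.trans ?_)
      obtain ⟨j, hj⟩ := hlk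
      rw [hj, pow_mul]
      exact sub_one_dvd_pow_sub_one _ j
    have e3 := ev_dvd e1 hw
    rw [ev_sub, ev_mul, ev_one, ev_til h] at e3
    exact sub_eq_zero.1 e3
  have h1 : ¬ f ∣ X - 1 := fun h3 => h2 (h3.trans ⟨X + 1, by ring⟩)
  have hsB : ∀ w ∈ LinearMap.ker (ev s f), s w ∈ LinearMap.ker (ev s f) := by
    intro w hw
    rw [LinearMap.mem_ker] at hw ⊢
    have h3 := ev_comm s (s : V →ₗ[F] V) (fun _ => rfl) f w
    have h4 : s (ev s f w) = ev s f (s w) := h3
    rw [← h4, hw, map_zero]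
  have hgB : ∀ w ∈ LinearMap.ker (ev s f), ev s g w ∈ LinearMap.ker (ev s f) := by
    intro w hw
    rw [LinearMap.mem_ker] at hw ⊢
    rw [← ev_mul, mul_comm, ev_mul, hw, map_zero]
  have hpol : ∀ w w', ev s f w = 0 → polar Q (ev s g w') (ev s g w) = polar Q w' w := by
    intro w w' hw
    rw [adj h.mem, hdual w hw]
  have key : ∃ c ∈ O Q, c * s = s * c ∧ c ^ l = 1 ∧ ∀ v ∈ LinearMap.ker (ev s f), c v = ev s g v := by
    refine exists_comm (l := l) h (B := LinearMap.ker (ev s f)) ?_ hsB (C := ev s g) hgB ?_ ?_ ?_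
    · intro w hw hww
      by_contra hw0
      obtain ⟨w', -, h3, h4⟩ := pair (R := ⊤) h ⟨fun v _ hv => h.nd v fun y => hv y trivial, fun _ _ _ _ _ => trivial⟩ f
        trivial hw hw0
      exact h4 (hww w' ((ker_iff_of_N h hN).2 h3))
    · intro w hw
      obtain ⟨u, -, hu, rfl⟩ := exists_sub (R := ⊤) (fun _ _ => trivial) hf h1 trivial hw
      apply Q_of_polar h.mem
      · intro x
        exact (ev_comm s (s : V →ₗ[F] V) (fun _ => rfl) g x).symm
      · exact hpol _ _ hu
      · exact hpol _ _ hu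
    · intro w _
      exact (ev_comm s (s : V →ₗ[F] V) (fun _ => rfl) g w).symm
    · intro w hw
      rw [ev_end_pow]
      have h3 := ev_dvd hg1 hw
      rw [ev_sub, ev_one] at h3
      exact sub_eq_zero.1 h3
  obtain ⟨c, hc, hcs, hcl, hcB⟩ := key
  · refine ⟨c, hc, hcs, hcl, fun w hw hcw => ?_⟩
    by_contra hw0
    apply hg2
    apply dvd_of_ev hf hw hw0
    rw [ev_sub, ev_one, ← hcB w hw, hcw, sub_self]

/-- split case -/
theorem case_S (h : Sn Q s n) {f : F[X]} (hf : Irreducible f) (hS : ¬ f ∣ til n f) {v : V}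
    (hv : ev s f v = 0) (hv0 : v ≠ 0) {l : ℕ} (hl : l.Prime) (hlk : l ∣ Nat.card F ^ f.natDegree - 1) :
    ∃ c ∈ O Q, c * s = s * c ∧ c ^ l = 1 ∧ c ≠ 1 := by
  obtain ⟨g, hg1, hg2⟩ := exists_h hf hl hlk
  obtain ⟨N, hN, hNf⟩ := h.frob
  obtain ⟨m, rfl⟩ : ∃ m, N = m + 1 + 1 := ⟨N - 2, by omega⟩
  obtain ⟨l', rfl⟩ : ∃ l', l = l' + 1 := ⟨l - 1, by have := hl.pos; omega⟩
  have hcm : ∀ (a : F[X]) (x : V), ev s a (s x) = s (ev s a x) := fun a x =>
    (ev_comm s (s : V →ₗ[F] V) (fun _ => rfl) a x).symm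
  have hss : ∀ x, s⁻¹ (s x) = x := fun x => LinearEquiv.symm_apply_apply s x
  have hss' : ∀ x, s (s⁻¹ x) = x := fun x => LinearEquiv.apply_symm_apply s x
  have hcm' : ∀ (a : F[X]) (x : V), ev s⁻¹ a (s x) = s (ev s⁻¹ a x) := fun a x =>
    (ev_comm s⁻¹ (s : V →ₗ[F] V) (fun y => by
      show s (s⁻¹ y) = s⁻¹ (s y)
      rw [hss, hss']) a x).symm
  have hcc : ∀ (a b : F[X]) (x : V), ev s⁻¹ a (ev s b x) = ev s b (ev s⁻¹ a x) := fun a b x => by
    rw [← ev_til h, ← ev_til h, ← ev_mul, ← ev_mul, mul_comm]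
  -- the projection
  let e : Module.End F V := ev s (1 - f ^ (m + 1))
  have he : ∀ x, e x = x - ev s (f ^ (m + 1)) x := fun x => by
    show ev s (1 - f ^ (m + 1)) x = _
    rw [ev_sub, ev_one]
  have he1 : ∀ x, ev s f x = 0 → e x = x := fun x hx => by
    rw [he, pow_succ, ev_mul, hx, map_zero, sub_zero]
  have he2 : ∀ x, ev s⁻¹ f x = 0 → e x = 0 := fun x hx => by
    apply eq_zero_of_S h hf hS
    · rw [he, map_sub, ← ev_pow_succ, hNf, sub_self]
    · show ev s⁻¹ f (ev s (1 - f ^ (m + 1)) x) = 0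
      rw [hcc, hx, map_zero]
  let C : Module.End F V := (ev s g) ∘ₗ e + (ev s⁻¹ (g ^ l')) ∘ₗ (LinearMap.id - e)
  have hC1 : ∀ x, ev s f x = 0 → C x = ev s g x := fun x hx => by
    show ev s g (e x) + ev s⁻¹ (g ^ l') (x - e x) = _
    rw [he1 x hx, sub_self, map_zero, add_zero]
  have hC2 : ∀ x, ev s⁻¹ f x = 0 → C x = ev s⁻¹ (g ^ l') x := fun x hx => by
    show ev s g (e x) + ev s⁻¹ (g ^ l') (x - e x) = _
    rw [he2 x hx, sub_zero, map_zero, zero_add]
  have hS' : ¬ f ∣ til n f := hS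
  have t1 : ∀ x y, ev s f x = 0 → ev s f y = 0 → polar Q x y = 0 := fun x y hx hy => ts_polar h hf hS hx hy
  have t2 : ∀ x y, ev s⁻¹ f x = 0 → ev s⁻¹ f y = 0 → polar Q x y = 0 := fun x y hx hy =>
    ts_polar h.inv hf hS hx hy
  have q1 : ∀ x, ev s f x = 0 → Q x = 0 := fun x hx => ts_Q h hf hS hx
  have q2 : ∀ x, ev s⁻¹ f x = 0 → Q x = 0 := fun x hx => ts_Q h.inv hf hS hx
  have k1 : ∀ (a : F[X]) x, ev s f x = 0 → ev s f (ev s a x) = 0 := fun a x hx => by
    rw [← ev_mul, mul_comm, ev_mul, hx, map_zero]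
  have k2 : ∀ (a : F[X]) x, ev s⁻¹ f x = 0 → ev s⁻¹ f (ev s⁻¹ a x) = 0 := fun a x hx => by
    rw [← ev_mul, mul_comm, ev_mul, hx, map_zero]
  have hRT : Rn Q s ⊤ := ⟨fun v _ hv => h.nd v fun y => hv y trivial, fun _ _ _ _ _ => trivial⟩
  have hmem : ∀ x ∈ LinearMap.ker (ev s f) ⊔ LinearMap.ker (ev s⁻¹ f), ∃ a b, ev s f a = 0 ∧ ev s⁻¹ f b = 0 ∧
      x = a + b := by
    intro x hx
    obtain ⟨a, ha, b, hb, rfl⟩ := Submodule.mem_sup.1 hx
    exact ⟨a, b, ha, hb, rfl⟩
  have hin : ∀ a b, ev s f a = 0 → ev s⁻¹ f b = 0 → a + b ∈ LinearMap.ker (ev s f) ⊔ LinearMap.ker (ev s⁻¹ f) :=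
    fun a b ha hb => Submodule.add_mem_sup ha hb
  have hg1' : ∀ x, ev s f x = 0 → ev s (g ^ (l' + 1)) x = x := fun x hx => by
    have h3 := ev_dvd hg1 hx
    rw [ev_sub, ev_one] at h3
    exact sub_eq_zero.1 h3
  have hg2' : ∀ x, ev s⁻¹ f x = 0 → ev s⁻¹ (g ^ (l' + 1)) x = x := fun x hx => by
    have h3 := ev_dvd hg1 hx
    rw [ev_sub, ev_one] at h3
    exact sub_eq_zero.1 h3
  have key : ∃ c ∈ O Q, c * s = s * c ∧ c ^ (l' + 1) = 1 ∧
      ∀ v ∈ LinearMap.ker (ev s f) ⊔ LinearMap.ker (ev s⁻¹ f), c v = C v := by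
    refine exists_comm (l := l' + 1) h
      (B := LinearMap.ker (ev s f) ⊔ LinearMap.ker (ev s⁻¹ f)) ?_ ?_ (C := C) ?_ ?_ ?_ ?_
    · intro x hx hxx
      obtain ⟨a, b, ha, hb, rfl⟩ := hmem x hx
      have ha0 : a = 0 := by
        by_contra ha0
        obtain ⟨w, -, h3, h4⟩ := pair h hRT f trivial ha ha0
        have h5 := hxx w (Submodule.mem_sup_right h3)
        rw [polar_add_left, t2 b w hb h3, add_zero] at h5
        exact h4 h5
      have hb0 : b = 0 := by
        by_contra hb0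
        obtain ⟨w, -, h3, h4⟩ := pair h.inv hRT.inv f trivial hb hb0
        rw [inv_inv] at h3
        have h5 := hxx w (Submodule.mem_sup_left h3)
        rw [polar_add_left, t1 a w ha h3, zero_add] at h5
        exact h4 h5
      rw [ha0, hb0, add_zero]
    · intro x hx
      obtain ⟨a, b, ha, hb, rfl⟩ := hmem x hx
      rw [map_add]
      refine hin _ _ ?_ ?_
      · rw [hcm, ha, map_zero]
      · rw [hcm', hb, map_zero]
    · intro x hx
      obtain ⟨a, b, ha, hb, rfl⟩ := hmem x hx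
      rw [map_add, hC1 a ha, hC2 b hb]
      exact hin _ _ (k1 _ _ ha) (k2 _ _ hb)
    · intro x hx
      obtain ⟨a, b, ha, hb, rfl⟩ := hmem x hx
      rw [map_add, hC1 a ha, hC2 b hb, Q_add, Q_add, q1 a ha, q2 b hb, q1 _ (k1 _ _ ha), q2 _ (k2 _ _ hb), adj h.mem,
        ← ev_pow_succ, hg2' b hb]
    · intro x hx
      obtain ⟨a, b, ha, hb, rfl⟩ := hmem x hx
      rw [map_add, map_add, map_add, hC1 a ha, hC2 b hb, map_add, hC1 _ (by rw [hcm, ha, map_zero]),
        hC2 _ (by rw [hcm', hb, map_zero]), hcm, hcm']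
    · intro x hx
      obtain ⟨a, b, ha, hb, rfl⟩ := hmem x hx
      have i1 : ∀ j : ℕ, ∀ a, ev s f a = 0 → (C ^ j) a = ev s (g ^ j) a := by
        intro j
        induction j with
        | zero => intro a _; rw [pow_zero, pow_zero, ev_one]; rfl
        | succ j ih =>
          intro a ha
          rw [pow_succ, pow_succ, ev_mul]
          show (C ^ j) (C a) = _
          rw [hC1 a ha, ih _ (k1 _ _ ha)]
      have i2 : ∀ j : ℕ, ∀ b, ev s⁻¹ f b = 0 → (C ^ j) b = ev s⁻¹ ((g ^ l') ^ j) b := by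
        intro j
        induction j with
        | zero => intro a _; rw [pow_zero, pow_zero, ev_one]; rfl
        | succ j ih =>
          intro a ha
          rw [pow_succ, pow_succ, ev_mul]
          show (C ^ j) (C a) = _
          rw [hC2 a ha, ih _ (k2 _ _ ha)]
      rw [map_add, i1 _ a ha, i2 _ b hb, hg1' a ha]
      congr 1
      rw [← pow_mul, mul_comm, pow_mul]
      have h4 : f ∣ (g ^ (l' + 1)) ^ l' - 1 := hg1.trans (sub_one_dvd_pow_sub_one _ _)
      have h3 := ev_dvd (s := s⁻¹) h4 hb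
      rw [ev_sub, ev_one] at h3
      exact sub_eq_zero.1 h3
  obtain ⟨c, hc, hcs, hcl, hcB⟩ := key
  · refine ⟨c, hc, hcs, hcl, fun hc1 => ?_⟩
    apply hg2
    apply dvd_of_ev hf hv hv0
    have h3 := hcB v (Submodule.mem_sup_left hv)
    rw [hC1 v hv, hc1] at h3
    rw [ev_sub, ev_one, ← h3]
    exact sub_self v

end Cfsg.Agent.H520.RC
end

-- part: H520/RC/BoxGRec
section
/-!
# S3510, triality type iii, box G: the alternatives for one semisimple isometry (helper520)
-/

set_option autoImplicit false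
set_option linter.unusedSectionVars false

namespace Cfsg.Agent.H520.RC

open Polynomial Module QuadraticMap
open Cfsg.Agent.LieClassical.OrthCore Cfsg.Agent.LieClassical.OrthTrans

variable {F V : Type*} [Field F] [Finite F] [AddCommGroup V] [Module F V] [FiniteDimensional F V]
  {Q : QuadraticForm F V} {s : V ≃ₗ[F] V} {n p : ℕ} {R : Submodule F V}

/-- two dual planes -/
def G1' (Q : QuadraticForm F V) (s : V ≃ₗ[F] V) : Prop :=
  ∃ L L' : Submodule F V, finrank F L = 2 ∧ finrank F L' = 2 ∧ (∀ v ∈ L, Q v = 0) ∧ (∀ v ∈ L', Q v = 0) ∧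
    (∀ v ∈ L, (∀ w ∈ L', polar Q v w = 0) → v = 0) ∧ (∀ v ∈ L, s v ∈ L) ∧ (∀ v ∈ L', s v ∈ L') ∧
    ∀ c ∈ O Q, c * s = s * c → ∀ m : ℕ, Odd m → c ^ m = 1 → ∀ v ∈ L, c v ∈ L

/-- elements of prime order -/
def G2' (Q : QuadraticForm F V) (s : V ≃ₗ[F] V) : Prop :=
  ∃ a : ℕ, (a = Nat.card F ^ 2 + Nat.card F + 1 ∨ a = Nat.card F ^ 2 - Nat.card F + 1 ∨ a = Nat.card F ^ 2 + 1) ∧
    ∀ l : ℕ, l.Prime → l ≠ 2 → l ∣ a → ∃ c ∈ O Q, c ^ l = 1 ∧ c ≠ 1 ∧ c * s = s * c

/-- an anisotropic plane -/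
structure PA (Q : QuadraticForm F V) (s : V ≃ₗ[F] V) (B : Submodule F V) : Prop where
  two : finrank F B = 2
  an : ∀ v ∈ B, Q v = 0 → v = 0
  rot : ∃ t : F, ∀ v ∈ B, s (s v) + v = t • s v

/-- a hyperbolic pair of invariant lines -/
structure PH (Q : QuadraticForm F V) (s : V ≃ₗ[F] V) (u u' : V) : Prop where
  sing : Q u = 0
  sing' : Q u' = 0
  ne : polar Q u u' ≠ 0
  eig : ∃ a : F, s u = a • u
  eig' : ∃ a : F, s u' = a • u'
  pres : ∀ c ∈ O Q, c * s = s * c → ∀ m : ℕ, Odd m → c ^ m = 1 → (∃ a : F, c u = a • u) ∧ ∃ a : F, c u' = a • u'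

theorem comm_ev {c : V ≃ₗ[F] V} (hc : c * s = s * c) (f : F[X]) (v : V) : c (ev s f v) = ev s f (c v) :=
  ev_comm s (c : V →ₗ[F] V) (fun v => LinearEquiv.congr_fun hc v) f v

theorem comm_inv {c : V ≃ₗ[F] V} (hc : c * s = s * c) : c * s⁻¹ = s⁻¹ * c := by
  have h2 : s⁻¹ * (c * s) * s⁻¹ = s⁻¹ * (s * c) * s⁻¹ := by rw [hc]
  simpa only [mul_assoc, _root_.inv_mul_cancel_left, _root_.mul_inv_cancel, _root_.mul_one] using h2.symm

theorem Np.inv (h : Np Q s p) : Np Q s⁻¹ p := fun c hc h1 h2 => h c hc (by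
  have := comm_inv h1
  rwa [inv_inv] at this) h2

theorem Rn.comm (hR : Rn Q s R) {f : F[X]} {c : V ≃ₗ[F] V} (hc : c ∈ O Q) (h : c * s = s * c) {v : V} (hv : v ∈ R)
    (hf : ev s f v = 0) : c v ∈ R ∧ ev s f (c v) = 0 :=
  ⟨hR.can c hc h v hv, by rw [← comm_ev h, hf, map_zero]⟩

/-- the kernel of `f (s)` in `R` -/
noncomputable def kr (s : V ≃ₗ[F] V) (f : F[X]) (R : Submodule F V) : Submodule F V := LinearMap.ker (ev s f) ⊓ R

theorem mem_kr {f : F[X]} {v : V} : v ∈ kr s f R ↔ ev s f v = 0 ∧ v ∈ R := by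
  rw [kr, Submodule.mem_inf, LinearMap.mem_ker]

/-- a nonzero vector in the kernel of few functionals -/
theorem exists_perp {K : Submodule F V} {m : ℕ} (y : Fin m → V) (h : m < finrank F K) :
    ∃ w ∈ K, w ≠ 0 ∧ ∀ i, polar Q (y i) w = 0 := by
  let φ : K →ₗ[F] (Fin m → F) := LinearMap.pi fun i => (polarBilin Q (y i)).comp K.subtype
  have h1 : ¬ Function.Injective φ := by
    intro h2
    have h3 := LinearMap.finrank_le_finrank_of_injective h2
    rw [Module.finrank_fintype_fun_eq_card, Fintype.card_fin] at h3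
    omega
  rw [← LinearMap.ker_eq_bot, Submodule.eq_bot_iff] at h1
  push Not at h1
  obtain ⟨w, hw, hw0⟩ := h1
  refine ⟨w, w.2, fun h2 => hw0 (Subtype.ext h2), fun i => ?_⟩
  exact congrFun (LinearMap.mem_ker.1 hw) i

/-- split, degree one -/
theorem S_one [CharP F p] (h : Sn Q s n) (hp : Np Q s p) {f : F[X]} (hm : f.Monic)
    (hf : Irreducible f) (hS : ¬ f ∣ til n f) (hd : f.natDegree = 1) {u : V}
    (hu : ev s⁻¹ f u = 0) (hu0 : u ≠ 0) : finrank F (kr s f R) ≤ 1 := by
  by_contra hlt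
  obtain ⟨w, hw, hw0, hwu⟩ := exists_perp (Q := Q) (K := kr s f R) (m := 1) (fun _ => u) (by omega)
  rw [mem_kr] at hw
  have e1 := lin_rel hm hd hw.1
  have e2 := lin_rel hm hd hu
  set a : F := -f.coeff 0 with ha
  have ha0 : a ≠ 0 := by
    intro h0
    rw [h0, zero_smul] at e1
    exact hw0 (by simpa using e1)
  have e3 : s u = a⁻¹ • u := by
    have h3 : s (s⁻¹ u) = u := LinearEquiv.apply_symm_apply s u
    rw [e2, map_smul] at h3
    calc s u = a⁻¹ • (a • s u) := (inv_smul_smul₀ ha0 _).symm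
      _ = a⁻¹ • u := by rw [h3]
  refine no_eigen hp h.nd h.mem (ts_Q h hf hS hw.1) (w := u) ?_ hw0 ?_ ha0 e1 e3
  · rw [polar_comm]; exact hwu 0
  · intro b hb
    apply hu0
    apply eq_zero_of_S h hf hS _ hu
    rw [hb, map_smul, hw.1, smul_zero]

/-- split, degree two -/
theorem S_two [CharP F p] (h : Sn Q s n) (hp : Np Q s p) {f : F[X]} (hm : f.Monic)
    (hf : Irreducible f) (hS : ¬ f ∣ til n f) (hd : f.natDegree = 2) {w : V}
    (hw : ev s⁻¹ f w = 0) (hw0 : w ≠ 0) : finrank F (kr s f R) ≤ 2 := by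
  by_contra hlt
  obtain ⟨u, hu, hu0, huw⟩ := exists_perp (Q := Q) (K := kr s f R) (m := 2) ![w, s w] (by omega)
  rw [mem_kr] at hu
  have e1 := quad_rel hm hd hu.1
  have e2 := quad_rel hm hd hw
  have hss : ∀ x, s (s⁻¹ x) = x := fun x => LinearEquiv.apply_symm_apply s x
  have e3 : f.coeff 0 • s (s w) = (-f.coeff 1) • s w - w := by
    have h3 := congrArg (fun x => s (s x)) e2
    simp only [map_sub, map_smul, hss] at h3
    exact eq_sub_of_add_eq (by rw [add_comm]; exact add_eq_of_eq_sub h3)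
  have k1 : polar Q u w = 0 := by rw [polar_comm]; exact huw 0
  have k2 : polar Q u (s w) = 0 := by rw [polar_comm]; exact huw 1
  have k3 : polar Q (s u) w = 0 := by
    have h3 : w = (-f.coeff 1) • s w - f.coeff 0 • s (s w) := by rw [e3]; abel
    rw [h3, polar_sub_right, polar_smul_right, polar_smul_right, polar_map h.mem, polar_map h.mem, k1, k2]
    simp
  have hsu : ev s f (s u) = 0 := by
    have := ev_comm s (s : V →ₗ[F] V) (fun _ => rfl) f u
    have h2 : s (ev s f u) = ev s f (s u) := this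
    rw [← h2, hu.1, map_zero]
  have hsw : ev s⁻¹ f (s w) = 0 := by
    have := ev_comm s⁻¹ (s : V →ₗ[F] V) (fun y => by
      show s (s⁻¹ y) = s⁻¹ (s y)
      rw [hss]; exact (LinearEquiv.symm_apply_apply s y).symm) f w
    have h2 : s (ev s⁻¹ f w) = ev s⁻¹ f (s w) := this
    rw [← h2, hw, map_zero]
  refine no_two hp h.nd h.mem (ts_Q h hf hS hu.1) (ts_Q h.inv hf hS hw) hw0 (ts_polar h hf hS hu.1 hsu)
    (ts_polar h.inv hf hS hw hsw) k1 k3 k2 (fun a b hab => indep hf (by omega) hu.1 hu0 hab) ?_ e1 e3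
  intro a b c d hab
  apply eq_zero_of_S h hf hS
  · rw [map_add, map_smul, map_smul, hu.1, hsu, smul_zero, smul_zero, add_zero]
  · rw [hab, map_add, map_smul, map_smul, hw, hsw, smul_zero, smul_zero, add_zero]

/-- self-dual, degree two -/
theorem N_two [CharP F p] (h : Sn Q s n) (hR : Rn Q s R) (hp : Np Q s p) (h1 : ∀ v ∈ R, s v = v → v = 0)
    (h1' : ∀ v ∈ R, s v = -v → v = 0) {f : F[X]} (hm : f.Monic) (hf : Irreducible f) (hN : f ∣ til n f)
    (hd : f.natDegree = 2) {u : V} (huR : u ∈ R) (hu : ev s f u = 0) (hu0 : u ≠ 0) :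
    Rn Q s (kr s f R) ∧ PA Q s (kr s f R) := by
  have hsR : ∀ v ∈ R, s v ∈ R := fun v hv => hR.s_mem h.mem hv
  have hss : ∀ x, s (s⁻¹ x) = x := fun x => LinearEquiv.apply_symm_apply s x
  -- the coefficient
  have hc0 : f.coeff 0 = 1 := by
    by_contra hne
    have e1 := quad_rel hm hd hu
    have e2 := quad_rel hm hd ((ker_iff_of_N h hN).1 hu)
    have e3 : f.coeff 0 • s (s u) = (-f.coeff 1) • s u - u := by
      have h3 := congrArg (fun x => s (s x)) e2
      simp only [map_sub, map_smul, hss] at h3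
      exact eq_sub_of_add_eq (by rw [add_comm]; exact add_eq_of_eq_sub h3)
    rw [e1] at e3
    have e4 : (1 - f.coeff 0 * f.coeff 0) • u + (f.coeff 1 - f.coeff 0 * f.coeff 1) • s u = 0 := by
      have h4 : (1 - f.coeff 0 * f.coeff 0) • u + (f.coeff 1 - f.coeff 0 * f.coeff 1) • s u =
        f.coeff 0 • ((-f.coeff 1) • s u - f.coeff 0 • u) - ((-f.coeff 1) • s u - u) := by module
      rw [h4, e3, sub_self]
    obtain ⟨k1, k2⟩ := indep hf (by omega) hu hu0 e4
    have k3 : f.coeff 1 = 0 := by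
      have : (1 - f.coeff 0) * f.coeff 1 = 0 := by rw [← k2]; ring
      exact (mul_eq_zero.1 this).resolve_left (sub_ne_zero.2 (Ne.symm hne))
    have k4 : f.coeff 0 = -1 := by
      have : (1 - f.coeff 0) * (1 + f.coeff 0) = 0 := by rw [← k1]; ring
      have := (mul_eq_zero.1 this).resolve_left (sub_ne_zero.2 (Ne.symm hne))
      exact eq_neg_of_add_eq_zero_right this
    have k5 : s (s u) = u := by rw [e1, k3, k4]; simp
    have k6 : s u + u = 0 := h1 _ (R.add_mem (hsR u huR) huR) (by rw [map_add, k5, add_comm])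
    exact hu0 (h1' u huR (eq_neg_of_add_eq_zero_left k6))
  have hrel : ∀ v, ev s f v = 0 → s (s v) = (-f.coeff 1) • s v - v := by
    intro v hv
    have := quad_rel hm hd hv
    rwa [hc0, one_smul] at this
  set t : F := -f.coeff 1 with ht
  -- singular vectors
  have hsing : ∀ v ∈ kr s f R, Q v = 0 → polar Q v (s v) = 0 := by
    intro v hv hQ
    rw [mem_kr] at hv
    have e1 := hrel v hv.1
    have e2 : polar Q (s (s v)) v = t * polar Q (s v) v := by
      rw [e1, polar_sub_left, polar_smul_left, polar_self_of_sing hQ, sub_zero, smul_eq_mul]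
    by_cases ht0 : t = 0
    · rw [ht0, zero_smul, zero_sub] at e1
      have e3 : polar Q (s (s v)) (s v) = polar Q (s v) v := polar_map h.mem _ _
      rw [e1, polar_neg_left, polar_comm Q (s v) v] at e3
      have e4 : (2 : F) * polar Q v (s v) = 0 := by linear_combination (-1 : F) * e3
      rcases mul_eq_zero.1 e4 with h2 | h2
      · exfalso
        have hv0 : v ≠ 0 ∨ v = 0 := (em (v = 0)).symm
        have e5 : -v = v := by
          have : v + v = (2 : F) • v := by rw [two_smul]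
          rw [h2, zero_smul] at this
          exact neg_eq_of_add_eq_zero_left this
        have hu1 : s (s u) = u := by
          have := hrel u hu
          rw [ht0, zero_smul, zero_sub] at this
          rw [this]
          have : u + u = (2 : F) • u := by rw [two_smul]
          rw [h2, zero_smul] at this
          exact neg_eq_of_add_eq_zero_left this
        have k6 : s u + u = 0 := h1 _ (R.add_mem (hsR u huR) huR) (by rw [map_add, hu1, add_comm])
        exact hu0 (h1' u huR (eq_neg_of_add_eq_zero_left k6))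
      · exact h2
    · have e3 : t • v = s v + s⁻¹ v := by
        have h3 := congrArg (fun x => s⁻¹ x) e1
        have hss' : ∀ x, s⁻¹ (s x) = x := fun x => LinearEquiv.symm_apply_apply s x
        simp only [map_sub, map_smul, hss'] at h3
        rw [h3]
        module
      have e4 : t * t * Q v = Q (s v) + Q (s⁻¹ v) + polar Q (s v) (s⁻¹ v) := by
        rw [← Q_add, ← e3, QuadraticMap.map_smul, smul_eq_mul]
      have e5 : polar Q (s v) (s⁻¹ v) = polar Q (s (s v)) v := (polar_s h.mem (s v) v).symm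
      rw [hQ, h.mem v, (inv_mem h.mem : s⁻¹ ∈ O Q) v, hQ, e5, e2, mul_zero, zero_add, zero_add] at e4
      rw [polar_comm]
      exact (mul_eq_zero.1 e4.symm).resolve_left ht0
  have hnotsp : ∀ v ∈ kr s f R, v ≠ 0 → ∀ a : F, s v ≠ a • v := by
    intro v hv hv0 a ha
    have := (indep (a := a) (b := -1) hf (by omega) (mem_kr.1 hv).1 hv0 (by rw [ha]; module)).2
    exact one_ne_zero (neg_eq_zero.1 this)
  have h3 : finrank F (kr s f R) ≤ 2 := by
    by_contra hlt
    obtain ⟨w, hw, hw0, hQw⟩ := Cfsg.Agent.LieClassical.OrthFinite.exists_sing_mem (Q := Q) (kr s f R) (by omega)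
    exact no_quad hp h.nd h.mem hQw hw0 (hnotsp w hw hw0) (hrel w (mem_kr.1 hw).1) (hsing w hw hQw)
  have h4 : finrank F (kr s f R) = 2 := by
    apply le_antisymm h3
    rw [← hd]
    exact natDegree_le hsR hf huR hu hu0 fun w hw hw' => mem_kr.2 ⟨hw', hw⟩
  have hRn : Rn Q s (kr s f R) := by
    constructor
    · intro v hv hvv
      by_contra hv0
      rw [mem_kr] at hv
      obtain ⟨w, hw, hw1, hw2⟩ := pair h hR f hv.2 hv.1 hv0
      exact hw2 (hvv w (mem_kr.2 ⟨(ker_iff_of_N h hN).2 hw1, hw⟩))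
    · intro c hc hcs v hv
      rw [mem_kr] at hv
      have := hR.comm hc hcs hv.2 hv.1
      exact mem_kr.2 ⟨this.2, this.1⟩
  refine ⟨hRn, h4, fun v hv hQ => ?_, t, fun v hv => by rw [hrel v (mem_kr.1 hv).1, sub_add_cancel]⟩
  by_contra hv0
  apply hv0
  apply hRn.nd v hv
  have hsv : s v ∈ kr s f R := hRn.s_mem h.mem hv
  have hspan : Submodule.span F {v, s v} = kr s f R := by
    apply Submodule.eq_of_le_of_finrank_eq
    · rw [Submodule.span_le]
      rintro x (rfl | rfl)
      · exact hv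
      · exact hsv
    · rw [h4]
      have hli : LinearIndependent F ![v, s v] := by
        rw [LinearIndependent.pair_iff]
        intro a b hab
        exact indep hf (by omega) (mem_kr.1 hv).1 hv0 hab
      have := finrank_span_eq_card hli
      rw [Matrix.range_cons, Matrix.range_cons, Matrix.range_empty, Set.union_empty, Set.singleton_union,
        Fintype.card_fin] at this
      exact this
  intro w hw
  rw [← hspan, Submodule.mem_span_pair] at hw
  obtain ⟨a, b, rfl⟩ := hw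
  rw [polar_add_right, polar_smul_right, polar_smul_right, polar_self_of_sing hQ, hsing v hv hQ]
  simp

/-! ### No element without fixed points of order dividing `q ^ 4 + 1` -/

theorem no_eight [Finite V] (hV : finrank F V = 8) (hsg : Cfsg.Agent.H182.Sign.HasSign (⇑Q) 4 1) {c : V ≃ₗ[F] V} (hc : c ∈ O Q)
    {l : ℕ} (hl : l.Prime) (hl2 : l ≠ 2) (hd : l ∣ Nat.card F ^ 4 + 1) (hcl : c ^ l = 1)
    (hfix : ∀ w, c w = w → w = 0) : False := by
  classical
  have hfl : Fact l.Prime := ⟨hl⟩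
  have := Fintype.ofFinite {v : V // Q v = 1}
  let f : Function.End {v : V // Q v = 1} := fun v => ⟨c v, by rw [hc v, v.2]⟩
  have hf : ∀ (m : ℕ) (v : {v : V // Q v = 1}), ((f ^ m) v : V) = (c ^ m) (v : V) := by
    intro m
    induction m with
    | zero => intro v; rfl
    | succ m ih =>
      intro v
      rw [pow_succ, pow_succ]
      show ((f ^ m) (f v) : V) = (c ^ m) (c v)
      rw [ih]
  have h1 : f ^ l ^ 1 = 1 := by
    funext v
    apply Subtype.ext
    rw [hf, pow_one, hcl]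
    rfl
  have h2 := Equiv.Perm.card_fixedPoints_modEq (p := l) (n := 1) h1
  have h3 : Fintype.card (Function.fixedPoints f) = 0 := by
    rw [Fintype.card_eq_zero_iff]
    constructor
    rintro ⟨v, hv⟩
    have h4 : c (v : V) = v := congrArg Subtype.val hv
    have h5 := hfix _ h4
    have h6 := v.2
    rw [h5, QuadraticMap.map_zero] at h6
    exact zero_ne_one h6
  rw [h3] at h2
  have h4 : l ∣ Nat.card {v : V // Q v = 1} := by
    rw [Nat.card_eq_fintype_card]
    exact (Nat.modEq_zero_iff_dvd).1 h2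
  have h5 := Cfsg.Agent.H150.card_of_hasSign (F := F) (Q := ⇑Q) (n := 4) (ε := 1) hsg (by
    rw [Module.natCard_eq_pow_finrank (K := F), hV]) (c := 1) one_ne_zero
  have h6 : (l : ℤ) ∣ (Nat.card F : ℤ) ^ (2 * 4) - 1 * (Nat.card F : ℤ) ^ 4 := by
    rw [← h5]
    exact (Int.natCast_dvd_natCast.2 h4).mul_left _
  have h7 : (l : ℤ) ∣ (Nat.card F : ℤ) ^ 4 + 1 := by exact_mod_cast hd
  have h8 : (l : ℤ) ∣ 2 := by
    have e : (2 : ℤ) = ((Nat.card F : ℤ) ^ (2 * 4) - 1 * (Nat.card F : ℤ) ^ 4) -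
      ((Nat.card F : ℤ) ^ 4 + 1) * ((Nat.card F : ℤ) ^ 4 - 2) := by ring
    rw [e]
    exact dvd_sub h6 (h7.mul_right _)
  have h9 : l ∣ 2 := by exact_mod_cast h8
  exact hl2 ((Nat.prime_dvd_prime_iff_eq hl Nat.prime_two).1 h9)

/-- an odd prime divisor of `x ^ 2 + 1` -/
theorem exists_odd_prime {x : ℕ} (hx : 1 < x) : ∃ l : ℕ, l.Prime ∧ l ≠ 2 ∧ l ∣ x ^ 2 + 1 := by
  by_contra hcon
  push Not at hcon
  have h1 := Nat.eq_prime_pow_of_unique_prime_dvd (n := x ^ 2 + 1) (p := 2) (by omega) (fun {d} hd hdn => by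
    by_contra h2
    exact hcon d hd h2 hdn)
  set k := (x ^ 2 + 1).primeFactorsList.length
  have h2 : 4 < x ^ 2 + 1 := by nlinarith
  have h3 : 2 ≤ k := by
    by_contra hlt
    have : k ≤ 1 := by omega
    have := Nat.pow_le_pow_right (n := 2) (by norm_num) this
    omega
  have h4 : 4 ∣ x ^ 2 + 1 := by
    rw [h1, show (4 : ℕ) = 2 ^ 2 by norm_num]
    exact pow_dvd_pow 2 h3
  have h5 : x ^ 2 % 4 = 0 ∨ x ^ 2 % 4 = 1 := by
    have : x % 4 = 0 ∨ x % 4 = 1 ∨ x % 4 = 2 ∨ x % 4 = 3 := by omega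
    rcases this with h | h | h | h <;> simp [Nat.pow_mod, h]
  omega

end Cfsg.Agent.H520.RC
end

-- part: H520/RC/BoxGRow
section
/-!
# S3510, triality type iii, box G: the blocks (helper520)
-/

set_option autoImplicit false
set_option linter.unusedSectionVars false

namespace Cfsg.Agent.H520.RC

open Polynomial Module QuadraticMap
open Cfsg.Agent.LieClassical.OrthCore Cfsg.Agent.LieClassical.OrthTrans

variable {F V : Type*} [Field F] [Finite F] [AddCommGroup V] [Module F V] [FiniteDimensional F V]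
  {Q : QuadraticForm F V} {s : V ≃ₗ[F] V} {n p : ℕ} {R : Submodule F V}

theorem rn_top (h : Nondeg Q) : Rn Q s ⊤ := ⟨fun v _ hv => h v fun y => hv y trivial, fun _ _ _ _ _ => trivial⟩

theorem exists_smul {K : Submodule F V} (hK : finrank F K ≤ 1) {w x : V} (hw : w ∈ K) (hw0 : w ≠ 0) (hx : x ∈ K) :
    ∃ a : F, x = a • w := by
  have h1 : finrank F K = 1 := by
    apply le_antisymm hK
    rw [Nat.one_le_iff_ne_zero]
    intro h0
    rw [Submodule.finrank_eq_zero.1 h0] at hw
    exact hw0 ((Submodule.mem_bot F).1 hw)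
  obtain ⟨a, ha⟩ := exists_smul_eq_of_finrank_eq_one h1 (x := (⟨w, hw⟩ : K)) (fun h => hw0 (congrArg Subtype.val h))
    ⟨x, hx⟩
  exact ⟨a, (congrArg Subtype.val ha).symm⟩

theorem rn_span {u u' : V} (hu : Q u = 0) (hu' : Q u' = 0) (hne : polar Q u u' ≠ 0)
    (hcan : ∀ c ∈ O Q, c * s = s * c → c u ∈ Submodule.span F {u, u'} ∧ c u' ∈ Submodule.span F {u, u'}) :
    Rn Q s (Submodule.span F {u, u'}) := by
  constructor
  · intro v hv hvv
    obtain ⟨a, b, rfl⟩ := Submodule.mem_span_pair.1 hv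
    have h1 := hvv u (Submodule.subset_span (Set.mem_insert _ _))
    have h2 := hvv u' (Submodule.subset_span (Set.mem_insert_of_mem _ rfl))
    rw [polar_add_left, polar_smul_left, polar_smul_left, polar_self_of_sing hu, smul_zero, zero_add, smul_eq_mul,
      polar_comm] at h1
    rw [polar_add_left, polar_smul_left, polar_smul_left, polar_self_of_sing hu', smul_zero, add_zero, smul_eq_mul] at h2
    rw [(mul_eq_zero.1 h1).resolve_right hne, (mul_eq_zero.1 h2).resolve_right hne, zero_smul, zero_smul, add_zero]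
  · intro c hc hcs v hv
    obtain ⟨a, b, rfl⟩ := Submodule.mem_span_pair.1 hv
    rw [map_add, map_smul, map_smul]
    exact Submodule.add_mem _ (Submodule.smul_mem _ _ (hcan c hc hcs).1) (Submodule.smul_mem _ _ (hcan c hc hcs).2)

theorem block [Finite V] [CharP F p] (h : Sn Q s n) (hR : Rn Q s R) (hp : Np Q s p)
    (h1 : ∀ v ∈ R, s v = v → v = 0) (h1' : ∀ v ∈ R, s v = -v → v = 0) (hV : finrank F V = 8)
    (hsg : Cfsg.Agent.H182.Sign.HasSign (⇑Q) 4 1) (hR0 : R ≠ ⊥) :
    G1' Q s ∨ G2' Q s ∨ (∃ B ≤ R, Rn Q s B ∧ PA Q s B) ∨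
      ∃ u ∈ R, ∃ u' ∈ R, PH Q s u u' ∧ Rn Q s (Submodule.span F {u, u'}) := by
  have hsR : ∀ v ∈ R, s v ∈ R := fun v hv => hR.s_mem h.mem hv
  have hsR' : ∀ v ∈ R, s⁻¹ v ∈ R := fun v hv => hR.sinv_mem h.mem hv
  have hq : 1 < Nat.card F := Finite.one_lt_card
  obtain ⟨v, hv, hv0⟩ := Submodule.exists_mem_ne_zero_of_ne_bot hR0
  have hX : (X ^ n - 1 : F[X]) ≠ 0 := by
    rw [← C_1]
    exact X_pow_sub_C_ne_zero h.pos 1
  obtain ⟨f, hm, hf, w, hw, hw0, hfw⟩ := exists_irr hX hsR hv hv0 (by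
      rw [ev_sub, ev_X_pow, ev_one, h.pow]
      exact sub_self v)
  have hdpos : 0 < f.natDegree := hf.natDegree_pos
  by_cases hN : f ∣ til n f
  · have h2 : ¬ f ∣ X ^ 2 - 1 := by
      intro h3
      have h4 := ev_dvd h3 hfw
      rw [ev_sub, ev_X_pow, ev_one, pow_two] at h4
      have h5 : s (s w) = w := sub_eq_zero.1 h4
      have k6 : s w + w = 0 := h1 _ (R.add_mem (hsR w hw) hw) (by rw [map_add, h5, add_comm])
      exact hw0 (h1' w hw (eq_neg_of_add_eq_zero_left k6))
    obtain ⟨k, hk, hc⟩ := case_N h hf hN h2 hfw hw0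
    have hle : f.natDegree ≤ 8 := by
      have := natDegree_le (R := ⊤) (fun _ _ => trivial) hf trivial hfw hw0 (K := ⊤) (fun _ _ _ => trivial)
      rwa [finrank_top, hV] at this
    have hc' : ∀ l : ℕ, l.Prime → l ∣ Nat.card F ^ k + 1 → ∃ c ∈ O Q, c ^ l = 1 ∧ c ≠ 1 ∧ c * s = s * c := by
      intro l hl hd
      obtain ⟨c, hcO, hcs, hcl, hfix⟩ := hc l hl hd
      refine ⟨c, hcO, hcl, fun hc1 => hw0 (hfix w hfw ?_), hcs⟩
      rw [hc1]
      rfl
    have hk4 : k ≤ 4 := by omega
    have hcases : k = 0 ∨ k = 1 ∨ k = 2 ∨ k = 3 ∨ k = 4 := by omega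
    rcases hcases with rfl | rfl | rfl | rfl | rfl
    · omega
    · obtain ⟨a, b⟩ := N_two h hR hp h1 h1' hm hf hN hk hw hfw hw0
      exact Or.inr (Or.inr (Or.inl ⟨_, inf_le_right, a, b⟩))
    · exact Or.inr (Or.inl ⟨_, Or.inr (Or.inr rfl), fun l hl _ hd => hc' l hl hd⟩)
    · refine Or.inr (Or.inl ⟨_, Or.inr (Or.inl rfl), fun l hl _ hd => hc' l hl (hd.trans ?_)⟩)
      have e : Nat.card F ^ 3 + 1 = (Nat.card F ^ 2 - Nat.card F + 1) * (Nat.card F + 1) := by
        have h3 : Nat.card F ≤ Nat.card F ^ 2 := Nat.le_self_pow two_ne_zero _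
        zify [h3]
        ring
      rw [e]
      exact dvd_mul_right _ _
    · exfalso
      obtain ⟨l, hl, hl2, hd⟩ := exists_odd_prime (x := Nat.card F ^ 2) (Nat.one_lt_pow two_ne_zero hq)
      rw [← pow_mul] at hd
      obtain ⟨c, hcO, -, hcl, hfix⟩ := hc l hl hd
      refine no_eight hV hsg hcO hl hl2 hd hcl fun x hx => hfix x ?_ hx
      have h3 : LinearMap.ker (ev s f) = ⊤ := by
        apply Submodule.eq_top_of_finrank_eq
        have h4 := natDegree_le (R := ⊤) (fun _ _ => trivial) hf trivial hfw hw0 (K := LinearMap.ker (ev s f))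
          (fun _ _ h => h)
        have h5 := Submodule.finrank_le (LinearMap.ker (ev s f))
        omega
      have h4 : x ∈ LinearMap.ker (ev s f) := by rw [h3]; trivial
      exact h4
  · obtain ⟨w', hw', hfw', hww'⟩ := pair h hR f hw hfw hw0
    have hw0' : w' ≠ 0 := by
      intro h0
      rw [h0, polar_zero_right] at hww'
      exact hww' rfl
    have hfw2 : ev (s⁻¹)⁻¹ f w = 0 := by rw [inv_inv]; exact hfw
    have hd4 : f.natDegree ≤ 4 := by
      have a1 := natDegree_le (R := ⊤) (fun _ _ => trivial) hf trivial hfw hw0 (K := LinearMap.ker (ev s f))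
        (fun _ _ h => h)
      have a2 := natDegree_le (R := ⊤) (s := s⁻¹) (fun _ _ => trivial) hf trivial hfw' hw0'
        (K := LinearMap.ker (ev s⁻¹ f)) (fun _ _ h => h)
      have a3 : Disjoint (LinearMap.ker (ev s f)) (LinearMap.ker (ev s⁻¹ f)) := by
        rw [Submodule.disjoint_def]
        intro x hx hx'
        exact eq_zero_of_S h hf hN hx hx'
      have a4 := Submodule.finrank_add_finrank_le_of_disjoint a3
      omega
    have hcases : f.natDegree = 1 ∨ f.natDegree = 2 ∨ f.natDegree = 3 ∨ f.natDegree = 4 := by omega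
    rcases hcases with hd | hd | hd | hd
    · have k1 := S_one (R := R) h hp hm hf hN hd hfw' hw0'
      have k2 := S_one (R := R) h.inv hp.inv hm hf hN hd hfw2 hw0
      have hcan : ∀ c ∈ O Q, c * s = s * c → (∃ a : F, c w = a • w) ∧ ∃ a : F, c w' = a • w' := by
        intro c hc hcs
        have a1 := hR.comm hc hcs hw hfw
        have a2 := hR.inv.comm hc (comm_inv hcs) hw' hfw'
        exact ⟨exists_smul k1 (mem_kr.2 ⟨hfw, hw⟩) hw0 (mem_kr.2 ⟨a1.2, a1.1⟩),
          exists_smul k2 (mem_kr.2 ⟨hfw', hw'⟩) hw0' (mem_kr.2 ⟨a2.2, a2.1⟩)⟩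
      refine Or.inr (Or.inr (Or.inr ⟨w, hw, w', hw', ⟨ts_Q h hf hN hfw, ts_Q h.inv hf hN hfw', hww', ?_, ?_, ?_⟩, ?_⟩))
      · exact (hcan s h.mem rfl).1
      · exact (hcan s h.mem rfl).2
      · exact fun c hc hcs m _ _ => hcan c hc hcs
      · apply rn_span (ts_Q h hf hN hfw) (ts_Q h.inv hf hN hfw') hww'
        intro c hc hcs
        obtain ⟨⟨a, ha⟩, ⟨b, hb⟩⟩ := hcan c hc hcs
        rw [ha, hb]
        exact ⟨Submodule.smul_mem _ _ (Submodule.subset_span (Set.mem_insert _ _)),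
          Submodule.smul_mem _ _ (Submodule.subset_span (Set.mem_insert_of_mem _ rfl))⟩
    · left
      have k1 := S_two (R := R) h hp hm hf hN hd hfw' hw0'
      have k2 := S_two (R := R) h.inv hp.inv hm hf hN hd hfw2 hw0
      have a1 := natDegree_le hsR hf hw hfw hw0 (K := kr s f R) (fun x hx hfx => mem_kr.2 ⟨hfx, hx⟩)
      have a2 := natDegree_le (s := s⁻¹) hsR' hf hw' hfw' hw0' (K := kr s⁻¹ f R) (fun x hx hfx => mem_kr.2 ⟨hfx, hx⟩)
      refine ⟨kr s f R, kr s⁻¹ f R, by omega, by omega, fun x hx => ts_Q h hf hN (mem_kr.1 hx).1,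
        fun x hx => ts_Q h.inv hf hN (mem_kr.1 hx).1, ?_, ?_, ?_, ?_⟩
      · intro x hx hxx
        by_contra hx0
        obtain ⟨y, hy, hy1, hy2⟩ := pair h hR f (mem_kr.1 hx).2 (mem_kr.1 hx).1 hx0
        exact hy2 (hxx y (mem_kr.2 ⟨hy1, hy⟩))
      · intro x hx
        have a3 := hR.comm h.mem rfl (mem_kr.1 hx).2 (mem_kr.1 hx).1
        exact mem_kr.2 ⟨a3.2, a3.1⟩
      · intro x hx
        have a3 := hR.inv.comm h.mem (comm_inv rfl) (mem_kr.1 hx).2 (mem_kr.1 hx).1
        exact mem_kr.2 ⟨a3.2, a3.1⟩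
      · intro c hc hcs _ _ _ x hx
        have a3 := hR.comm hc hcs (mem_kr.1 hx).2 (mem_kr.1 hx).1
        exact mem_kr.2 ⟨a3.2, a3.1⟩
    · refine Or.inr (Or.inl ⟨_, Or.inl rfl, fun l hl _ hdl => ?_⟩)
      obtain ⟨c, hc, hcs, hcl, hc1⟩ := case_S h hf hN hfw hw0 hl (by
        rw [hd]
        refine hdl.trans ?_
        have e : Nat.card F ^ 3 - 1 = (Nat.card F ^ 2 + Nat.card F + 1) * (Nat.card F - 1) := by
          have h3 : 1 ≤ Nat.card F ^ 3 := Nat.one_le_pow _ _ (by omega)
          zify [h3, hq.le]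
          ring
        rw [e]
        exact dvd_mul_right _ _)
      exact ⟨c, hc, hcl, hc1, hcs⟩
    · refine Or.inr (Or.inl ⟨_, Or.inr (Or.inr rfl), fun l hl _ hdl => ?_⟩)
      obtain ⟨c, hc, hcs, hcl, hc1⟩ := case_S h hf hN hfw hw0 hl (by
        rw [hd]
        refine hdl.trans ?_
        have e : Nat.card F ^ 4 - 1 = (Nat.card F ^ 2 + 1) * (Nat.card F ^ 2 - 1) := by
          have h3 : 1 ≤ Nat.card F ^ 4 := Nat.one_le_pow _ _ (by omega)
          have h4 : 1 ≤ Nat.card F ^ 2 := Nat.one_le_pow _ _ (by omega)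
          zify [h3, h4]
          ring
        rw [e]
        exact dvd_mul_right _ _)
      exact ⟨c, hc, hcl, hc1, hcs⟩

end Cfsg.Agent.H520.RC
end

-- part: H520/RC/BoxGFin
section
/-!
# S3510, triality type iii, box G: the decomposition (helper520)
-/

set_option autoImplicit false
set_option linter.unusedSectionVars false
set_option linter.unusedSimpArgs false

namespace Cfsg.Agent.H520.RC

open Polynomial Module QuadraticMap
open Cfsg.Agent.LieClassical.OrthCore Cfsg.Agent.LieClassical.OrthTrans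
open Cfsg.Agent.H182.Sign (HasSign)

variable {F V : Type*} [Field F] [Finite F] [AddCommGroup V] [Module F V] [FiniteDimensional F V] [Finite V]
  {Q : QuadraticForm F V} {s : V ≃ₗ[F] V} {n p : ℕ} {R B : Submodule F V}

/-! ### Signs -/

theorem sign_PA (h : PA Q s B) : HasSign (fun v : B => Q v) 1 (-1) := by
  have h1 := Cfsg.Agent.H182.Sign.isMinus_of_aniso (F := F) (V := B) (Q.comp B.subtype) h.two (fun x hx h0 =>
    hx (Subtype.ext (h.an x x.2 h0)))
  obtain ⟨a, b, hab, e, he⟩ := h1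
  exact (Cfsg.Agent.H182.Sign.hasSign_minusForm 0 hab).congr e.toEquiv fun v => he v

theorem span_equiv {u u' : V} (hu : Q u = 0) (hu' : Q u' = 0) (hne : polar Q u u' ≠ 0) :
    ∃ e : (F × F) ≃ Submodule.span F {u, u'}, ∀ p : F × F, Q (e p : V) = p.1 * p.2 := by
  let β := polar Q u u'
  have hmem : ∀ a b : F, a • u + b • u' ∈ Submodule.span F {u, u'} := fun a b =>
    Submodule.mem_span_pair.2 ⟨a, b, rfl⟩
  refine ⟨Equiv.ofBijective (fun p => ⟨p.1 • u + (p.2 / β) • u', hmem _ _⟩) ⟨?_, ?_⟩, ?_⟩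
  · rintro ⟨a, b⟩ ⟨c, d⟩ hab
    have h1 : a • u + (b / β) • u' = c • u + (d / β) • u' := congrArg Subtype.val hab
    have h2 := congrArg (fun v => polar Q v u') h1
    have h3 := congrArg (fun v => polar Q u v) h1
    simp only [polar_add_left, polar_smul_left, polar_self_of_sing hu', mul_zero, smul_zero, add_zero, smul_eq_mul, add_zero, zero_add] at h2
    simp only [polar_add_right, polar_smul_right, polar_self_of_sing hu, mul_zero, smul_zero, zero_add, smul_eq_mul, add_zero, zero_add] at h3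
    have h4 : a = c := mul_right_cancel₀ hne h2
    have h5 : b / β = d / β := mul_right_cancel₀ hne h3
    have h6 : b = d := by
      have h7 : b / β * β = d / β * β := by rw [h5]
      rwa [div_mul_cancel₀ _ hne, div_mul_cancel₀ _ hne] at h7
    rw [h4, h6]
  · rintro ⟨v, hv⟩
    obtain ⟨a, b, rfl⟩ := Submodule.mem_span_pair.1 hv
    refine ⟨(a, b * β), Subtype.ext ?_⟩
    show a • u + (b * β / β) • u' = _
    rw [mul_div_cancel_right₀ _ hne]
  · rintro ⟨a, b⟩
    show Q (a • u + (b / β) • u') = a * b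
    rw [Q_add, QuadraticMap.map_smul, QuadraticMap.map_smul, hu, hu', polar_smul_left, polar_smul_right]
    show _ + a * (b / β * β) = _
    rw [div_mul_cancel₀ _ hne]
    simp

theorem sign_PH {u u' : V} (h : PH Q s u u') : HasSign (fun v : Submodule.span F {u, u'} => Q v) 1 1 := by
  obtain ⟨e, he⟩ := span_equiv h.sing h.sing' h.ne
  exact Cfsg.Agent.H182.Sign.hasSign_mul.congr e he

theorem finrank_PH {u u' : V} (h : PH Q s u u') : finrank F (Submodule.span F {u, u'}) = 2 := by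
  have hli : LinearIndependent F ![u, u'] := by
    rw [LinearIndependent.pair_iff]
    intro a b hab
    have h2 := congrArg (fun v => polar Q v u') hab
    have h3 := congrArg (fun v => polar Q u v) hab
    simp only [polar_add_left, polar_smul_left, polar_self_of_sing h.sing', mul_zero, smul_zero, add_zero, smul_eq_mul,
      polar_zero_left, add_zero, zero_add] at h2
    simp only [polar_add_right, polar_smul_right, polar_self_of_sing h.sing, mul_zero, smul_zero, zero_add, smul_eq_mul,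
      polar_zero_right, add_zero, zero_add] at h3
    exact ⟨(mul_eq_zero.1 h2).resolve_right h.ne, (mul_eq_zero.1 h3).resolve_right h.ne⟩
  have := finrank_span_eq_card hli
  rw [Matrix.range_cons, Matrix.range_cons, Matrix.range_empty, Set.union_empty, Set.singleton_union,
    Fintype.card_fin] at this
  exact this

theorem sign_sum (hB : ∀ v ∈ B, (∀ w ∈ B, polar Q v w = 0) → v = 0) (hBR : B ≤ R) {a b : ℕ} {ε ε' : ℤ}
    (h1 : HasSign (fun v : B => Q v) a ε) (h2 : HasSign (fun v : (pp Q B ⊓ R : Submodule F V) => Q v) b ε') :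
    HasSign (fun v : R => Q v) (a + b) (ε * ε') := by
  let e : B × (pp Q B ⊓ R : Submodule F V) → R := fun x => ⟨x.1 + x.2, R.add_mem (hBR x.1.2) x.2.2.2⟩
  have he : Function.Bijective e := by
    constructor
    · rintro ⟨x, y⟩ ⟨x', y'⟩ hxy
      have h3 : (x : V) + y = x' + y' := congrArg Subtype.val hxy
      have h4 : (x : V) - x' = y' - y := by
        rw [sub_eq_sub_iff_add_eq_add, h3, add_comm]
      have h5 : (x : V) - x' = 0 := by
        apply hB _ (B.sub_mem x.2 x'.2)
        intro w hw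
        rw [h4, polar_comm]
        exact (pp Q B).sub_mem y'.2.1 y.2.1 w hw
      rw [h5] at h4
      exact Prod.ext (Subtype.ext (sub_eq_zero.1 h5)) (Subtype.ext (sub_eq_zero.1 h4.symm).symm)
    · rintro ⟨v, hv⟩
      obtain ⟨b, hb, hb'⟩ := exists_proj hB v
      exact ⟨(⟨b, hb⟩, ⟨v - b, hb', R.sub_mem hv (hBR hb)⟩), Subtype.ext (add_sub_cancel b v)⟩
  refine (h1.prod h2).congr (Equiv.ofBijective e he) fun x => ?_
  show Q ((x.1 : V) + x.2) = _
  rw [Q_add, x.2.2.1 x.1 x.1.2, add_zero]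

theorem finrank_sum (hB : ∀ v ∈ B, (∀ w ∈ B, polar Q v w = 0) → v = 0) (hBR : B ≤ R) :
    finrank F R = finrank F B + finrank F (pp Q B ⊓ R : Submodule F V) := by
  have h1 : B ⊔ (pp Q B ⊓ R) = R := by
    apply le_antisymm (sup_le hBR inf_le_right)
    intro v hv
    obtain ⟨b, hb, hb'⟩ := exists_proj hB v
    rw [← add_sub_cancel b v]
    exact Submodule.add_mem_sup hb ⟨hb', R.sub_mem hv (hBR hb)⟩
  have h2 : B ⊓ (pp Q B ⊓ R) = ⊥ := by
    rw [eq_bot_iff]
    rintro v ⟨hv, hv', -⟩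
    exact hB v hv fun w hw => by rw [polar_comm]; exact hv' w hw
  have h3 := Submodule.finrank_sup_add_finrank_inf_eq B (pp Q B ⊓ R)
  rw [h1, h2, finrank_bot, add_zero] at h3
  exact h3

theorem Rn.perp (hB : Rn Q s B) (hR : Rn Q s R) (hBR : B ≤ R) : Rn Q s (pp Q B ⊓ R) := by
  constructor
  · intro v hv hvv
    apply hR.nd v hv.2
    intro y hy
    obtain ⟨b, hb, hb'⟩ := exists_proj hB.nd y
    rw [← add_sub_cancel b y, polar_add_right, hvv _ ⟨hb', R.sub_mem hy (hBR hb)⟩, add_zero, polar_comm]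
    exact hv.1 b hb
  · intro c hc hcs v hv
    exact ⟨pp_inv hc (hB.can c hc hcs) v hv.1, hR.can c hc hcs v hv.2⟩

/-! ### Outcomes -/

/-- orthogonal sum of anisotropic planes -/
def OutA (Q : QuadraticForm F V) (s : V ≃ₗ[F] V) (R : Submodule F V) (k : ℕ) : Prop :=
  (∃ P : Fin k → Submodule F V, (∀ i, P i ≤ R) ∧ (∀ i, Rn Q s (P i)) ∧ (∀ i, PA Q s (P i)) ∧
    ∀ i j, i ≠ j → ∀ v ∈ P i, ∀ w ∈ P j, polar Q v w = 0) ∧ HasSign (fun v : R => Q v) k ((-1) ^ k)

/-- exactly one hyperbolic plane -/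
def OutB (Q : QuadraticForm F V) (s : V ≃ₗ[F] V) (R : Submodule F V) (k : ℕ) : Prop :=
  (∃ u ∈ R, ∃ u' ∈ R, PH Q s u u') ∧ HasSign (fun v : R => Q v) k (-(-1) ^ k)

/-- the outcome -/
def Out (Q : QuadraticForm F V) (s : V ≃ₗ[F] V) (R : Submodule F V) : Prop :=
  ∃ k, finrank F R = 2 * k ∧ (OutA Q s R k ∨ OutB Q s R k)

theorem add_PA (hB : Rn Q s B) (hP : PA Q s B) (hBR : B ≤ R) (h : Out Q s (pp Q B ⊓ R)) : Out Q s R := by
  obtain ⟨k, hk, h⟩ := h
  refine ⟨k + 1, by rw [finrank_sum hB.nd hBR, hP.two, hk]; ring, ?_⟩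
  rcases h with ⟨⟨P, hP1, hP2, hP3, hP4⟩, hs⟩ | ⟨⟨u, hu, u', hu', hPH⟩, hs⟩
  · left
    refine ⟨⟨Fin.cons B P, ?_, ?_, ?_, ?_⟩, ?_⟩
    · intro i
      refine Fin.cases ?_ (fun i => ?_) i
      · exact hBR
      · exact (hP1 i).trans inf_le_right
    · intro i
      refine Fin.cases ?_ (fun i => ?_) i
      · exact hB
      · exact hP2 i
    · intro i
      refine Fin.cases ?_ (fun i => ?_) i
      · exact hP
      · exact hP3 i
    · intro i j
      refine Fin.cases ?_ (fun i => ?_) i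
      · refine Fin.cases ?_ (fun j => ?_) j
        · intro h; exact absurd rfl h
        · intro _ v hv w hw
          exact (hP1 j hw).1 v hv
      · refine Fin.cases ?_ (fun j => ?_) j
        · intro _ v hv w hw
          rw [polar_comm]
          exact (hP1 i hv).1 w hw
        · intro hij v hv w hw
          exact hP4 i j (fun h => hij (by rw [h])) v hv w hw
    · have h1 := sign_sum hB.nd hBR (sign_PA hP) hs
      rw [add_comm 1 k] at h1
      rw [pow_succ, mul_comm]
      exact h1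
  · right
    refine ⟨⟨u, hu.2, u', hu'.2, hPH⟩, ?_⟩
    have h1 := sign_sum hB.nd hBR (sign_PA hP) hs
    rw [add_comm 1 k] at h1
    have e : (-(-1) ^ (k + 1) : ℤ) = -1 * -(-1) ^ k := by rw [pow_succ]; ring
    rw [e]
    exact h1

theorem two_PH {u u' v v' : V} (h : PH Q s u u') (h' : PH Q s v v') (huv : polar Q u v = 0)
    (huv' : polar Q u v' = 0) (hu'v : polar Q u' v = 0) (hu'v' : polar Q u' v' = 0) : G1' Q s := by
  have huv2 : polar Q v u = 0 := by rw [polar_comm]; exact huv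
  have hv'u : polar Q v' u = 0 := by rw [polar_comm]; exact huv'
  have hvu' : polar Q v u' = 0 := by rw [polar_comm]; exact hu'v
  have hv'u' : polar Q v' u' = 0 := by rw [polar_comm]; exact hu'v'
  have hli : ∀ a b : F, a • u + b • v = 0 → a = 0 ∧ b = 0 := by
    intro a b hab
    have h2 := congrArg (fun x => polar Q x u') hab
    have h3 := congrArg (fun x => polar Q x v') hab
    simp only [polar_add_left, polar_smul_left, hvu', mul_zero, smul_zero, add_zero, smul_eq_mul, polar_zero_left, mul_zero, add_zero, zero_add] at h2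
    simp only [polar_add_left, polar_smul_left, huv', mul_zero, smul_zero, zero_add, smul_eq_mul, polar_zero_left, mul_zero, add_zero, zero_add] at h3
    exact ⟨(mul_eq_zero.1 h2).resolve_right h.ne, (mul_eq_zero.1 h3).resolve_right h'.ne⟩
  have hli' : ∀ a b : F, a • u' + b • v' = 0 → a = 0 ∧ b = 0 := by
    intro a b hab
    have h2 := congrArg (fun x => polar Q u x) hab
    have h3 := congrArg (fun x => polar Q v x) hab
    simp only [polar_add_right, polar_smul_right, huv', mul_zero, smul_zero, add_zero, smul_eq_mul, polar_zero_right,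
      mul_zero, add_zero, zero_add] at h2
    simp only [polar_add_right, polar_smul_right, hvu', mul_zero, smul_zero, zero_add, smul_eq_mul, polar_zero_right,
      mul_zero, add_zero, zero_add] at h3
    exact ⟨(mul_eq_zero.1 h2).resolve_right h.ne, (mul_eq_zero.1 h3).resolve_right h'.ne⟩
  have fr : ∀ x y : V, (∀ a b : F, a • x + b • y = 0 → a = 0 ∧ b = 0) → finrank F (Submodule.span F {x, y}) = 2 := by
    intro x y hxy
    have := finrank_span_eq_card (LinearIndependent.pair_iff.2 hxy)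
    rw [Matrix.range_cons, Matrix.range_cons, Matrix.range_empty, Set.union_empty, Set.singleton_union,
      Fintype.card_fin] at this
    exact this
  have sub1 : ∀ x y : V, x ∈ Submodule.span F {x, y} := fun x y => Submodule.subset_span (Set.mem_insert _ _)
  have sub2 : ∀ x y : V, y ∈ Submodule.span F {x, y} := fun x y => Submodule.subset_span (Set.mem_insert_of_mem _ rfl)
  have inv : ∀ (c : V ≃ₗ[F] V) (x y : V), (∃ a : F, c x = a • x) → (∃ a : F, c y = a • y) →
      ∀ z ∈ Submodule.span F {x, y}, c z ∈ Submodule.span F {x, y} := by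
    rintro c x y ⟨a, ha⟩ ⟨b, hb⟩ z hz
    obtain ⟨α, β, rfl⟩ := Submodule.mem_span_pair.1 hz
    rw [map_add, map_smul, map_smul, ha, hb]
    exact Submodule.add_mem _ (Submodule.smul_mem _ _ (Submodule.smul_mem _ _ (sub1 x y)))
      (Submodule.smul_mem _ _ (Submodule.smul_mem _ _ (sub2 x y)))
  refine ⟨Submodule.span F {u, v}, Submodule.span F {u', v'}, fr _ _ hli, fr _ _ hli', ?_, ?_, ?_, ?_, ?_, ?_⟩
  · intro z hz
    obtain ⟨a, b, rfl⟩ := Submodule.mem_span_pair.1 hz
    rw [Q_add, QuadraticMap.map_smul, QuadraticMap.map_smul, h.sing, h'.sing, polar_smul_left, polar_smul_right, huv]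
    simp
  · intro z hz
    obtain ⟨a, b, rfl⟩ := Submodule.mem_span_pair.1 hz
    rw [Q_add, QuadraticMap.map_smul, QuadraticMap.map_smul, h.sing', h'.sing', polar_smul_left, polar_smul_right,
      hu'v']
    simp
  · intro z hz hzz
    obtain ⟨a, b, rfl⟩ := Submodule.mem_span_pair.1 hz
    have h2 := hzz u' (sub1 _ _)
    have h3 := hzz v' (sub2 _ _)
    simp only [polar_add_left, polar_smul_left, hvu', mul_zero, smul_zero, add_zero, smul_eq_mul, add_zero, zero_add] at h2
    simp only [polar_add_left, polar_smul_left, huv', mul_zero, smul_zero, zero_add, smul_eq_mul, add_zero, zero_add] at h3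
    rw [(mul_eq_zero.1 h2).resolve_right h.ne, (mul_eq_zero.1 h3).resolve_right h'.ne, zero_smul, zero_smul, add_zero]
  · exact inv s u v h.eig h'.eig
  · exact inv s u' v' h.eig' h'.eig'
  · intro c hc hcs m hm hcm
    exact inv c u v (h.pres c hc hcs m hm hcm).1 (h'.pres c hc hcs m hm hcm).1

theorem add_PH {u u' : V} (hu : u ∈ R) (hu' : u' ∈ R) (hB : Rn Q s (Submodule.span F {u, u'})) (hP : PH Q s u u')
    (h : Out Q s (pp Q (Submodule.span F {u, u'}) ⊓ R)) : G1' Q s ∨ Out Q s R := by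
  have hBR : Submodule.span F {u, u'} ≤ R := by
    rw [Submodule.span_le]
    rintro x (rfl | rfl)
    · exact hu
    · exact hu'
  obtain ⟨k, hk, h⟩ := h
  have hk' : finrank F R = 2 * (k + 1) := by rw [finrank_sum hB.nd hBR, finrank_PH hP, hk]; ring
  rcases h with ⟨-, hs⟩ | ⟨⟨v, hv, v', hv', hPH⟩, hs⟩
  · right
    refine ⟨k + 1, hk', Or.inr ⟨⟨u, hu, u', hu', hP⟩, ?_⟩⟩
    have h1 := sign_sum hB.nd hBR (sign_PH hP) hs
    rw [add_comm 1 k] at h1
    have e : (-(-1) ^ (k + 1) : ℤ) = 1 * (-1) ^ k := by rw [pow_succ]; ring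
    rw [e]
    exact h1
  · left
    have s1 : u ∈ Submodule.span F {u, u'} := Submodule.subset_span (Set.mem_insert _ _)
    have s2 : u' ∈ Submodule.span F {u, u'} := Submodule.subset_span (Set.mem_insert_of_mem _ rfl)
    exact two_PH hP hPH (hv.1 _ s1) (hv'.1 _ s1) (hv.1 _ s2) (hv'.1 _ s2)

/-- the part without eigenvalues `1`, `-1` -/
theorem rec [CharP F p] (h : Sn Q s n) (hp : Np Q s p) (hV : finrank F V = 8) (hsg : HasSign (⇑Q) 4 1) :
    ∀ m : ℕ, ∀ R : Submodule F V, finrank F R = m → Rn Q s R → (∀ v ∈ R, s v = v → v = 0) →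
      (∀ v ∈ R, s v = -v → v = 0) → G1' Q s ∨ G2' Q s ∨ Out Q s R := by
  intro m
  induction m using Nat.strong_induction_on with
  | _ m ih =>
    intro R hm hR h1 h1'
    by_cases hR0 : R = ⊥
    · subst hR0
      refine Or.inr (Or.inr ⟨0, by rw [finrank_bot], Or.inl ⟨⟨fun i => i.elim0, fun i => i.elim0, fun i => i.elim0,
        fun i => i.elim0, fun i => i.elim0⟩, ?_⟩⟩)
      rw [pow_zero]
      exact Cfsg.Agent.H182.Sign.hasSign_zero _ fun v => by
        rw [(Submodule.mem_bot F).1 v.2, QuadraticMap.map_zero]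
    · rcases block h hR hp h1 h1' hV hsg hR0 with h2 | h2 | ⟨B, hBR, hB, hP⟩ | ⟨u, hu, u', hu', hP, hB⟩
      · exact Or.inl h2
      · exact Or.inr (Or.inl h2)
      · have h3 := finrank_sum hB.nd hBR
        rcases ih _ (by rw [hP.two] at h3; omega) (pp Q B ⊓ R) rfl (hB.perp hR hBR) (fun v hv => h1 v hv.2)
          (fun v hv => h1' v hv.2) with h4 | h4 | h4
        · exact Or.inl h4
        · exact Or.inr (Or.inl h4)
        · exact Or.inr (Or.inr (add_PA hB hP hBR h4))
      · have hBR : Submodule.span F {u, u'} ≤ R := by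
          rw [Submodule.span_le]
          rintro x (rfl | rfl)
          · exact hu
          · exact hu'
        have h3 := finrank_sum hB.nd hBR
        rcases ih _ (by rw [finrank_PH hP] at h3; omega) (pp Q (Submodule.span F {u, u'}) ⊓ R) rfl
          (hB.perp hR hBR) (fun v hv => h1 v hv.2) (fun v hv => h1' v hv.2) with h4 | h4 | h4
        · exact Or.inl h4
        · exact Or.inr (Or.inl h4)
        · rcases add_PH hu hu' hB hP h4 with h5 | h5
          · exact Or.inl h5
          · exact Or.inr (Or.inr h5)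

end Cfsg.Agent.H520.RC
end

-- part: H520/RC/BoxGPm
section
/-!
# S3510, triality type iii, box G: the eigenvalues `1`, `-1` and the end for one isometry (helper520)
-/

set_option autoImplicit false
set_option linter.unusedSectionVars false
set_option linter.unusedSimpArgs false

namespace Cfsg.Agent.H520.RC

open Polynomial Module QuadraticMap
open Cfsg.Agent.LieClassical.OrthCore Cfsg.Agent.LieClassical.OrthTrans
open Cfsg.Agent.H182.Sign (HasSign)

variable {F V : Type*} [Field F] [Finite F] [AddCommGroup V] [Module F V] [FiniteDimensional F V] [Finite V]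
  {Q : QuadraticForm F V} {s : V ≃ₗ[F] V} {n p : ℕ} {R B : Submodule F V} {ε : F}

/-- the eigenspace -/
noncomputable def Ke (s : V ≃ₗ[F] V) (ε : F) : Submodule F V := LinearMap.ker (ev s (X - C ε))

theorem mem_Ke {v : V} : v ∈ Ke s ε ↔ s v = ε • v := by
  rw [Ke, LinearMap.mem_ker, ev_sub, ev_X, ev_C, sub_eq_zero]

theorem Ke_rn (h : Sn Q s n) (hε : ε * ε = 1) : Rn Q s (Ke s ε) := by
  constructor
  · intro v hv hvv
    by_contra hv0
    obtain ⟨w, -, hw1, hw2⟩ := pair h (rn_top h.nd) (X - C ε) (v := v) trivial hv hv0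
    apply hw2
    apply hvv
    rw [mem_Ke]
    rw [ev_sub, ev_X, ev_C, sub_eq_zero] at hw1
    have h1 : s (s⁻¹ w) = w := LinearEquiv.apply_symm_apply s w
    rw [hw1, map_smul] at h1
    rw [← h1, smul_smul, hε, one_smul, h1]
  · intro c hc hcs v hv
    rw [mem_Ke] at hv ⊢
    have h1 : c (s v) = s (c v) := LinearEquiv.congr_fun hcs v
    rw [← h1, hv, map_smul]

theorem Ke_le [CharP F p] (h : Sn Q s n) (hp : Np Q s p) (hε : ε * ε = 1) : finrank F (Ke s ε) ≤ 2 := by
  by_contra hlt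
  have hR := Ke_rn h hε
  have hε0 : ε ≠ 0 := by rintro rfl; rw [mul_zero] at hε; exact zero_ne_one hε
  obtain ⟨u, hu, hu0, hQu⟩ := Cfsg.Agent.LieClassical.OrthFinite.exists_sing_mem (Q := Q) (Ke s ε) (by omega)
  obtain ⟨y, hy, hyu⟩ : ∃ y ∈ Ke s ε, polar Q u y ≠ 0 := by
    by_contra hcon
    push Not at hcon
    exact hu0 (hR.nd u hu hcon)
  obtain ⟨w, hw, hw0, hwp⟩ := exists_perp (Q := Q) (K := Ke s ε) (m := 2) ![u, y] (by omega)
  have hinv : ε⁻¹ = ε := inv_eq_of_mul_eq_one_left hε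
  refine no_eigen hp h.nd h.mem hQu (hwp 0) hu0 ?_ hε0 (mem_Ke.1 hu) (w := w) ?_
  · intro a ha
    have h1 : polar Q y w = 0 := hwp 1
    rw [ha, polar_smul_right, polar_comm, smul_eq_mul] at h1
    apply hw0
    rw [ha, (mul_eq_zero.1 h1).resolve_right hyu, zero_smul]
  · rw [hinv]; exact mem_Ke.1 hw

theorem odd_swap {c : V ≃ₗ[F] V} (hc : c ∈ O Q) {u u' : V} (hu : Q u = 0) (hu' : Q u' = 0) (hne : polar Q u u' ≠ 0)
    (h1 : ∀ x : V, (∃ a b : F, x = a • u + b • u') → ∃ a b : F, c x = a • u + b • u') {m : ℕ} (hm : Odd m)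
    (hcm : c ^ m = 1) : ∃ a : F, c u = a • u := by
  have hu0 : u ≠ 0 := by rintro rfl; exact hne (polar_zero_left Q _)
  have key : ∀ x : V, Q x = 0 → (∃ a b : F, x = a • u + b • u') → (∃ a : F, x = a • u) ∨ ∃ a : F, x = a • u' := by
    rintro x hx ⟨a, b, rfl⟩
    rw [Q_add, QuadraticMap.map_smul, QuadraticMap.map_smul, hu, hu', polar_smul_left, polar_smul_right] at hx
    simp only [smul_zero, smul_eq_mul, mul_zero, add_zero, zero_add] at hx
    rcases mul_eq_zero.1 hx with h2 | h2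
    · right; exact ⟨b, by rw [h2, zero_smul, zero_add]⟩
    · left; exact ⟨a, by rw [(mul_eq_zero.1 h2).resolve_right hne, zero_smul, add_zero]⟩
  rcases key (c u) (by rw [hc, hu]) (h1 u ⟨1, 0, by simp⟩) with h2 | ⟨b, hb⟩
  · exact h2
  exfalso
  have hb0 : b ≠ 0 := by
    rintro rfl
    rw [zero_smul] at hb
    exact hu0 (by simpa using hb)
  obtain ⟨a, ha⟩ : ∃ a : F, c u' = a • u := by
    rcases key (c u') (by rw [hc, hu']) (h1 u' ⟨0, 1, by simp⟩) with h3 | ⟨a, ha⟩
    · exact h3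
    · exfalso
      apply hne
      have h3 := polar_map hc u u'
      rw [hb, ha, polar_smul_left, polar_smul_right, polar_self_of_sing hu'] at h3
      rw [← h3]
      simp
  have h3 : ∀ j : ℕ, ∃ x : F, (c ^ (2 * j)) u = x • u := by
    intro j
    induction j with
    | zero => exact ⟨1, by rw [mul_zero, pow_zero, one_smul]; rfl⟩
    | succ j ih =>
      obtain ⟨x, hx⟩ := ih
      refine ⟨b * a * x, ?_⟩
      have e : (c ^ (2 * (j + 1))) u = c (c ((c ^ (2 * j)) u)) := by
        rw [show 2 * (j + 1) = 2 * j + 1 + 1 by ring, pow_succ', pow_succ']; rfl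
      rw [e, hx, map_smul, map_smul, hb, map_smul, ha, smul_smul, smul_smul]
      congr 1
      ring
  obtain ⟨j, rfl⟩ := hm
  obtain ⟨x, hx⟩ := h3 j
  have e : (c ^ (2 * j + 1)) u = c ((c ^ (2 * j)) u) := by rw [pow_succ']; rfl
  rw [hx, map_smul, hb, hcm] at e
  have e' : u = (x * b) • u' := by rw [mul_smul]; exact e
  apply hne
  rw [e', polar_smul_left, polar_self_of_sing hu', smul_zero]

theorem Ke_two (h : Sn Q s n) (hε : ε * ε = 1) (h2 : finrank F (Ke s ε) = 2) :
    PA Q s (Ke s ε) ∨ ∃ u u' : V, PH Q s u u' ∧ Submodule.span F {u, u'} = Ke s ε := by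
  have hR := Ke_rn h hε
  by_cases hs : ∃ u ∈ Ke s ε, Q u = 0 ∧ u ≠ 0
  · right
    obtain ⟨u, hu, hQu, hu0⟩ := hs
    obtain ⟨y, hy, hyu⟩ : ∃ y ∈ Ke s ε, polar Q u y ≠ 0 := by
      by_contra hcon
      push Not at hcon
      exact hu0 (hR.nd u hu hcon)
    set u' : V := y - (Q y / polar Q u y) • u with hu'def
    have hu' : u' ∈ Ke s ε := Submodule.sub_mem _ hy (Submodule.smul_mem _ _ hu)
    have hp' : polar Q u u' = polar Q u y := by
      rw [hu'def, polar_sub_right, polar_smul_right, polar_self_of_sing hQu, smul_zero, sub_zero]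
    have hQu' : Q u' = 0 := by
      rw [hu'def, sub_eq_add_neg, ← neg_smul, Q_add, QuadraticMap.map_smul, hQu, polar_smul_right, polar_comm Q y u,
        smul_zero, add_zero, smul_eq_mul]
      field_simp
      ring
    have hne : polar Q u u' ≠ 0 := by rw [hp']; exact hyu
    have hli : ∀ a b : F, a • u + b • u' = 0 → a = 0 ∧ b = 0 := by
      intro a b hab
      have h3 := congrArg (fun v => polar Q v u') hab
      have h4 := congrArg (fun v => polar Q u v) hab
      simp only [polar_add_left, polar_smul_left, polar_self_of_sing hQu', mul_zero, smul_zero, add_zero, smul_eq_mul,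
        polar_zero_left] at h3
      simp only [polar_add_right, polar_smul_right, polar_self_of_sing hQu, mul_zero, smul_zero, zero_add, smul_eq_mul,
        polar_zero_right] at h4
      exact ⟨(mul_eq_zero.1 h3).resolve_right hne, (mul_eq_zero.1 h4).resolve_right hne⟩
    have hspan : Submodule.span F {u, u'} = Ke s ε := by
      apply Submodule.eq_of_le_of_finrank_eq
      · rw [Submodule.span_le]
        rintro x (rfl | rfl)
        · exact hu
        · exact hu'
      · rw [h2]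
        have := finrank_span_eq_card (LinearIndependent.pair_iff.2 hli)
        rw [Matrix.range_cons, Matrix.range_cons, Matrix.range_empty, Set.union_empty, Set.singleton_union,
          Fintype.card_fin] at this
        exact this
    have hmem : ∀ x : V, x ∈ Ke s ε ↔ ∃ a b : F, x = a • u + b • u' := by
      intro x
      rw [← hspan, Submodule.mem_span_pair]
      exact ⟨fun ⟨a, b, h⟩ => ⟨a, b, h.symm⟩, fun ⟨a, b, h⟩ => ⟨a, b, h.symm⟩⟩
    refine ⟨u, u', ⟨hQu, hQu', hne, ⟨ε, mem_Ke.1 hu⟩, ⟨ε, mem_Ke.1 hu'⟩, ?_⟩, hspan⟩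
    intro c hc hcs m hm hcm
    constructor
    · apply odd_swap hc hQu hQu' hne _ hm hcm
      intro x hx
      exact (hmem _).1 (hR.can c hc hcs x ((hmem x).2 hx))
    · apply odd_swap hc hQu' hQu (by rw [polar_comm]; exact hne) _ hm hcm
      rintro x ⟨a, b, hx⟩
      obtain ⟨a', b', h3⟩ := (hmem _).1 (hR.can c hc hcs x ((hmem x).2 ⟨b, a, by rw [hx, add_comm]⟩))
      exact ⟨b', a', by rw [h3, add_comm]⟩
  · left
    push Not at hs
    refine ⟨h2, hs, 2 * ε, fun v hv => ?_⟩
    rw [mem_Ke] at hv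
    rw [hv, map_smul, hv, smul_smul, hε, one_smul, smul_smul, mul_assoc, hε, mul_one, two_smul]

/-- adding an eigenspace of dimension `0` or `2` -/
theorem add_Ke (h : Sn Q s n) (hε : ε * ε = 1) (hle : Ke s ε ≤ R) (hd : finrank F (Ke s ε) = 0 ∨ finrank F (Ke s ε) = 2)
    (hO : Out Q s (pp Q (Ke s ε) ⊓ R)) : G1' Q s ∨ Out Q s R := by
  rcases hd with hd | hd
  · right
    have h0 : pp Q (Ke s ε) = ⊤ := by
      rw [eq_top_iff]
      intro v _ w hw
      rw [Submodule.finrank_eq_zero.1 hd] at hw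
      rw [(Submodule.mem_bot F).1 hw, polar_zero_left]
    rwa [h0, top_inf_eq] at hO
  · rcases Ke_two h hε hd with hP | ⟨u, u', hP, hsp⟩
    · exact Or.inr (add_PA (Ke_rn h hε) hP hle hO)
    · have hu : u ∈ Ke s ε := by rw [← hsp]; exact Submodule.subset_span (Set.mem_insert _ _)
      have hu' : u' ∈ Ke s ε := by rw [← hsp]; exact Submodule.subset_span (Set.mem_insert_of_mem _ rfl)
      refine add_PH (hle hu) (hle hu') ?_ hP ?_
      · rw [hsp]; exact Ke_rn h hε
      · rw [hsp]; exact hO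

theorem Out_even (h : Out Q s R) : Even (finrank F R) := by
  obtain ⟨k, hk, -⟩ := h
  exact ⟨k, by omega⟩

/-- **the alternatives for one isometry** -/
theorem alt_one [CharP F p] (h : Sn Q s n) (hp : Np Q s p) (hV : finrank F V = 8) (hsg : HasSign (⇑Q) 4 1)
    (hev : Even (finrank F (Ke s (1 : F)))) :
    G1' Q s ∨ G2' Q s ∨ ∃ P : Fin 4 → Submodule F V, (∀ i, Rn Q s (P i)) ∧ (∀ i, PA Q s (P i)) ∧
      ∀ i j, i ≠ j → ∀ v ∈ P i, ∀ w ∈ P j, polar Q v w = 0 := by
  -- it is enough to have `Out ⊤`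
  suffices hT : G1' Q s ∨ G2' Q s ∨ Out Q s ⊤ by
    rcases hT with h1 | h1 | ⟨k, hk, h1⟩
    · exact Or.inl h1
    · exact Or.inr (Or.inl h1)
    · right; right
      rw [finrank_top, hV] at hk
      obtain rfl : k = 4 := by omega
      rcases h1 with ⟨⟨P, -, h2, h3, h4⟩, -⟩ | ⟨-, h2⟩
      · exact ⟨P, h2, h3, h4⟩
      · exfalso
        have h3 : HasSign (⇑Q) 4 (-(-1) ^ 4) := h2.congr (Submodule.topEquiv (R := F) (M := V)).toEquiv fun v => rfl
        have h4 := (hsg.unique h3 (Or.inl rfl) (Or.inr (by norm_num))).2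
        norm_num at h4
  have e1 : (1 : F) * 1 = 1 := one_mul 1
  have e2 : (-1 : F) * -1 = 1 := by ring
  have hK1 := Ke_rn (Q := Q) h e1
  have hK2 := Ke_rn (Q := Q) h e2
  have d1 := Ke_le h hp e1
  have d2 := Ke_le h hp e2
  have hd1 : finrank F (Ke s (1 : F)) = 0 ∨ finrank F (Ke s (1 : F)) = 2 := by
    obtain ⟨a, ha⟩ := hev
    omega
  have hR1 : Rn Q s (pp Q (Ke s (1 : F)) ⊓ ⊤) := hK1.perp (rn_top h.nd) le_top
  have f1 := finrank_sum hK1.nd (R := ⊤) le_top
  rw [finrank_top, hV] at f1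
  have hno1 : ∀ v ∈ pp Q (Ke s (1 : F)), s v = v → v = 0 := by
    intro v hv hsv
    have hv' : v ∈ Ke s (1 : F) := mem_Ke.2 (by rw [one_smul]; exact hsv)
    exact hK1.nd v hv' fun w hw => by rw [polar_comm]; exact hv w hw
  have hno2 : ∀ v ∈ pp Q (Ke s (-1 : F)), s v = -v → v = 0 := by
    intro v hv hsv
    have hv' : v ∈ Ke s (-1 : F) := mem_Ke.2 (by rw [neg_smul, one_smul]; exact hsv)
    exact hK2.nd v hv' fun w hw => by rw [polar_comm]; exact hv w hw
  by_cases h2 : (2 : F) = 0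
  · have hneg : ∀ v : V, -v = v := fun v => by
      have : v + v = (2 : F) • v := by rw [two_smul]
      rw [h2, zero_smul] at this
      exact neg_eq_of_add_eq_zero_left this
    rcases rec h hp hV hsg _ (pp Q (Ke s (1 : F)) ⊓ ⊤) rfl hR1 (fun v hv => hno1 v hv.1)
      (fun v hv hsv => hno1 v hv.1 (by rw [hsv, hneg])) with h3 | h3 | h3
    · exact Or.inl h3
    · exact Or.inr (Or.inl h3)
    · rcases add_Ke h e1 le_top hd1 h3 with h4 | h4
      · exact Or.inl h4
      · exact Or.inr (Or.inr h4)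
  · have hle : Ke s (-1 : F) ≤ pp Q (Ke s (1 : F)) ⊓ ⊤ := by
      intro w hw
      refine ⟨fun v hv => ?_, trivial⟩
      rw [mem_Ke] at hw hv
      have h3 := polar_map h.mem v w
      rw [hw, hv, one_smul, neg_smul, one_smul, polar_neg_right] at h3
      have h4 : (2 : F) * polar Q v w = 0 := by linear_combination (-1 : F) * h3
      exact (mul_eq_zero.1 h4).resolve_left h2
    have hR0 := hK2.perp hR1 hle
    have f2 := finrank_sum hK2.nd hle
    rcases rec h hp hV hsg _ (pp Q (Ke s (-1 : F)) ⊓ (pp Q (Ke s (1 : F)) ⊓ ⊤)) rfl hR0 (fun v hv => hno1 v hv.2.1)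
      (fun v hv => hno2 v hv.1) with h3 | h3 | h3
    · exact Or.inl h3
    · exact Or.inr (Or.inl h3)
    · obtain ⟨b, hb⟩ := Out_even h3
      rcases add_Ke h e2 hle (by omega) h3 with h4 | h4
      · exact Or.inl h4
      · rcases add_Ke h e1 le_top hd1 h4 with h5 | h5
        · exact Or.inl h5
        · exact Or.inr (Or.inr h5)

end Cfsg.Agent.H520.RC
end

-- part: H520/RC/BoxG
section
/-!
# S3510, triality type iii: box G (helper520)

`box_G` : commuting semisimple elements `g i` of `Ω₈⁺(q)` of different prime orders, centralised by no element of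
order `p`: two invariant dual totally singular planes (`G1`), elements of all prime orders dividing
`q² ± q + 1` or `q² + 1` (`G2`), or four orthogonal anisotropic planes (`G3`); `box_G_rot` : the `g i` are
rotations of the four planes.
-/

set_option autoImplicit false
set_option linter.unusedSectionVars false
open Cfsg

namespace Cfsg.Agent.H520.RC

open Module QuadraticMap
open Cfsg.Agent.LieClassical.OrthCore Cfsg.Agent.LieClassical.OrthTrans
open Cfsg.Agent.LieClassical.QuadForms Cfsg.Agent.ClassicalGeometry.Triality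

/-- a generator of a commuting family of elements of different prime orders -/
theorem exists_gen {G ι : Type*} [Group G] [Finite ι] {g : ι → G} {r : ι → ℕ} (hr : ∀ i, (r i).Prime)
    (hinj : Function.Injective r) (hpow : ∀ i, g i ^ r i = 1) (hc : ∀ i j, g i * g j = g j * g i) {F : Type*}
    [Field F] (hF : ∀ i, (r i : F) ≠ 0) :
    ∃ s ∈ Subgroup.closure (Set.range g), (∀ i, ∃ k : ℕ, g i = s ^ k) ∧ ∃ n : ℕ, (n : F) ≠ 0 ∧ s ^ n = 1 := by
  classical
  have := Fintype.ofFinite ι
  have hcc : ∀ j, ∀ a ∈ Subgroup.closure (Set.range g), Commute a (g j) := by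
    intro j a ha
    induction ha using Subgroup.closure_induction with
    | mem y hy => obtain ⟨i, rfl⟩ := hy; exact hc i j
    | one => exact Commute.one_left _
    | mul a b _ _ ha hb => exact Commute.mul_left ha hb
    | inv a _ ha => exact Commute.inv_left ha
  have key : ∀ S : Finset ι, ∃ s ∈ Subgroup.closure (Set.range g), (∀ i ∈ S, ∃ k : ℕ, g i = s ^ k) ∧
      s ^ (∏ i ∈ S, r i) = 1 := by
    intro S
    induction S using Finset.induction_on with
    | empty => exact ⟨1, Subgroup.one_mem _, fun i hi => absurd hi (Finset.notMem_empty i), one_pow _⟩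
    | insert j S hj ih =>
      obtain ⟨s, hs, h1, h2⟩ := ih
      have hcom : Commute s (g j) := hcc j s hs
      have hcop : Nat.Coprime (r j) (∏ i ∈ S, r i) := by
        rw [Nat.coprime_prod_right_iff]
        intro i hi
        rw [Nat.coprime_primes (hr j) (hr i)]
        exact fun h => hj (hinj h ▸ hi)
      have hs1 : (s * g j) ^ r j = s ^ r j := by rw [hcom.mul_pow, hpow, mul_one]
      have hs2 : (s * g j) ^ (∏ i ∈ S, r i) = g j ^ (∏ i ∈ S, r i) := by rw [hcom.mul_pow, h2, one_mul]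
      obtain ⟨m, hm⟩ := exists_pow_eq_self_of_coprime (x := s) (n := r j)
        (hcop.coprime_dvd_right (orderOf_dvd_of_pow_eq_one h2))
      obtain ⟨m', hm'⟩ := exists_pow_eq_self_of_coprime (x := g j) (n := ∏ i ∈ S, r i)
        (hcop.symm.coprime_dvd_right (orderOf_dvd_of_pow_eq_one (hpow j)))
      refine ⟨s * g j, Subgroup.mul_mem _ hs (Subgroup.subset_closure ⟨j, rfl⟩), ?_, ?_⟩
      · intro i hi
        rcases Finset.mem_insert.1 hi with rfl | hi
        · exact ⟨(∏ i ∈ S, r i) * m', by rw [pow_mul, hs2, hm']⟩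
        · obtain ⟨k, hk⟩ := h1 i hi
          exact ⟨r j * m * k, by rw [pow_mul, pow_mul, hs1, hm, hk]⟩
      · rw [Finset.prod_insert hj, pow_mul, hs1, ← pow_mul, mul_comm, pow_mul, h2, one_pow]
  obtain ⟨s, hs, h1, h2⟩ := key Finset.univ
  refine ⟨s, hs, fun i => h1 i (Finset.mem_univ i), _, ?_, h2⟩
  rw [Nat.cast_prod]
  exact Finset.prod_ne_zero_iff.2 fun i _ => hF i

theorem sign_eight {F : Type*} [Field F] [Finite F] : Cfsg.Agent.H182.Sign.HasSign (⇑(plusForm 4 F)) 4 1 := by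
  have h1 := Cfsg.Agent.H182.Sign.hasSign_plusForm (F := F) 4
  rw [Cfsg.Agent.LieClassical.OrthForms.coe_plusForm] at h1
  rw [coe_plusForm]
  exact h1

/-- powers of a rotation are rotations -/
theorem rot_pow {F V : Type*} [Field F] [AddCommGroup V] [Module F V] {s : V ≃ₗ[F] V} {P : Submodule F V}
    (hP : ∀ v ∈ P, s v ∈ P) (hr : ∃ t : F, ∀ v ∈ P, s (s v) + v = t • s v) (k : ℕ) :
    ∃ t : F, ∀ v ∈ P, (s ^ k) ((s ^ k) v) + v = t • (s ^ k) v := by
  obtain ⟨t, ht⟩ := hr
  have hss : ∀ x, s (s⁻¹ x) = x := fun x => LinearEquiv.apply_symm_apply s x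
  have hss' : ∀ x, s⁻¹ (s x) = x := fun x => LinearEquiv.symm_apply_apply s x
  have hinv : ∀ v ∈ P, s⁻¹ v = t • v - s v := by
    intro v hv
    have h1 := congrArg (fun x => s⁻¹ x) (ht v hv)
    simp only [map_add, map_smul, hss'] at h1
    rw [← h1]
    abel
  have hP' : ∀ v ∈ P, s⁻¹ v ∈ P := fun v hv => by
    rw [hinv v hv]
    exact P.sub_mem (P.smul_mem _ hv) (hP v hv)
  have h1 : ∀ v ∈ P, s (s v) = t • s v - v := fun v hv => eq_sub_of_add_eq (ht v hv)
  have h2 : ∀ v ∈ P, s⁻¹ (s⁻¹ v) = t • s⁻¹ v - v := by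
    intro v hv
    have h3 := ht _ (hP' _ (hP' v hv))
    rw [hss, hss] at h3
    rw [← h3]
    abel
  have h0 : ∀ (c : V ≃ₗ[F] V), (∀ v ∈ P, c (c v) = t • c v - v) → ∀ k : ℕ, ∀ v ∈ P,
      (c ^ (k + 2)) v = t • (c ^ (k + 1)) v - (c ^ k) v := by
    intro c hc k v hv
    rw [pow_add, pow_add]
    show (c ^ k) ((c ^ 2) v) = t • (c ^ k) ((c ^ 1) v) - (c ^ k) v
    rw [pow_two, pow_one]
    show (c ^ k) (c (c v)) = _
    rw [hc v hv, map_sub, map_smul]
  have key : ∀ k : ℕ, ∃ a : F, ∀ v ∈ P, (s ^ k) v + (s⁻¹ ^ k) v = a • v := by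
    intro k
    induction k using Nat.twoStepInduction with
    | zero => exact ⟨2, fun v _ => by rw [pow_zero, pow_zero, two_smul]; rfl⟩
    | one => exact ⟨t, fun v hv => by rw [pow_one, pow_one, hinv v hv]; abel⟩
    | more k ih1 ih2 =>
      obtain ⟨a, ha⟩ := ih1
      obtain ⟨b, hb⟩ := ih2
      refine ⟨t * b - a, fun v hv => ?_⟩
      rw [h0 s h1 k v hv, h0 s⁻¹ h2 k v hv, sub_smul, mul_smul, ← ha v hv, ← hb v hv, smul_add]
      abel
  obtain ⟨a, ha⟩ := key k
  refine ⟨a, fun v hv => ?_⟩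
  rw [← map_smul, ← ha v hv, map_add]
  congr 1
  have h4 : s ^ k * s⁻¹ ^ k = 1 := by rw [inv_pow, mul_inv_cancel]
  exact (LinearEquiv.congr_fun h4 v).symm

open Cfsg.Agent.H864.RC in
/-- **box G** with rotations in the third alternative -/
theorem box_G_rot {F ι : Type} [Field F] [Finite F] [Finite ι] {p : ℕ} [CharP F p] (hG : Good (plusForm 4 F))
    {g : ι → (V8 F ≃ₗ[F] V8 F)} (hg : ∀ i, g i ∈ E (plusForm 4 F)) {r : ι → ℕ}
    (hr : ∀ i, (r i).Prime) (hinj : Function.Injective r) (hrp : ∀ i, r i ≠ p) (hpow : ∀ i, g i ^ r i = 1)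
    (hc : ∀ i j, g i * g j = g j * g i) (_h1 : ∀ i, g i ≠ 1)
    (hC : ∀ c ∈ E (plusForm 4 F), (∀ i, c * g i = g i * c) → c ^ p = 1 → c = 1) :
    (∃ L L', G1 g L L') ∨ G2 g ∨ ∃ P, G3 g P ∧ ∀ k i, ∃ t : F, ∀ v ∈ P k, g i (g i v) + v = t • g i v := by
  have hp : p.Prime := (CharP.char_is_prime_or_zero F p).resolve_right (CharP.char_ne_zero_of_finite F p)
  have hF : ∀ i, (r i : F) ≠ 0 := by
    intro i h0
    rw [CharP.cast_eq_zero_iff F p] at h0
    exact hrp i ((Nat.prime_dvd_prime_iff_eq hp (hr i)).1 h0).symm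
  obtain ⟨s, hs, hgs, n, hn, hsn⟩ := exists_gen hr hinj hpow hc hF
  have hsE : s ∈ E (plusForm 4 F) := by
    refine (Subgroup.closure_le _).2 ?_ hs
    rintro _ ⟨i, rfl⟩
    exact hg i
  have hV : finrank F (V8 F) = 8 := by
    rw [Module.finrank_fintype_fun_eq_card, Fintype.card_sum, Fintype.card_fin]
  have hS : Sn (plusForm 4 F) s n := ⟨hG.nondeg, E_le_O hsE, hsn, hn⟩
  -- commuting with all `g i` and commuting with `s`
  have hcs : ∀ c : V8 F ≃ₗ[F] V8 F, (∀ i, c * g i = g i * c) → c * s = s * c := by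
    intro c hcg
    have h2 : s ∈ Subgroup.centralizer {c} := by
      refine (Subgroup.closure_le _).2 ?_ hs
      rintro _ ⟨i, rfl⟩
      exact Subgroup.mem_centralizer_singleton_iff.2 (hcg i).symm
    exact (Subgroup.mem_centralizer_singleton_iff.1 h2).symm
  have hcg : ∀ c : V8 F ≃ₗ[F] V8 F, c * s = s * c → ∀ i, c * g i = g i * c := by
    intro c h2 i
    obtain ⟨k, hk⟩ := hgs i
    rw [hk]
    exact (Commute.pow_right (show Commute c s from h2) k)
  have hNp : Np (plusForm 4 F) s p := fun c hcE h2 h3 => hC c hcE (hcg c h2) h3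
  have hev : Even (finrank F (Ke s (1 : F))) := by
    have h2 := Cfsg.Agent.H14.PD.even_finrank_K hG (by simp) ⟨s, hsE⟩
    have h3 : Cfsg.Agent.H200.LinFix.K (Cfsg.Agent.H200.RowOrth.en (plusForm 4 F) ⟨s, hsE⟩) = Ke s (1 : F) := by
      ext v
      rw [Cfsg.Agent.H200.LinFix.mem_K, mem_Ke, one_smul]
      rfl
    rw [h3] at h2
    have h4 : Fintype.card (Fin 4 ⊕ Fin 4) = 8 := by simp
    rw [h4] at h2
    exact (Nat.even_add.1 h2).2 (by decide)
  have hginv : ∀ (W : Submodule F (V8 F)), (∀ v ∈ W, s v ∈ W) → ∀ i, ∀ v ∈ W, g i v ∈ W := by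
    intro W hW i v hv
    obtain ⟨k, hk⟩ := hgs i
    rw [hk]
    clear hk
    induction k with
    | zero => exact hv
    | succ k ih => rw [pow_succ']; exact hW _ ih
  have hodd : ∀ l : ℕ, l.Prime → l ≠ 2 → Odd l := fun l hl hl2 => hl.odd_of_ne_two hl2
  rcases alt_one hS hNp hV sign_eight hev with ⟨L, L', a1, a2, a3, a4, a5, a6, a7, a8⟩ | ⟨a, ha, h2⟩ |
    ⟨P, b1, b2, b3⟩
  · refine Or.inl ⟨L, L', ⟨a1, a2, a3, a4, a5, fun i => hginv L a6 i, fun i => hginv L' a7 i, ?_⟩⟩
    intro c hcE hcg' l hl hl2 _ hcl v hv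
    exact a8 c (E_le_O hcE) (hcs c hcg') l (hodd l hl hl2) hcl v hv
  · refine Or.inr (Or.inl ⟨a, ha, fun l hl hl2 _ hla => ?_⟩)
    obtain ⟨c, hcO, hcl, hc1, hcs'⟩ := h2 l hl hl2 hla
    exact ⟨c, Cfsg.Agent.H16.Og.mem_E_of_odd hG hcO (hodd l hl hl2) hcl, hcl, hc1, hcg c hcs'⟩
  · refine Or.inr (Or.inr ⟨P, ⟨fun k => (b2 k).two, b3, fun k => (b2 k).an,
      fun k i => hginv (P k) (fun v hv => (b1 k).s_mem hS.mem hv) i, ?_⟩, fun k i => ?_⟩)
    swap
    · obtain ⟨m, hm⟩ := hgs i
      rw [hm]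
      exact rot_pow (fun v hv => (b1 k).s_mem hS.mem hv) (b2 k).rot m
    intro c hcE hcg' _ _ _ _ _ _ j v hv
    exact (b1 j).can c (E_le_O hcE) (hcs c hcg') v hv

end Cfsg.Agent.H520.RC
end

private theorem dce_b716b9983821 : _root_.True := by
  try have : _root_.True := by simp only [_root_.Cfsg.Agent.H520.RC.kr.eq_1]
  try have : _root_.True := by simp only [_root_.Cfsg.Agent.H520.RC.Ke.eq_1]
  try have : _root_.True := by simp only [_root_.Cfsg.Agent.H520.RC.ev.eq_1]
  try have : _root_.True := by simp only [_root_.Cfsg.Agent.H520.RC.til.eq_1]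
  exact _root_.True.intro
end

-- part: H566/RC/Rot
section
prune_inst 0x10000000000000
set_option linter.all false
open scoped Cfsg.Agent.FastGrp

/-!
# S3510, triality: rotations of a composition plane (helper566)

`K = ⟨a, b⟩`, `Q a = Q b = κ`, commutative and closed under `⋄ = dia τ`. `g = r_a r_b`, `S v = (b ⋄ v) ⋄ a`,
`R v = a ⋄ (v ⋄ b)`: `g S R = κ²`, `g S = S g`, everything preserves `W = K^⊥`, on which `g = 1`.
-/

set_option autoImplicit false
set_option linter.unusedSectionVars false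

namespace Cfsg.Agent.H566.RC

open Module QuadraticMap Cfsg.Agent.LieClassical.OrthCore Cfsg.Agent.LieClassical.OrthTrans
  Cfsg.Agent.LieClassical.OrthSimple Cfsg.Agent.ClassicalGeometry.OrthAut1
  Cfsg.Agent.ClassicalGeometry.OrthSemi Cfsg.Agent.H198.Classes
  Cfsg.Agent.LieClassical.QuadForms Cfsg.Agent.H198.ClassesPlus
  Cfsg.Agent.ClassicalGeometry.TrialityOct Cfsg.Agent.ClassicalGeometry.Triality
  Cfsg.Agent.ClassicalGeometry.TrialitySpaces Cfsg.Agent.H198.TriBase Cfsg.Agent.H198.TriAut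
  Cfsg.Agent.H198.TriDia Cfsg.Agent.H198.TriTC

universe u

variable {F : Type u} [Field F]

/-- a composition plane with two vectors of the same norm -/
structure Kp (τ : G8 F) (a b : V8 F) : Prop where
  norm : plusForm 4 F b = plusForm 4 F a
  ne : plusForm 4 F a ≠ 0
  disc : polar (plusForm 4 F) a b ^ 2 ≠ 4 * plusForm 4 F a ^ 2
  comm : dia τ a b = dia τ b a
  aa : ∃ α β : F, dia τ a a = α • a + β • b
  bb : ∃ α β : F, dia τ b b = α • a + β • b
  ab : ∃ α β : F, dia τ a b = α • a + β • b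

/-- `r_a r_b` -/
def gm (a b v : V8 F) : V8 F :=
  (v - (polar (plusForm 4 F) v b / plusForm 4 F b) • b) -
    (polar (plusForm 4 F) (v - (polar (plusForm 4 F) v b / plusForm 4 F b) • b) a / plusForm 4 F a) • a

/-- `(b ⋄ v) ⋄ a` -/
def Sm (τ : G8 F) (a b v : V8 F) : V8 F := dia τ (dia τ b v) a

/-- `a ⋄ (v ⋄ b)` -/
def Rm (τ : G8 F) (a b v : V8 F) : V8 F := dia τ a (dia τ v b)

section

variable {τ : G8 F} (h : Au τ) {a b : V8 F} (k : Kp τ a b)

theorem gm_add (v w : V8 F) : gm a b (v + w) = gm a b v + gm a b w := by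
  unfold gm
  simp only [polar_add_left, polar_sub_left, polar_smul_left, add_div, sub_div, add_smul, sub_smul]
  module

theorem gm_smul (c : F) (v : V8 F) : gm a b (c • v) = c • gm a b v := by
  unfold gm
  simp only [polar_add_left, polar_sub_left, polar_smul_left, add_div, sub_div, add_smul, sub_smul, smul_sub,
    smul_smul, mul_div_assoc]
  module

include h in
theorem Sm_add (v w : V8 F) : Sm τ a b (v + w) = Sm τ a b v + Sm τ a b w := by
  unfold Sm
  rw [h.dia_add_right, h.dia_add_left]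

include h in
theorem Sm_smul (c : F) (v : V8 F) : Sm τ a b (c • v) = c • Sm τ a b v := by
  unfold Sm
  rw [h.dia_smul_right, h.dia_smul_left]

include h in
theorem Rm_add (v w : V8 F) : Rm τ a b (v + w) = Rm τ a b v + Rm τ a b w := by
  unfold Rm
  rw [h.dia_add_left, h.dia_add_right]

include h in
theorem Rm_smul (c : F) (v : V8 F) : Rm τ a b (c • v) = c • Rm τ a b v := by
  unfold Rm
  rw [h.dia_smul_left, h.dia_smul_right]

theorem polar_self' (v : V8 F) : polar (plusForm 4 F) v v = 2 * plusForm 4 F v := by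
  rw [QuadraticMap.polar_self, two_smul, two_mul]

include k in
theorem gm_a : gm a b a = (polar (plusForm 4 F) a b ^ 2 / plusForm 4 F a ^ 2 - 1) • a -
    (polar (plusForm 4 F) a b / plusForm 4 F a) • b := by
  have h1 : polar (plusForm 4 F) b a = polar (plusForm 4 F) a b := polar_comm _ _ _
  unfold gm
  rw [k.norm, polar_sub_left, polar_smul_left, polar_self', h1]
  have hne := k.ne
  generalize polar (plusForm 4 F) a b = c at *
  generalize plusForm 4 F a = κ at *
  have e : (2 * κ - (c / κ) • c) / κ = 2 - c ^ 2 / κ ^ 2 := by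
    rw [smul_eq_mul]; field_simp
  rw [e]
  module

include k in
theorem gm_b : gm a b b = (polar (plusForm 4 F) a b / plusForm 4 F a) • a - b := by
  have h1 : polar (plusForm 4 F) b a = polar (plusForm 4 F) a b := polar_comm _ _ _
  unfold gm
  rw [k.norm, polar_sub_left, polar_smul_left, polar_self', k.norm, h1]
  have hne := k.ne
  generalize polar (plusForm 4 F) a b = c at *
  generalize plusForm 4 F a = κ at *
  have e1 : 2 * κ / κ = 2 := by field_simp
  rw [e1]
  have e : (c - (2:F) • c) / κ = - (c / κ) := by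
    rw [smul_eq_mul]; ring
  rw [e]
  module

theorem gm_w {w : V8 F} (hwa : polar (plusForm 4 F) w a = 0) (hwb : polar (plusForm 4 F) w b = 0) : gm a b w = w := by
  unfold gm
  rw [hwb, zero_div, zero_smul, sub_zero, hwa, zero_div, zero_smul, sub_zero]

end

section

variable {τ : G8 F} (h : Au τ) {a b : V8 F} (k : Kp τ a b)

include h k

theorem m_a : dia τ (dia τ a b) a = plusForm 4 F a • b := h.dia_dia a b

theorem a_m : dia τ a (dia τ a b) = plusForm 4 F a • b := by rw [k.comm]; exact h.dia_dia' a b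

theorem b_m : dia τ b (dia τ a b) = plusForm 4 F a • a := by rw [h.dia_dia', k.norm]

theorem m_b : dia τ (dia τ a b) b = plusForm 4 F a • a := by rw [k.comm, h.dia_dia, k.norm]

theorem bb_a : dia τ (dia τ b b) a = polar (plusForm 4 F) a b • b - plusForm 4 F a • a := by
  have h1 := h.lin1 b b a
  rw [m_b h k, polar_comm] at h1
  rw [← h1, add_sub_cancel_right]

theorem a_bb : dia τ a (dia τ b b) = polar (plusForm 4 F) a b • b - plusForm 4 F a • a := by
  have h1 := h.lin2 a b b
  rw [← k.comm, b_m h k] at h1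
  rw [← h1, add_sub_cancel_right]

theorem S_a : Sm τ a b a = plusForm 4 F a • b := by
  unfold Sm
  rw [← k.comm, m_a h k]

theorem S_b : Sm τ a b b = polar (plusForm 4 F) a b • b - plusForm 4 F a • a := bb_a h k

theorem R_a : Rm τ a b a = plusForm 4 F a • b := a_m h k

theorem R_b : Rm τ a b b = polar (plusForm 4 F) a b • b - plusForm 4 F a • a := a_bb h k

/-- left multiplication by elements of `K` preserves `W` -/
theorem perp_left {w x : V8 F} (hwa : polar (plusForm 4 F) w a = 0) (hwb : polar (plusForm 4 F) w b = 0)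
    (hx : x = a ∨ x = b) : polar (plusForm 4 F) (dia τ x w) a = 0 ∧ polar (plusForm 4 F) (dia τ x w) b = 0 := by
  have key : ∀ y, (∃ α β : F, dia τ y x = α • a + β • b) → polar (plusForm 4 F) (dia τ x w) y = 0 := by
    rintro y ⟨α, β, hy⟩
    rw [h.assoc, polar_comm, h.assoc, hy, polar_add_right, polar_smul_right, polar_smul_right, hwa, hwb]
    simp
  obtain ⟨α, β, hab⟩ := k.ab
  have hba : ∃ α β : F, dia τ b a = α • a + β • b := ⟨α, β, by rw [← k.comm]; exact hab⟩
  rcases hx with rfl | rfl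
  · exact ⟨key _ k.aa, key _ hba⟩
  · exact ⟨key _ ⟨α, β, hab⟩, key _ k.bb⟩

/-- right multiplication by elements of `K` preserves `W` -/
theorem perp_right {w x : V8 F} (hwa : polar (plusForm 4 F) w a = 0) (hwb : polar (plusForm 4 F) w b = 0)
    (hx : x = a ∨ x = b) : polar (plusForm 4 F) (dia τ w x) a = 0 ∧ polar (plusForm 4 F) (dia τ w x) b = 0 := by
  have key : ∀ y, (∃ α β : F, dia τ x y = α • a + β • b) → polar (plusForm 4 F) (dia τ w x) y = 0 := by
    rintro y ⟨α, β, hy⟩
    rw [h.assoc, hy, polar_add_right, polar_smul_right, polar_smul_right, hwa, hwb]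
    simp
  obtain ⟨α, β, hab⟩ := k.ab
  have hba : ∃ α β : F, dia τ b a = α • a + β • b := ⟨α, β, by rw [← k.comm]; exact hab⟩
  rcases hx with rfl | rfl
  · exact ⟨key _ k.aa, key _ ⟨α, β, hab⟩⟩
  · exact ⟨key _ hba, key _ k.bb⟩

theorem S_perp {w : V8 F} (hwa : polar (plusForm 4 F) w a = 0) (hwb : polar (plusForm 4 F) w b = 0) :
    polar (plusForm 4 F) (Sm τ a b w) a = 0 ∧ polar (plusForm 4 F) (Sm τ a b w) b = 0 := by
  obtain ⟨h1, h2⟩ := perp_left h k hwa hwb (Or.inr rfl)
  exact perp_right h k h1 h2 (Or.inl rfl)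

theorem SR_w {w : V8 F} (hwa : polar (plusForm 4 F) w a = 0) (hwb : polar (plusForm 4 F) w b = 0) :
    Sm τ a b (Rm τ a b w) = (plusForm 4 F a ^ 2) • w := by
  obtain ⟨h1, h2⟩ := perp_right h k hwa hwb (Or.inr rfl)
  unfold Sm Rm
  have e1 := h.lin2 b a (dia τ w b)
  rw [polar_comm, h2, zero_smul] at e1
  have e2 := h.lin1 (dia τ w b) (dia τ a b) a
  rw [h1, zero_smul, a_m h k] at e2
  have e3 : dia τ b (dia τ a (dia τ w b)) = - dia τ (dia τ w b) (dia τ a b) := eq_neg_of_add_eq_zero_left e1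
  have e4 : ∀ x y : V8 F, dia τ (-x) y = - dia τ x y := by
    intro x y
    have := h.dia_smul_left (-1) x y
    rwa [neg_one_smul, neg_one_smul] at this
  rw [e3, e4, eq_neg_of_add_eq_zero_left e2, neg_neg, h.dia_smul_left, h.dia_dia', k.norm, smul_smul, pow_two]

/-- decomposition -/
theorem exists_dec (v : V8 F) : ∃ (α β : F) (w : V8 F), v = α • a + β • b + w ∧ polar (plusForm 4 F) w a = 0 ∧
    polar (plusForm 4 F) w b = 0 := by
  have hd : polar (plusForm 4 F) a b ^ 2 - 4 * plusForm 4 F a ^ 2 ≠ 0 := sub_ne_zero.2 k.disc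
  set c := polar (plusForm 4 F) a b with hc
  set κ := plusForm 4 F a with hκ
  set D := c ^ 2 - 4 * κ ^ 2 with hD
  set s := polar (plusForm 4 F) v a with hs
  set t := polar (plusForm 4 F) v b with ht
  have hba : polar (plusForm 4 F) b a = c := polar_comm _ _ _
  have haa : polar (plusForm 4 F) a a = 2 * κ := polar_self' a
  have hbb : polar (plusForm 4 F) b b = 2 * κ := by rw [polar_self', k.norm]
  refine ⟨(c * t - 2 * κ * s) / D, (c * s - 2 * κ * t) / D,
    v - (((c * t - 2 * κ * s) / D) • a + ((c * s - 2 * κ * t) / D) • b), by abel, ?_, ?_⟩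
  · rw [polar_sub_left, polar_add_left, polar_smul_left, polar_smul_left, haa, hba, ← hs, smul_eq_mul, smul_eq_mul]
    field_simp
    rw [hD]
    ring
  · rw [polar_sub_left, polar_add_left, polar_smul_left, polar_smul_left, hbb, ← hc, ← ht, smul_eq_mul, smul_eq_mul]
    field_simp
    rw [hD]
    ring

/-- **`g S R = κ²`** -/
theorem gSR (v : V8 F) : gm a b (Sm τ a b (Rm τ a b v)) = (plusForm 4 F a ^ 2) • v := by
  obtain ⟨α, β, w, rfl, hwa, hwb⟩ := exists_dec h k v
  have hne := k.ne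
  have ea : gm a b (Sm τ a b (Rm τ a b a)) = (plusForm 4 F a ^ 2) • a := by
    rw [R_a h k, Sm_smul h, S_b h k, gm_smul, sub_eq_add_neg, gm_add, ← neg_smul, gm_smul, gm_smul, gm_a k, gm_b k]
    generalize polar (plusForm 4 F) a b = c at *
    generalize plusForm 4 F a = κ at *
    match_scalars <;> field_simp <;> ring
  have eb : gm a b (Sm τ a b (Rm τ a b b)) = (plusForm 4 F a ^ 2) • b := by
    rw [R_b h k, sub_eq_add_neg, ← neg_smul, Sm_add h, Sm_smul h, Sm_smul h, S_b h k, S_a h k, gm_add, gm_smul,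
      gm_smul, gm_smul, sub_eq_add_neg, gm_add, ← neg_smul, gm_smul, gm_smul, gm_a k, gm_b k]
    generalize polar (plusForm 4 F) a b = c at *
    generalize plusForm 4 F a = κ at *
    match_scalars <;> field_simp <;> ring
  have ew : gm a b (Sm τ a b (Rm τ a b w)) = (plusForm 4 F a ^ 2) • w := by
    rw [SR_w h k hwa hwb, gm_smul, gm_w hwa hwb]
  rw [Rm_add h, Rm_add h, Rm_smul h, Rm_smul h, Sm_add h, Sm_add h, Sm_smul h, Sm_smul h, gm_add, gm_add, gm_smul,
    gm_smul, ea, eb, ew]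
  module

/-- **`g S = S g`** -/
theorem gS (v : V8 F) : gm a b (Sm τ a b v) = Sm τ a b (gm a b v) := by
  obtain ⟨α, β, w, rfl, hwa, hwb⟩ := exists_dec h k v
  have hne := k.ne
  have ea : gm a b (Sm τ a b a) = Sm τ a b (gm a b a) := by
    rw [S_a h k, gm_a k, sub_eq_add_neg, ← neg_smul, Sm_add h, Sm_smul h, Sm_smul h, S_a h k, S_b h k, gm_smul, gm_b k]
    generalize polar (plusForm 4 F) a b = c at *
    generalize plusForm 4 F a = κ at *
    match_scalars <;> field_simp <;> ring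
  have eb : gm a b (Sm τ a b b) = Sm τ a b (gm a b b) := by
    rw [S_b h k, gm_b k, sub_eq_add_neg, ← neg_smul, gm_add, gm_smul, gm_smul, gm_a k, gm_b k, sub_eq_add_neg _ b,
      Sm_add h, Sm_smul h, S_a h k]
    have e1 : Sm τ a b (-b) = - Sm τ a b b := by
      have := Sm_smul h (a := a) (b := b) (-1) b
      rwa [neg_one_smul, neg_one_smul] at this
    rw [e1, S_b h k]
    generalize polar (plusForm 4 F) a b = c at *
    generalize plusForm 4 F a = κ at *
    match_scalars <;> field_simp <;> ring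
  have ew : gm a b (Sm τ a b w) = Sm τ a b (gm a b w) := by
    obtain ⟨h1, h2⟩ := S_perp h k hwa hwb
    rw [gm_w hwa hwb, gm_w h1 h2]
  rw [Sm_add h, Sm_add h, Sm_smul h, Sm_smul h, gm_add, gm_add, gm_smul, gm_smul, ea, eb, ew, gm_add, gm_add, gm_smul,
    gm_smul, Sm_add h, Sm_add h, Sm_smul h, Sm_smul h]

/-- `S² = c S - κ²` on `K` -/
theorem SS {v : V8 F} (hv : ∃ α β : F, v = α • a + β • b) :
    Sm τ a b (Sm τ a b v) = polar (plusForm 4 F) a b • Sm τ a b v - (plusForm 4 F a ^ 2) • v := by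
  obtain ⟨α, β, rfl⟩ := hv
  rw [Sm_add h, Sm_smul h, Sm_smul h, S_a h k, S_b h k, sub_eq_add_neg, ← neg_smul, Sm_add h, Sm_smul h, Sm_smul h,
    Sm_smul h, Sm_add h, Sm_smul h, Sm_smul h, S_a h k, S_b h k]
  module

end

end Cfsg.Agent.H566.RC
end
end

-- part: H332/RC/GrPsp
section
prune_inst 0x10000000000000
set_option linter.all false
open scoped Cfsg.Agent.FastGrp

-- part: H523/FC/FThree
section
/-!
# S5764, SP4G, piece F3 (helper523)

`stF3` : an element of odd prime order of `Sp_4(F)`, `F` finite of characteristic two, reducible, which does not satisfy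
`z² + s z + 1 = 0`, leaves a non-degenerate plane invariant.
-/

set_option autoImplicit false

namespace Cfsg.Agent.H523.FC

open Polynomial Module Submodule

/-- two independent vectors in a plane -/
theorem mem_span_pair_of {F V : Type*} [Field F] [AddCommGroup V] [Module F V] [FiniteDimensional F V]
    {U : Submodule F V} (hU : finrank F U = 2) {x y : V} (hx : x ∈ U) (hy : y ∈ U)
    (hxy : LinearIndependent F ![x, y]) {v : V} (hv : v ∈ U) : v ∈ span F {x, y} := by
  have h1 : span F {x, y} ≤ U := by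
    rw [span_le]
    intro z hz
    rcases hz with rfl | rfl
    · exact hx
    · exact hy
  have h2 : finrank F (span F (Set.range ![x, y])) = 2 := by
    rw [finrank_span_eq_card hxy, Fintype.card_fin]
  have h3 : Set.range ![x, y] = {x, y} := by
    rw [Matrix.range_cons, Matrix.range_cons, Matrix.range_empty, Set.union_empty]
    rfl
  rw [h3] at h2
  have h4 := Submodule.eq_of_le_of_finrank_eq h1 (by rw [h2, hU])
  rw [h4]
  exact hv

/-- **F3**, abstract form -/
theorem f3_abs {F V : Type*} [Field F] [CharP F 2] [AddCommGroup V] [Module F V] [FiniteDimensional F V]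
    (h4 : finrank F V = 4) (B : V →ₗ[F] V →ₗ[F] F) (halt : ∀ v, B v v = 0)
    (hnd : ∀ u, (∀ v, B v u = 0) → u = 0) (hnd' : ∀ u, (∀ v, B u v = 0) → u = 0) (T : End F V)
    (hT : ∀ u v, B (T u) (T v) = B u v) {r : ℕ} (hr : r.Prime) (hr2 : r ≠ 2) (hTr : T ^ r = 1)
    (hs : ¬ ∃ s : F, ∀ v, T (T v) + s • T v + v = 0) (W : Submodule F V) (hW : ∀ v ∈ W, T v ∈ W) (hWb : W ≠ ⊥)
    (hWt : W ≠ ⊤) : ∃ x y, B x y = 1 ∧ T x ∈ span F {x, y} ∧ T y ∈ span F {x, y} := by
  classical
  have hsub : ∀ a b : V, a + b = 0 → a = b := by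
    intro a b h
    have h1 : (2 : F) = 0 := CharTwo.two_eq_zero
    have h2 : b + b = 0 := by
      rw [← two_smul F b, h1, zero_smul]
    rw [← h2] at h
    exact add_right_cancel h
  have hself : ∀ b : V, b + b = 0 := by
    intro b
    have h1 : (2 : F) = 0 := CharTwo.two_eq_zero
    rw [← two_smul F b, h1, zero_smul]
  have hr0 : (r : F) ≠ 0 := by
    rw [Ne, CharP.cast_eq_zero_iff F 2 r, Nat.prime_dvd_prime_iff_eq Nat.prime_two hr]
    exact hr2.symm
  have hsep : (X ^ r - 1 : F[X]).Separable := X_pow_sub_one_separable_iff.2 hr0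
  have hann : aeval T (X ^ r - 1 : F[X]) = 0 := by
    rw [map_sub, map_pow, aeval_X, hTr, map_one, sub_self]
  have hss : T.IsSemisimple := End.isSemisimple_of_squarefree_aeval_eq_zero hsep.squarefree hann
  have hcompl : ∀ U : Submodule F V, (∀ v ∈ U, T v ∈ U) → ∃ U' : Submodule F V, (∀ v ∈ U', T v ∈ U') ∧ IsCompl U U' := by
    intro U hU
    obtain ⟨U', hU', h⟩ := End.isSemisimple_iff.1 hss U ((End.mem_invtSubmodule T).2 fun v hv => hU v hv)
    exact ⟨U', fun v hv => (End.mem_invtSubmodule T).1 hU' hv, h⟩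
  have hTinj : ∀ v, T v = 0 → v = 0 := by
    intro v hv
    have h1 : (T ^ r) v = v := by rw [hTr]; rfl
    rw [← h1, ← Nat.sub_add_cancel hr.one_le, pow_succ]
    change (T ^ (r - 1)) (T v) = 0
    rw [hv, map_zero]
  by_cases hA : ∃ u, u ≠ 0 ∧ ∃ a : F, T u = a • u
  · obtain ⟨u, hu, a, ha⟩ := hA
    have ha0 : a ≠ 0 := by
      rintro rfl
      rw [zero_smul] at ha
      exact hu (hTinj u ha)
    obtain ⟨U', hU', hc⟩ := hcompl (LinearMap.ker (B u)) (fun v hv => by
      rw [LinearMap.mem_ker] at hv ⊢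
      have h1 := hT u v
      rw [ha, map_smul, LinearMap.smul_apply, smul_eq_mul, hv] at h1
      exact (mul_eq_zero.1 h1).resolve_left ha0)
    obtain ⟨w, hw, hw0⟩ : ∃ w ∈ U', B u w ≠ 0 := by
      by_contra hcon
      push Not at hcon
      apply hu
      apply hnd'
      intro v
      obtain ⟨k, hk, l, hl, rfl⟩ := Submodule.mem_sup.1 (show v ∈ LinearMap.ker (B u) ⊔ U' by rw [hc.sup_eq_top]; trivial)
      rw [map_add, LinearMap.mem_ker.1 hk, hcon l hl, add_zero]
    refine ⟨u, (B u w)⁻¹ • w, ?_, ?_, ?_⟩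
    · rw [map_smul, smul_eq_mul, inv_mul_cancel₀ hw0]
    · rw [ha]
      exact smul_mem _ _ (subset_span (by simp))
    · set w' := (B u w)⁻¹ • w with hw'
      have hw'1 : B u w' = 1 := by rw [hw', map_smul, smul_eq_mul, inv_mul_cancel₀ hw0]
      have hw'm : w' ∈ U' := smul_mem _ _ hw
      have h1 : T w' - B u (T w') • w' ∈ LinearMap.ker (B u) ⊓ U' := by
        refine ⟨?_, sub_mem (hU' _ hw'm) (smul_mem _ _ hw'm)⟩
        rw [SetLike.mem_coe, LinearMap.mem_ker, map_sub, (B u).map_smul, hw'1, smul_eq_mul, mul_one, sub_self]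
      rw [hc.inf_eq_bot, Submodule.mem_bot, sub_eq_zero] at h1
      rw [h1]
      exact smul_mem _ _ (subset_span (by simp))
  push Not at hA
  obtain ⟨W', hW', hc⟩ := hcompl W hW
  have hW'b : W' ≠ ⊥ := by
    rintro rfl
    apply hWt
    have h1 := hc.sup_eq_top
    rwa [sup_bot_eq] at h1
  have hdim : ∀ U : Submodule F V, (∀ v ∈ U, T v ∈ U) → U ≠ ⊥ → 2 ≤ finrank F U := by
    intro U hU hUb
    by_contra hlt
    have h0 : finrank F U ≠ 0 := by
      rw [Ne, Submodule.finrank_eq_zero]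
      exact hUb
    have h1 : finrank F U = 1 := by omega
    obtain ⟨u, hu, hu0⟩ := Submodule.exists_mem_ne_zero_of_ne_bot hUb
    have h2 := (finrank_eq_one_iff_of_nonzero' (⟨u, hu⟩ : U) (fun h => hu0 (congrArg Subtype.val h))).1 h1
      ⟨T u, hU u hu⟩
    obtain ⟨c, hc⟩ := h2
    exact hA u hu0 c (congrArg Subtype.val hc).symm
  have hsum := Submodule.finrank_add_eq_of_isCompl hc
  rw [h4] at hsum
  have hd1 := hdim W hW hWb
  have hd2 := hdim W' hW' hW'b
  have hW2 : finrank F W = 2 := by omega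
  have hW'2 : finrank F W' = 2 := by omega
  -- a non-degenerate invariant plane
  have hplane : ∀ U : Submodule F V, (∀ v ∈ U, T v ∈ U) → finrank F U = 2 → (∃ x ∈ U, ∃ y ∈ U, B x y ≠ 0) →
      ∃ x y, B x y = 1 ∧ T x ∈ span F {x, y} ∧ T y ∈ span F {x, y} := by
    rintro U hU hU2 ⟨x, hx, y, hy, hxy⟩
    have hy' : (B x y)⁻¹ • y ∈ U := smul_mem _ _ hy
    have hxy1 : B x ((B x y)⁻¹ • y) = 1 := by rw [map_smul, smul_eq_mul, inv_mul_cancel₀ hxy]
    have hli : LinearIndependent F ![x, (B x y)⁻¹ • y] := by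
      rw [LinearIndependent.pair_iff]
      intro a b hab
      have h1 := congrArg (B x) hab
      rw [map_add, map_smul, map_smul, halt, hxy1, smul_zero, zero_add, smul_eq_mul, mul_one, map_zero] at h1
      subst h1
      rw [zero_smul, add_zero] at hab
      refine ⟨?_, rfl⟩
      rcases smul_eq_zero.1 hab with h | h
      · exact h
      · exfalso
        rw [h, map_zero, LinearMap.zero_apply] at hxy1
        exact zero_ne_one hxy1
    exact ⟨x, _, hxy1, mem_span_pair_of hU2 hx hy' hli (hU _ hx), mem_span_pair_of hU2 hx hy' hli (hU _ hy')⟩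
  by_cases hB1 : ∃ x ∈ W, ∃ y ∈ W, B x y ≠ 0
  · exact hplane W hW hW2 hB1
  by_cases hB2 : ∃ x ∈ W', ∃ y ∈ W', B x y ≠ 0
  · exact hplane W' hW' hW'2 hB2
  exfalso
  push Not at hB1 hB2
  obtain ⟨u, hu, hu0⟩ := Submodule.exists_mem_ne_zero_of_ne_bot hWb
  have hli : LinearIndependent F ![u, T u] := by
    rw [LinearIndependent.pair_iff]
    intro a b hab
    by_cases hb : b = 0
    · subst hb
      rw [zero_smul, add_zero] at hab
      exact ⟨(smul_eq_zero.1 hab).resolve_right hu0, rfl⟩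
    · exfalso
      apply hA u hu0 (-(b⁻¹ * a))
      have h1 : b⁻¹ • (a • u + b • T u) = 0 := by rw [hab, smul_zero]
      rw [smul_add, smul_smul, smul_smul, inv_mul_cancel₀ hb, one_smul, add_comm] at h1
      rw [neg_smul]
      exact eq_neg_of_add_eq_zero_left h1
  obtain ⟨d, s, hds⟩ : ∃ d s : F, T (T u) = d • u + s • T u := by
    have h1 := mem_span_pair_of hW2 hu (hW _ hu) hli (hW _ (hW _ hu))
    obtain ⟨d, s, h⟩ := Submodule.mem_span_pair.1 h1
    exact ⟨d, s, h.symm⟩
  have hWv : ∀ v ∈ W, T (T v) = d • v + s • T v := by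
    intro v hv
    obtain ⟨α, β, rfl⟩ := Submodule.mem_span_pair.1 (mem_span_pair_of hW2 hu (hW _ hu) hli hv)
    simp only [map_add, map_smul, hds]
    module
  have hW'v : ∀ w ∈ W', d • T (T w) + s • T w = w := by
    intro w hw
    have h1 : d • T (T w) + s • T w - w = 0 := by
      apply hnd
      intro v
      obtain ⟨k, hk, l, hl, rfl⟩ := Submodule.mem_sup.1 (show v ∈ W ⊔ W' by rw [hc.sup_eq_top]; trivial)
      have hmem : d • T (T w) + s • T w - w ∈ W' :=
        sub_mem (add_mem (smul_mem _ _ (hW' _ (hW' _ hw))) (smul_mem _ _ (hW' _ hw))) hw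
      rw [map_add, LinearMap.add_apply, hB2 l hl _ hmem, add_zero]
      have h2 : B k w = d * B k (T (T w)) + s * B k (T w) := by
        have h3 := hT (T k) (T w)
        rw [hT k w, hWv k hk, map_add, map_smul, map_smul, LinearMap.add_apply, LinearMap.smul_apply,
          LinearMap.smul_apply, hT k (T w), smul_eq_mul, smul_eq_mul] at h3
        exact h3.symm
      rw [map_sub, map_add, map_smul, map_smul, smul_eq_mul, smul_eq_mul, h2, sub_self]
    exact sub_eq_zero.1 h1
  by_cases hd : d = 1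
  · subst hd
    apply hs
    refine ⟨s, fun v => ?_⟩
    obtain ⟨k, hk, l, hl, rfl⟩ := Submodule.mem_sup.1 (show v ∈ W ⊔ W' by rw [hc.sup_eq_top]; trivial)
    have h1 := hWv k hk
    have h2 := hW'v l hl
    rw [one_smul] at h1 h2
    have h3 : T (T k) + s • T k + k = 0 := by
      rw [h1]
      have e : k + s • T k + s • T k + k = (k + k) + (s • T k + s • T k) := by abel
      rw [e, hself, hself, add_zero]
    have h4 : T (T l) + s • T l + l = 0 := by
      rw [h2, hself]
    rw [map_add, map_add, smul_add]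
    have e : T (T k) + T (T l) + (s • T k + s • T l) + (k + l) =
      (T (T k) + s • T k + k) + (T (T l) + s • T l + l) := by abel
    rw [e, h3, h4, add_zero]
  · -- `d ^ r = 1`
    let M : Matrix (Fin 2) (Fin 2) F := !![0, d; 1, s]
    have hφ : ∀ (k : ℕ) (c : Fin 2 → F), ((M ^ k).mulVec c) 0 • u + ((M ^ k).mulVec c) 1 • T u =
        (T ^ k) (c 0 • u + c 1 • T u) := by
      intro k
      induction k with
      | zero => intro c; simp
      | succ k ih =>
        intro c
        rw [pow_succ, pow_succ, ← Matrix.mulVec_mulVec, ih]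
        change _ = (T ^ k) (T (c 0 • u + c 1 • T u))
        congr 1
        have e0 : M.mulVec c 0 = d * c 1 := by
          simp [M, Matrix.mulVec, dotProduct, Fin.sum_univ_two]
        have e1 : M.mulVec c 1 = c 0 + s * c 1 := by
          simp [M, Matrix.mulVec, dotProduct, Fin.sum_univ_two]
        rw [e0, e1, map_add, map_smul, map_smul, hds]
        module
    have hM : M ^ r = 1 := by
      have h1 : ∀ c : Fin 2 → F, (M ^ r).mulVec c = c := by
        intro c
        have h2 := hφ r c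
        rw [hTr] at h2
        have h3 : ((M ^ r).mulVec c 0 - c 0) • u + ((M ^ r).mulVec c 1 - c 1) • T u = 0 := by
          have h4 : (1 : End F V) (c 0 • u + c 1 • T u) = c 0 • u + c 1 • T u := rfl
          rw [h4] at h2
          rw [sub_smul, sub_smul]
          have e : (M ^ r).mulVec c 0 • u - c 0 • u + ((M ^ r).mulVec c 1 • T u - c 1 • T u) =
            ((M ^ r).mulVec c 0 • u + (M ^ r).mulVec c 1 • T u) - (c 0 • u + c 1 • T u) := by abel
          rw [e, h2, sub_self]
        obtain ⟨h5, h6⟩ := LinearIndependent.pair_iff.1 hli _ _ h3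
        funext i
        fin_cases i
        · exact sub_eq_zero.1 h5
        · exact sub_eq_zero.1 h6
      apply Matrix.ext_of_mulVec_single
      intro i
      rw [h1, Matrix.one_mulVec]
    have hdr : d ^ r = 1 := by
      have h1 := congrArg Matrix.det hM
      rw [Matrix.det_pow, Matrix.det_one, Matrix.det_fin_two_of, zero_mul, mul_one, zero_sub] at h1
      have h2 : (-d : F) = d := CharTwo.neg_eq d
      rwa [h2] at h1
    have : Fact r.Prime := ⟨hr⟩
    have hprim : IsPrimitiveRoot d r := by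
      have h1 := orderOf_eq_prime hdr hd
      rw [← h1]
      exact IsPrimitiveRoot.orderOf d
    have hsplit := X_pow_sub_one_splits hprim
    have hne : (X ^ r - 1 : F[X]) ≠ 0 := (monic_X_pow_sub_C 1 hr.ne_zero).ne_zero
    have hdvd : minpoly F T ∣ X ^ r - 1 := minpoly.dvd F T hann
    have hsp : (minpoly F T).Splits := hsplit.of_dvd hne hdvd
    have hVnt : Nontrivial V := ⟨u, 0, hu0⟩
    have hdeg : (minpoly F T).degree ≠ 0 := (minpoly.degree_pos (Algebra.IsIntegral.isIntegral T)).ne'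
    obtain ⟨μ, hμ⟩ := hsp.exists_eval_eq_zero hdeg
    obtain ⟨v, hv⟩ := (End.hasEigenvalue_of_isRoot (f := T) (μ := μ) hμ).exists_hasEigenvector
    exact hA v hv.2 μ hv.apply_eq_smul

open Cfsg.Agent.H319.FC Cfsg.Agent.ClassicalGeometry.SympBasic Cfsg.Agent.ClassicalGeometry.SympAutSemi

/-- **F3** -/
theorem stF3 {F : Type*} [Field F] [Finite F] [CharP F 2] : StF3 F := by
  intro r z hr hr2 hzr hfix hs hirr
  unfold Irr4 at hirr
  push Not at hirr
  obtain ⟨W, hW, hWb, hWt⟩ := hirr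
  let T : End F (V4 F) := Matrix.mulVecLin (z : Matrix (Fin 2 ⊕ Fin 2) (Fin 2 ⊕ Fin 2) F)
  have hT : ∀ v, T v = rho 2 F z v := fun v => rfl
  have hTk : ∀ (k : ℕ) (v : V4 F), (T ^ k) v = rho 2 F (z ^ k) v := by
    intro k
    induction k with
    | zero => intro v; rw [pow_zero, pow_zero, map_one]; rfl
    | succ k ih =>
      intro v
      rw [pow_succ, pow_succ, map_mul]
      change (T ^ k) (T v) = rho 2 F (z ^ k) (rho 2 F z v)
      rw [ih, hT]
  have h4 : finrank F (V4 F) = 4 := by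
    rw [Module.finrank_pi]
    rfl
  exact f3_abs h4 (sympBilin 2 F) (fun v => sympForm_self v)
    (fun u h => eq_zero_of_forall_sympForm_left h) (fun u h => eq_zero_of_forall_sympForm_right h) T
    (fun u v => sympForm_rho z u v) hr hr2
    (by
      refine LinearMap.ext fun v => ?_
      rw [hTk, hzr, map_one]
      rfl) hs W hW hWb hWt

end Cfsg.Agent.H523.FC
end

-- part: H332/RC/GrTr
section
/-!
# S3510, row D, box GR: elements fixed by a graph involution which leave a nondegenerate plane invariant are split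
(helper332)

* `trace_rel` : a graph involution `δ` has an automorphism `φ` with `φ (φ (a ^ 2)) = a` and `tr z = φ (tr (γ z))` for
  `δ z = z`
* `exists_root` : the computation in the field
* `split` : if `z` leaves a nondegenerate plane invariant, then `z` is diagonal in a symplectic basis over `F` with
  different eigenvalues
-/

set_option autoImplicit false
set_option linter.unusedSectionVars false
set_option linter.unusedSimpArgs false

namespace Cfsg.Agent.H332.RC

open Cfsg Matrix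
open Cfsg.Agent.H319.FC Cfsg.Agent.H193.FC
open Cfsg.Agent.ClassicalGeometry.SympBasic Cfsg.Agent.ClassicalGeometry.SympAutSemi
open Cfsg.Agent.ClassicalGeometry.Sp4Graph Cfsg.Agent.ClassicalGeometry.Sp4GraphAut

universe u

variable {F : Type u} [Field F]

/-- the coordinate-wise action of a field automorphism -/
def fsm (φ : F ≃+* F) : semiSim 2 F :=
  ⟨{ toFun := fun v i => φ (v i)
     invFun := fun v i => φ.symm (v i)
     left_inv := fun v => by funext i; exact φ.symm_apply_apply _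
     right_inv := fun v => by funext i; exact φ.apply_symm_apply _ }, φ, 1, one_ne_zero,
    fun u v => by funext i; exact map_add φ _ _, fun a v => by funext i; exact map_mul φ _ _, fun u v => by
      rw [one_mul]
      change sympForm 2 F (fun i => φ (u i)) (fun i => φ (v i)) = _
      rw [sympForm_eq_sum, sympForm_eq_sum]
      simp only [map_sum, map_sub, map_mul]⟩

theorem fsm_apply (φ : F ≃+* F) (v : V4 F) (i : I4) : (fsm φ).1 v i = φ (v i) := rfl

theorem fsm_semi (φ : F ≃+* F) : IsSemi (fsm φ).1 φ 1 :=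
  ⟨fun u v => by funext i; exact map_add φ _ _, fun a v => by funext i; exact map_mul φ _ _, fun u v => by
      rw [one_mul]
      change sympForm 2 F (fun i => φ (u i)) (fun i => φ (v i)) = _
      rw [sympForm_eq_sum, sympForm_eq_sum]
      simp only [map_sum, map_sub, map_mul]⟩

theorem conjHom_fsm (φ : F ≃+* F) (A : Sp4 F) (i j : I4) : (conjHom 2 F (fsm φ) A).1 i j = φ (A.1 i j) := by
  have h1 := rho_conj_apply (g := fsm φ) (n := A) rfl (Pi.single j 1)
  have h2 : (fsm φ).1 (Pi.single j 1 : V4 F) = Pi.single j 1 := by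
    funext k
    rw [fsm_apply]
    by_cases hk : k = j
    · subst hk; simp
    · simp [hk]
  rw [h2] at h1
  have h3 := congrFun h1 i
  rw [fsm_apply, rho_apply, rho_apply, Matrix.mulVec_single_one, Matrix.mulVec_single_one] at h3
  exact h3.symm

section char2

variable [CharP F 2] [Finite F]

theorem trace_conj (A X : Sp4 F) : ((A * X * A⁻¹ : Sp4 F) : Matrix I4 I4 F).trace = (X : Matrix I4 I4 F).trace := by
  have h1 : ((A * X * A⁻¹ : Sp4 F) : Matrix I4 I4 F) = (A : Matrix I4 I4 F) * (X : Matrix I4 I4 F) *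
      ((A⁻¹ : Sp4 F) : Matrix I4 I4 F) := rfl
  have h2 : ((A⁻¹ : Sp4 F) : Matrix I4 I4 F) * (A : Matrix I4 I4 F) = 1 := by
    have := congrArg (fun y : Sp4 F => (y : Matrix I4 I4 F)) (inv_mul_cancel A)
    exact this
  rw [h1, Matrix.trace_mul_cycle, h2, one_mul]

theorem graph_coe (A : Sp4 F) (i j : I4) : (graphEquiv F A).1 i j =
    A.1 (pa i) (pa j) * A.1 (pb i) (pb j) + A.1 (pa i) (pb j) * A.1 (pb i) (pa j) := by
  rw [graphEquiv_apply, graphHom_coe, mn_apply]

theorem trace_graph_conjHom {g : semiSim 2 F} {φ : F ≃+* F} {l : F} (hl : l ≠ 0) (hg : IsSemi g.1 φ l) (X : Sp4 F) :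
    (graphEquiv F (conjHom 2 F g X) : Matrix I4 I4 F).trace = φ (graphEquiv F X : Matrix I4 I4 F).trace := by
  have h1 : IsSemi (g * (fsm φ)⁻¹ : semiSim 2 F).1 (φ.symm.trans φ) (l * φ (φ.symm 1⁻¹)) :=
    hg.mul ((fsm_semi φ).inv one_ne_zero)
  obtain ⟨A, hA, -⟩ := exists_conj_of_linear (by simpa only [_root_.inv_one, _root_.map_one, _root_.mul_one, _root_.ne_eq] using hl) h1 (fun a => φ.apply_symm_apply a)
  have h2 : conjHom 2 F g = MulAut.conj A * conjHom 2 F (fsm φ) := by
    rw [← hA, map_mul, map_inv, inv_mul_cancel_right]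
  rw [h2, MulAut.mul_apply, MulAut.conj_apply, map_mul (graphEquiv F), map_mul (graphEquiv F), map_inv (graphEquiv F),
    trace_conj, Matrix.trace, Matrix.trace, map_sum]
  refine Finset.sum_congr rfl fun i _ => ?_
  rw [Matrix.diag_apply, Matrix.diag_apply, graph_coe, graph_coe]
  simp only [conjHom_fsm, map_add, map_mul]

theorem trace_graph_graph (X : Sp4 F) :
    (graphEquiv F (graphEquiv F X) : Matrix I4 I4 F).trace = (X : Matrix I4 I4 F).trace ^ 2 := by
  have h1 : ∀ i, (graphEquiv F (graphEquiv F X)).1 i i = X.1 i i ^ 2 := by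
    intro i
    rw [graphEquiv_apply, graphEquiv_apply]
    exact graphHom_graphHom X i i
  simp only [Matrix.trace, Matrix.diag_apply, Fintype.sum_sum_type, Fin.sum_univ_two, h1]
  have h2 : (2 : F) = 0 := CharTwo.two_eq_zero
  ring_nf
  simp [h2]

theorem exists_trace (a : F) : ∃ X : Sp4 F, (X : Matrix I4 I4 F).trace = a := by
  have h2 : (2 : F) = 0 := CharTwo.two_eq_zero
  refine ⟨iota (⟨!![a, 1; 1, 0], ?_⟩, 1), ?_⟩
  · rw [Matrix.det_fin_two]
    simp
    exact CharTwo.neg_eq 1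
  · rw [trace_iota]
    simp only [Matrix.trace_fin_two, _root_.Fin.isValue, _root_.Matrix.of_apply, _root_.Matrix.cons_val', _root_.Matrix.cons_val_zero, _root_.Matrix.cons_val_fin_one, _root_.Matrix.cons_val_one, _root_.add_zero, _root_.Matrix.SpecialLinearGroup.coe_one, _root_.Matrix.trace_one, _root_.Fintype.card_fin, _root_.Nat.cast_ofNat, _root_.add_eq_left]
    linear_combination h2

/-- **Traces.** -/
theorem trace_rel (hq : 4 ≤ Nat.card F) {δ : MulAut (Sp4 F)} (hδ : δ ∉ (conjHom 2 F).range) (h2 : ∀ X, δ (δ X) = X) :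
    ∃ φ : F ≃+* F, (∀ a, φ (φ (a ^ 2)) = a) ∧ ∀ z, δ z = z →
      (z : Matrix I4 I4 F).trace = φ (graphEquiv F z : Matrix I4 I4 F).trace := by
  obtain ⟨g, rfl⟩ := exists_graph hq hδ
  obtain ⟨φ, l, hl, hs⟩ := g.2
  refine ⟨φ, fun a => ?_, fun z hz => ?_⟩
  · obtain ⟨X, rfl⟩ := exists_trace a
    have h3 := congrArg (fun Y : Sp4 F => (Y : Matrix I4 I4 F).trace) (h2 X)
    simp only [MulAut.mul_apply] at h3
    rw [trace_conjHom hs, trace_graph_conjHom hl hs, trace_graph_graph] at h3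
    exact h3
  · have h3 := congrArg (fun Y : Sp4 F => (Y : Matrix I4 I4 F).trace) hz
    simp only [MulAut.mul_apply] at h3
    rw [trace_conjHom hs] at h3
    exact h3.symm

theorem trace_graph_iota (p : SL2 F × SL2 F) :
    (graphEquiv F (iota p) : Matrix I4 I4 F).trace = p.1.1.trace * p.2.1.trace := by
  simp only [Matrix.trace, Matrix.diag_apply, Fintype.sum_sum_type, Fin.sum_univ_two, graph_coe, pa_inl, pa_inr,
    pb_inl0, pb_inl1, pb_inr0, pb_inr1, iota_coe]
  simp only [blk, _root_.Fin.isValue, _root_.Matrix.fromBlocks_apply₁₁, _root_.Matrix.diagonal_apply_eq, _root_.Matrix.cons_val_zero, _root_.Matrix.cons_val_one, _root_.Matrix.cons_val_fin_one, _root_.ne_eq, _root_.zero_ne_one, _root_.not_false_eq_true, _root_.Matrix.diagonal_apply_ne, _root_.one_ne_zero, _root_.MulZeroClass.mul_zero, _root_.add_zero, _root_.Matrix.fromBlocks_apply₂₂, _root_.Matrix.fromBlocks_apply₁₂, _root_.Matrix.fromBlocks_apply₂₁]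
  ring

/-! ### the field -/

theorem exists_two_pow (σ : F ≃+* F) : ∃ n : ℕ, ∀ a, σ a = a ^ (2 ^ n) := by
  have : Fact (Nat.Prime 2) := ⟨Nat.prime_two⟩
  let _ : Algebra (ZMod 2) F := ZMod.algebra F 2
  have hF := Fintype.ofFinite F
  have : FiniteDimensional (ZMod 2) F := Module.Finite.of_finite
  let σ' : F ≃ₐ[ZMod 2] F := AlgEquiv.ofRingEquiv (f := σ) (fun r => by
    have h1 : (σ : F →+* F).comp (algebraMap (ZMod 2) F) = algebraMap (ZMod 2) F := Subsingleton.elim _ _
    exact DFunLike.congr_fun h1 r)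
  obtain ⟨⟨i, hi⟩, hi2⟩ := (FiniteField.bijective_frobeniusAlgEquivOfAlgebraic_pow (ZMod 2) F).2 σ'
  have h1 : ∀ (k : ℕ) (x : F), (FiniteField.frobeniusAlgEquivOfAlgebraic (ZMod 2) F ^ k) x = x ^ (2 ^ k) := by
    intro k
    induction k with
    | zero => intro x; simp
    | succ k ih =>
      intro x
      rw [pow_succ', AlgEquiv.mul_apply, ih, FiniteField.coe_frobeniusAlgEquivOfAlgebraic]
      show (x ^ _) ^ _ = _
      rw [← pow_mul, ZMod.card, ← pow_succ]
  refine ⟨i, fun a => ?_⟩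
  rw [← h1]
  have h3 : (FiniteField.frobeniusAlgEquivOfAlgebraic (ZMod 2) F ^ i) a = σ' a := by rw [← hi2]
  rw [h3]
  rfl

theorem exists_as_pow (A : F) (n : ℕ) : ∃ B : F, B ^ 2 + B = A + A ^ (2 ^ n) := by
  have h2 : (2 : F) = 0 := CharTwo.two_eq_zero
  induction n with
  | zero =>
    refine ⟨0, ?_⟩
    rw [pow_zero, pow_one]
    linear_combination (-A) * h2
  | succ n ih =>
    obtain ⟨B, hB⟩ := ih
    refine ⟨B + A ^ (2 ^ n), ?_⟩
    rw [pow_succ 2 n, pow_mul]
    linear_combination hB + (B * A ^ (2 ^ n) + A ^ (2 ^ n)) * h2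

theorem exists_as (σ : F ≃+* F) (A : F) : ∃ B : F, B ^ 2 + B = A + σ A := by
  obtain ⟨n, hn⟩ := exists_two_pow σ
  rw [hn]
  exact exists_as_pow A n

/-- **The computation.** -/
theorem exists_root {φ : F ≃+* F} (hφ : ∀ a, φ (φ (a ^ 2)) = a) {s t : F} (hst : s ≠ t)
    (h : s + t = φ (s * t)) : ∃ x : F, x ^ 2 + s * x + 1 = 0 := by
  have h22 : (2 : F) = 0 := CharTwo.two_eq_zero
  have hadd : ∀ a b : F, a = b ↔ a + b = 0 := fun a b => CharTwo.add_eq_zero.symm
  obtain ⟨P, hP⟩ : ∃ P, P = s + t := ⟨_, rfl⟩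
  have hP0 : P ≠ 0 := by
    intro h0
    rw [h0] at hP
    exact hst ((hadd s t).2 hP.symm)
  obtain ⟨y, hy⟩ := exists_sqrt (s / P)
  have hsy : s = P * y ^ 2 := by rw [hy, mul_div_cancel₀ _ hP0]
  have hty : t = P * (1 + y) ^ 2 := by
    linear_combination (-1 : F) * hP + (-1 : F) * hsy - (P * y ^ 2 + P * y) * h22
  obtain ⟨Y, hY⟩ : ∃ Y, Y = φ y := ⟨_, rfl⟩
  have h1 : φ P ^ 2 = s * t := by
    rw [hP, h]
    have h2 := hφ (s * t)
    rw [map_pow, map_pow] at h2
    exact h2
  have h3 : φ P = P * (y * (1 + y)) := by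
    apply CharTwo.sq_injective
    change φ P ^ 2 = (P * (y * (1 + y))) ^ 2
    rw [h1, hsy, hty]
    ring
  have h4 : φ (φ P) = P * (y * (1 + y)) * (Y * (1 + Y)) := by
    rw [h3, map_mul, map_mul, map_add, map_one, h3, hY]
  have h5 : P = (P * (y * (1 + y)) * (Y * (1 + Y))) ^ 2 := by
    rw [← h4]
    have h2 := hφ P
    rw [map_pow, map_pow] at h2
    exact h2.symm
  have h6 : P * (y * (1 + y)) ^ 2 * (Y * (1 + Y)) ^ 2 = 1 := by
    apply mul_left_cancel₀ hP0
    linear_combination (-1 : F) * h5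
  obtain ⟨w, hw⟩ : ∃ w, w = (1 + y) * (Y * (1 + Y)) := ⟨_, rfl⟩
  have h7 : s * w ^ 2 = 1 := by
    rw [hw, hsy]
    linear_combination h6
  have h8 : (φ (y * Y)) ^ 2 = Y ^ 2 * y := by
    have h2 := hφ y
    rw [map_pow, map_pow] at h2
    rw [map_mul, mul_pow, ← hY, hY, h2]
  obtain ⟨B, hB⟩ := exists_as (φ.trans (frobeniusEquiv F 2)) (y * Y)
  have h9 : (φ.trans (frobeniusEquiv F 2)) (y * Y) = Y ^ 2 * y := by
    rw [← h8]
    rfl
  rw [h9] at hB
  obtain ⟨u, hu⟩ : ∃ u, u = Y + B := ⟨_, rfl⟩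
  have h10 : u ^ 2 + u = w := by
    rw [hu, hw]
    linear_combination hB + (Y * B) * h22
  refine ⟨s * u ^ 4, ?_⟩
  have h11 : (u ^ 2 + u) ^ 4 = u ^ 8 + u ^ 4 := by
    linear_combination (2 * u ^ 7 + 3 * u ^ 6 + 2 * u ^ 5) * h22
  have h12 : s ^ 2 * w ^ 4 = 1 := by linear_combination (s * w ^ 2 + 1) * h7
  linear_combination h12 + h22 - s ^ 2 * h11 + s ^ 2 * ((u ^ 2 + u) ^ 3 + (u ^ 2 + u) ^ 2 * w + (u ^ 2 + u) * w ^ 2 + w ^ 3) * h10

/-! ### Diagonalisation -/

omit [Finite F] in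
theorem iota_apply (p : SL2 F × SL2 F) (x : V4 F) : rho 2 F (iota p) x =
    (p.1.1 0 0 * x (.inl 0) + p.1.1 0 1 * x (.inr 0)) • e1 F + (p.2.1 0 0 * x (.inl 1) + p.2.1 0 1 * x (.inr 1)) • e2 F +
    (p.1.1 1 0 * x (.inl 0) + p.1.1 1 1 * x (.inr 0)) • f1 F + (p.2.1 1 0 * x (.inl 1) + p.2.1 1 1 * x (.inr 1)) • f2 F :=
  blk_mulVec _ _ x

omit [Finite F] in
theorem exists_sl {a b c d : F} (h : a * d + b * c = 1) :
    ∃ g : SL2 F, g.1 0 0 = a ∧ g.1 0 1 = c ∧ g.1 1 0 = b ∧ g.1 1 1 = d := by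
  have h22 : (2 : F) = 0 := CharTwo.two_eq_zero
  refine ⟨⟨!![a, c; b, d], ?_⟩, rfl, rfl, rfl, rfl⟩
  rw [Matrix.det_fin_two]
  simp
  linear_combination h - (b * c) * h22

omit [Finite F] in
theorem exists_iota {z : Sp4 F} {x y : V4 F} (hxy : sympForm 2 F x y = 1)
    (hzx : rho 2 F z x ∈ Submodule.span F {x, y}) (hzy : rho 2 F z y ∈ Submodule.span F {x, y}) :
    ∃ (k : Sp4 F) (p : SL2 F × SL2 F), z = k * iota p * k⁻¹ := by
  have h22 : (2 : F) = 0 := CharTwo.two_eq_zero
  obtain ⟨a, b, hab⟩ := Submodule.mem_span_pair.1 hzx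
  obtain ⟨c, d, hcd⟩ := Submodule.mem_span_pair.1 hzy
  obtain ⟨w, w', h1, h2, h3, h4, h5⟩ := exists_rest hxy
  have hyx : sympForm 2 F y x = 1 := by rw [form_symm, hxy]
  have hw'w : sympForm 2 F w' w = 1 := by rw [form_symm, h5]
  have hdet : a * d + b * c = 1 := by
    have := sympForm_rho z x y
    rw [← hab, ← hcd, hxy] at this
    simp only [sympForm_add_left, sympForm_add_right, sympForm_smul_left, sympForm_smul_right, sympForm_self, hxy,
      hyx] at this
    linear_combination this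
  have hX : rho 2 F z (d • x + b • y) = x := by
    rw [rho_add, rho_smul, rho_smul, ← hab, ← hcd]
    funext i
    simp only [Pi.add_apply, Pi.smul_apply, smul_eq_mul]
    linear_combination (x i) * hdet + (b * d * y i) * h22
  have hY : rho 2 F z (c • x + a • y) = y := by
    rw [rho_add, rho_smul, rho_smul, ← hab, ← hcd]
    funext i
    simp only [Pi.add_apply, Pi.smul_apply, smul_eq_mul]
    linear_combination (y i) * hdet + (a * c * x i) * h22
  have hXw : ∀ u, sympForm 2 F x u = 0 → sympForm 2 F y u = 0 → sympForm 2 F x (rho 2 F z u) = 0 := by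
    intro u hu hu'
    rw [← hX, sympForm_rho, sympForm_add_left, sympForm_smul_left, sympForm_smul_left, hu, hu', mul_zero, mul_zero,
      add_zero]
  have hYw : ∀ u, sympForm 2 F x u = 0 → sympForm 2 F y u = 0 → sympForm 2 F y (rho 2 F z u) = 0 := by
    intro u hu hu'
    rw [← hY, sympForm_rho, sympForm_add_left, sympForm_smul_left, sympForm_smul_left, hu, hu', mul_zero, mul_zero,
      add_zero]
  have hc1 := coord hxy h1 h2 h3 h4 h5 (rho 2 F z w)
  have hc2 := coord hxy h1 h2 h3 h4 h5 (rho 2 F z w')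
  rw [hXw w h1 h2, hYw w h1 h2, zero_smul, zero_smul, zero_add, zero_add] at hc1
  rw [hXw w' h3 h4, hYw w' h3 h4, zero_smul, zero_smul, zero_add, zero_add] at hc2
  obtain ⟨a', ha'⟩ : ∃ t, t = sympForm 2 F w' (rho 2 F z w) := ⟨_, rfl⟩
  obtain ⟨b', hb'⟩ : ∃ t, t = sympForm 2 F w (rho 2 F z w) := ⟨_, rfl⟩
  obtain ⟨c', hc'⟩ : ∃ t, t = sympForm 2 F w' (rho 2 F z w') := ⟨_, rfl⟩
  obtain ⟨d', hd'⟩ : ∃ t, t = sympForm 2 F w (rho 2 F z w') := ⟨_, rfl⟩
  rw [← ha', ← hb'] at hc1
  rw [← hc', ← hd'] at hc2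
  have hdet' : a' * d' + b' * c' = 1 := by
    have := sympForm_rho z w w'
    rw [hc1, hc2, h5] at this
    simp only [sympForm_add_left, sympForm_add_right, sympForm_smul_left, sympForm_smul_right, sympForm_self, h5,
      hw'w] at this
    linear_combination this
  obtain ⟨k, hk⟩ := exists_sp (a := x) (b := w) (c := y) (d := w') h1 hxy h3 (by rw [form_symm, h2]) h5 h4
  obtain ⟨p, p1, p2, p3, p4⟩ := exists_sl hdet
  obtain ⟨p', p1', p2', p3', p4'⟩ := exists_sl hdet'
  refine ⟨k, (p, p'), eq_mul_inv_iff_mul_eq.2 ?_⟩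
  apply rho_injective
  ext1 v
  rw [map_mul, map_mul, Equiv.Perm.mul_apply, Equiv.Perm.mul_apply, iota_apply, hk, hk, rho_add, rho_add, rho_add,
    rho_smul, rho_smul, rho_smul, rho_smul, ← hab, ← hcd, hc1, hc2]
  simp only [p1, p2, p3, p4, p1', p2', p3', p4']
  funext i
  simp only [e1, e2, f1, f2, _root_.Fin.isValue, _root_.smul_add, _root_.Pi.add_apply, _root_.Pi.smul_apply, _root_.smul_eq_mul, _root_.Pi.single_eq_same, _root_.mul_one, _root_.ne_eq, _root_.Sum.inl.injEq, _root_.zero_ne_one, _root_.not_false_eq_true, _root_.Pi.single_eq_of_ne, _root_.MulZeroClass.mul_zero, _root_.add_zero, _root_.reduceCtorEq, _root_.one_ne_zero, _root_.zero_add, _root_.Sum.inr.injEq]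
  ring

/-- the diagonal matrices -/
def dgl (x : Fˣ) : SL2 F := ⟨!![(x : F), 0; 0, (x⁻¹ : Fˣ)], by rw [Matrix.det_fin_two]; simp⟩

omit [Finite F] in
theorem exists_dgl (g : SL2 F) {x : F} (hx : x ^ 2 + g.1.trace * x + 1 = 0) (ht : g.1.trace ≠ 0) :
    ∃ (k : SL2 F) (u : Fˣ), g = k * dgl u * k⁻¹ := by
  have h22 : (2 : F) = 0 := CharTwo.two_eq_zero
  have hx0 : x ≠ 0 := by
    rintro rfl
    simp at hx
  have hev : ∀ y : F, y ^ 2 + g.1.trace * y + 1 = 0 → ∃ v : Fin 2 → F, v ≠ 0 ∧ g.1 *ᵥ v = y • v := by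
    intro y hy
    have h1 : (y • (1 : Matrix (Fin 2) (Fin 2) F) + (1 : F) • g.1).det = 0 := by
      rw [det_comb]
      linear_combination hy
    obtain ⟨v, hv, hv'⟩ := Matrix.exists_mulVec_eq_zero_iff.2 h1
    refine ⟨v, hv, ?_⟩
    rw [Matrix.add_mulVec, Matrix.smul_mulVec, Matrix.smul_mulVec, Matrix.one_mulVec, one_smul] at hv'
    funext i
    have h2 := congrFun hv' i
    rw [Pi.zero_apply, Pi.add_apply] at h2
    exact (CharTwo.add_eq_zero.1 h2).symm
  obtain ⟨v, hv, hgv⟩ := hev x hx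
  have hxi : x⁻¹ = g.1.trace + x := by
    apply mul_left_cancel₀ hx0
    rw [mul_inv_cancel₀ hx0]
    linear_combination hx - (x ^ 2 + g.1.trace * x) * h22
  obtain ⟨v', hv', hgv'⟩ := hev x⁻¹ (by
    rw [hxi]
    linear_combination hx + (g.1.trace ^ 2 + g.1.trace * x) * h22)
  have hne : x⁻¹ ≠ x := by
    rw [hxi]
    intro h
    exact ht (add_eq_right.1 h)
  obtain ⟨D, hD⟩ : ∃ D, D = v 0 * v' 1 - v' 0 * v 1 := ⟨_, rfl⟩
  have hD0 : D ≠ 0 := by
    intro h0
    rw [hD] at h0
    -- `v' 1 • v = v 1 • v'`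
    have h1 : ∀ i, v' 1 * v i = v 1 * v' i :=
      Fin.forall_fin_two.2 ⟨by linear_combination h0, mul_comm _ _⟩
    have h2 : ∀ i, v' 0 * v i = v 0 * v' i :=
      Fin.forall_fin_two.2 ⟨mul_comm _ _, by linear_combination -h0⟩
    have key : ∀ a b : F, (∀ i, a * v i = b * v' i) → a = 0 ∧ b = 0 := by
      intro a b hab
      have h3 : ∀ i, a * (x * v i) = b * (x⁻¹ * v' i) := by
        intro i
        have e1' : a • v = b • v' := funext hab
        have e2' := congrArg (fun u => g.1 *ᵥ u) e1'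
        simp only [Matrix.mulVec_smul, hgv, hgv'] at e2'
        exact congrFun e2' i
      have h4 : ∀ i, b * (x⁻¹ - x) * v' i = 0 := by
        intro i
        linear_combination x * hab i - h3 i
      have h5 : b = 0 := by
        by_contra hb
        apply hv'
        funext i
        rcases mul_eq_zero.1 (h4 i) with h | h
        · rcases mul_eq_zero.1 h with h | h
          · exact absurd h hb
          · exact absurd (sub_eq_zero.1 h) hne
        · exact h
      refine ⟨?_, h5⟩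
      by_contra ha
      apply hv
      funext i
      have := hab i
      rw [h5, zero_mul] at this
      exact (mul_eq_zero.1 this).resolve_left ha
    obtain ⟨h3, -⟩ := key _ _ h1
    obtain ⟨h4, -⟩ := key _ _ h2
    apply hv'
    funext i
    fin_cases i
    · exact h4
    · exact h3
  have hg : ∀ i, g.1 i 0 * v 0 + g.1 i 1 * v 1 = x * v i := by
    intro i
    have := congrFun hgv i
    simpa only [Matrix.mulVec, dotProduct, Fin.sum_univ_two, _root_.Fin.isValue, _root_.Pi.smul_apply, _root_.smul_eq_mul] using this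
  have hg' : ∀ i, g.1 i 0 * v' 0 + g.1 i 1 * v' 1 = x⁻¹ * v' i := by
    intro i
    have := congrFun hgv' i
    simpa only [Matrix.mulVec, dotProduct, Fin.sum_univ_two, _root_.Fin.isValue, _root_.Pi.smul_apply, _root_.smul_eq_mul] using this
  obtain ⟨k, k1, k2, k3, k4⟩ := exists_sl (a := v 0) (b := v 1) (c := D⁻¹ * v' 0) (d := D⁻¹ * v' 1) (by
    have h3 : D⁻¹ * D = 1 := inv_mul_cancel₀ hD0
    rw [hD] at h3 ⊢
    linear_combination h3 + (v 1 * ((v 0 * v' 1 - v' 0 * v 1)⁻¹ * v' 0)) * h22)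
  refine ⟨k, Units.mk0 x hx0, eq_mul_inv_iff_mul_eq.2 ?_⟩
  apply Subtype.ext
  change g.1 * k.1 = k.1 * (dgl (Units.mk0 x hx0)).1
  ext i j
  fin_cases i <;> fin_cases j
  · simp only [dgl, Matrix.mul_apply, Fin.sum_univ_two, k1, k2, k3, k4, _root_.Fin.zero_eta, _root_.Fin.isValue, _root_.Units.val_mk0, _root_.Units.val_inv_eq_inv_val, _root_.Matrix.of_apply, _root_.Matrix.cons_val', _root_.Matrix.cons_val_zero, _root_.Matrix.cons_val_fin_one, _root_.Matrix.cons_val_one, _root_.MulZeroClass.mul_zero, _root_.add_zero]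
    linear_combination hg 0
  · simp only [dgl, Matrix.mul_apply, Fin.sum_univ_two, k1, k2, k3, k4, _root_.Fin.zero_eta, _root_.Fin.isValue, _root_.Fin.mk_one, _root_.Units.val_mk0, _root_.Units.val_inv_eq_inv_val, _root_.Matrix.of_apply, _root_.Matrix.cons_val', _root_.Matrix.cons_val_one, _root_.Matrix.cons_val_fin_one, _root_.Matrix.cons_val_zero, _root_.MulZeroClass.mul_zero, _root_.zero_add]
    linear_combination D⁻¹ * hg' 0
  · simp only [dgl, Matrix.mul_apply, Fin.sum_univ_two, k1, k2, k3, k4, _root_.Fin.mk_one, _root_.Fin.isValue, _root_.Fin.zero_eta, _root_.Units.val_mk0, _root_.Units.val_inv_eq_inv_val, _root_.Matrix.of_apply, _root_.Matrix.cons_val', _root_.Matrix.cons_val_zero, _root_.Matrix.cons_val_fin_one, _root_.Matrix.cons_val_one, _root_.MulZeroClass.mul_zero, _root_.add_zero]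
    linear_combination hg 1
  · simp only [dgl, Matrix.mul_apply, Fin.sum_univ_two, k1, k2, k3, k4, _root_.Fin.mk_one, _root_.Fin.isValue, _root_.Units.val_mk0, _root_.Units.val_inv_eq_inv_val, _root_.Matrix.of_apply, _root_.Matrix.cons_val', _root_.Matrix.cons_val_one, _root_.Matrix.cons_val_fin_one, _root_.Matrix.cons_val_zero, _root_.MulZeroClass.mul_zero, _root_.zero_add]
    linear_combination D⁻¹ * hg' 1

/-- the split torus -/
def tor (a b : Fˣ) : Sp4 F := iota (dgl a, dgl b)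

omit [Finite F] in
theorem tor_apply (a b : Fˣ) (x : V4 F) : rho 2 F (tor a b) x =
    ((a : F) * x (.inl 0)) • e1 F + ((b : F) * x (.inl 1)) • e2 F + (((a⁻¹ : Fˣ) : F) * x (.inr 0)) • f1 F +
      (((b⁻¹ : Fˣ) : F) * x (.inr 1)) • f2 F := by
  rw [tor, iota_apply]
  simp only [dgl, _root_.Units.val_inv_eq_inv_val, _root_.Fin.isValue, _root_.Matrix.of_apply, _root_.Matrix.cons_val', _root_.Matrix.cons_val_zero, _root_.Matrix.cons_val_fin_one, _root_.Matrix.cons_val_one, _root_.MulZeroClass.zero_mul, _root_.add_zero, _root_.zero_add]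

omit [Finite F] in
theorem trace_dgl (a : Fˣ) : (dgl a).1.trace = a + (a⁻¹ : Fˣ) := by
  simp [dgl, Matrix.trace_fin_two]

omit [Finite F] in
theorem iota_quad {p : SL2 F × SL2 F} (h : p.1.1.trace = p.2.1.trace) (v : V4 F) :
    rho 2 F (iota p) (rho 2 F (iota p) v) + p.1.1.trace • rho 2 F (iota p) v + v = 0 := by
  have h22 : (2 : F) = 0 := CharTwo.two_eq_zero
  have h1 := ch2 p.1
  have h2 := ch2 p.2
  rw [← h] at h2
  have e : ∀ (g : SL2 F) (s : F), g.1 * g.1 = s • g.1 + 1 → ∀ i j, g.1 i 0 * g.1 0 j + g.1 i 1 * g.1 1 j =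
      s * g.1 i j + if i = j then 1 else 0 := by
    intro g s hg i j
    have := congrFun (congrFun hg i) j
    rw [Matrix.mul_apply, Fin.sum_univ_two, Matrix.add_apply, Matrix.smul_apply, Matrix.one_apply] at this
    exact this
  have a00 := e _ _ h1 0 0
  have a01 := e _ _ h1 0 1
  have a10 := e _ _ h1 1 0
  have a11 := e _ _ h1 1 1
  have b00 := e _ _ h2 0 0
  have b01 := e _ _ h2 0 1
  have b10 := e _ _ h2 1 0
  have b11 := e _ _ h2 1 1
  simp only [if_true, zero_ne_one, one_ne_zero, if_false, add_zero] at a00 a01 a10 a11 b00 b01 b10 b11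
  funext i
  rw [iota_apply, iota_apply]
  rcases i with i | i <;> fin_cases i
  · simp only [e1, e2, f1, f2, _root_.Fin.isValue, _root_.Pi.add_apply, _root_.Pi.smul_apply, _root_.Pi.single_eq_same, _root_.smul_eq_mul, _root_.mul_one, _root_.ne_eq, _root_.Sum.inl.injEq, _root_.zero_ne_one, _root_.not_false_eq_true, _root_.Pi.single_eq_of_ne, _root_.MulZeroClass.mul_zero, _root_.add_zero, _root_.reduceCtorEq, _root_.zero_add, _root_.Sum.inr.injEq, _root_.one_ne_zero, _root_.smul_add, _root_.Fin.zero_eta, _root_.Pi.zero_apply]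
    linear_combination v (.inl 0) * a00 + v (.inr 0) * a01 +
      (p.1.1.trace * (p.1.1 0 0 * v (.inl 0) + p.1.1 0 1 * v (.inr 0)) + v (.inl 0)) * h22
  · simp only [e1, e2, f1, f2, _root_.Fin.isValue, _root_.Pi.add_apply, _root_.Pi.smul_apply, _root_.Pi.single_eq_same, _root_.smul_eq_mul, _root_.mul_one, _root_.ne_eq, _root_.Sum.inl.injEq, _root_.zero_ne_one, _root_.not_false_eq_true, _root_.Pi.single_eq_of_ne, _root_.MulZeroClass.mul_zero, _root_.add_zero, _root_.reduceCtorEq, _root_.zero_add, _root_.Sum.inr.injEq, _root_.one_ne_zero, _root_.smul_add, _root_.Fin.mk_one, _root_.Pi.zero_apply]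
    linear_combination v (.inl 1) * b00 + v (.inr 1) * b01 +
      (p.1.1.trace * (p.2.1 0 0 * v (.inl 1) + p.2.1 0 1 * v (.inr 1)) + v (.inl 1)) * h22
  · simp only [e1, e2, f1, f2, _root_.Fin.isValue, _root_.Pi.add_apply, _root_.Pi.smul_apply, _root_.Pi.single_eq_same, _root_.smul_eq_mul, _root_.mul_one, _root_.ne_eq, _root_.Sum.inl.injEq, _root_.zero_ne_one, _root_.not_false_eq_true, _root_.Pi.single_eq_of_ne, _root_.MulZeroClass.mul_zero, _root_.add_zero, _root_.reduceCtorEq, _root_.zero_add, _root_.Sum.inr.injEq, _root_.one_ne_zero, _root_.smul_add, _root_.Fin.zero_eta, _root_.Pi.zero_apply]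
    linear_combination v (.inl 0) * a10 + v (.inr 0) * a11 +
      (p.1.1.trace * (p.1.1 1 0 * v (.inl 0) + p.1.1 1 1 * v (.inr 0)) + v (.inr 0)) * h22
  · simp only [e1, e2, f1, f2, _root_.Fin.isValue, _root_.Pi.add_apply, _root_.Pi.smul_apply, _root_.Pi.single_eq_same, _root_.smul_eq_mul, _root_.mul_one, _root_.ne_eq, _root_.Sum.inl.injEq, _root_.zero_ne_one, _root_.not_false_eq_true, _root_.Pi.single_eq_of_ne, _root_.MulZeroClass.mul_zero, _root_.add_zero, _root_.reduceCtorEq, _root_.zero_add, _root_.Sum.inr.injEq, _root_.one_ne_zero, _root_.smul_add, _root_.Fin.mk_one, _root_.Pi.zero_apply]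
    linear_combination v (.inl 1) * b10 + v (.inr 1) * b11 +
      (p.1.1.trace * (p.2.1 1 0 * v (.inl 1) + p.2.1 1 1 * v (.inr 1)) + v (.inr 1)) * h22

end char2

end Cfsg.Agent.H332.RC
end

-- part: H332/RC/GrSplit
section
/-!
# S3510, row D, box GR: the split torus (helper332)

* `split` : an element of odd order fixed by a graph involution which leaves a nondegenerate plane invariant is in a
  split torus `k tor k⁻¹`, regular
* `cent_tor` : the elements commuting with it are diagonal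
-/

set_option autoImplicit false
set_option linter.unusedSectionVars false

namespace Cfsg.Agent.H332.RC

open Cfsg Matrix
open Cfsg.Agent.H319.FC Cfsg.Agent.H193.FC
open Cfsg.Agent.ClassicalGeometry.SympBasic Cfsg.Agent.ClassicalGeometry.SympAutSemi
open Cfsg.Agent.ClassicalGeometry.Sp4Graph Cfsg.Agent.ClassicalGeometry.Sp4GraphAut

universe u

variable {F : Type u} [Field F] [CharP F 2]

/-- regular pairs -/
structure Reg (a b : Fˣ) : Prop where
  h1 : (a : F) ≠ (a⁻¹ : Fˣ)
  h2 : (b : F) ≠ (b⁻¹ : Fˣ)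
  h3 : (a : F) ≠ b
  h4 : (a : F) ≠ (b⁻¹ : Fˣ)

theorem conj_fix {z k s : Sp4 F} (h : z = k * s * k⁻¹) {v : V4 F} (hv : rho 2 F s v = v) :
    rho 2 F z (rho 2 F k v) = rho 2 F k v := by
  rw [← rho_mul_apply, h, inv_mul_cancel_right, rho_mul_apply, hv]

theorem rho_inj_zero {k : Sp4 F} {v : V4 F} (h : rho 2 F k v = 0) : v = 0 := by
  apply (rho 2 F k).injective
  rw [h, rho_zero_vec]

/-- **Splitting.** -/
theorem split [Finite F] (hq : 4 ≤ Nat.card F) {δ : MulAut (Sp4 F)} (hδ : δ ∉ (conjHom 2 F).range)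
    (h2 : ∀ X, δ (δ X) = X) {z : Sp4 F} (hz : δ z = z) (hz1 : z ≠ 1) (ho : Odd (orderOf z)) {x y : V4 F}
    (hxy : sympForm 2 F x y = 1) (hzx : rho 2 F z x ∈ Submodule.span F {x, y})
    (hzy : rho 2 F z y ∈ Submodule.span F {x, y}) :
    ∃ (k : Sp4 F) (a b : Fˣ), z = k * tor a b * k⁻¹ ∧ Reg a b := by
  obtain ⟨k, p, hk⟩ := exists_iota hxy hzx hzy
  obtain ⟨φ, hφ, htr⟩ := trace_rel hq hδ h2
  have hfix := fun {v : V4 F} => no_fix hq hδ hz hz1 ho (v := v)
  have hn : (iota p) ^ orderOf z = 1 := by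
    have h3 : iota p = k⁻¹ * z * k := by rw [hk]; group
    rw [h3]
    have h4 : (k⁻¹ * z * k) ^ orderOf z = k⁻¹ * z ^ orderOf z * k := by
      have := conj_pow (i := orderOf z) (a := k⁻¹) (b := z)
      rwa [inv_inv] at this
    rw [h4, pow_orderOf_eq_one, mul_one, inv_mul_cancel]
  have hpn : p ^ orderOf z = 1 := by
    apply iota_injective
    rw [map_pow, hn, map_one]
  have ho1 : Odd (orderOf p.1) := Odd.of_dvd_nat ho (orderOf_dvd_of_pow_eq_one (congrArg Prod.fst hpn))
  have ho2 : Odd (orderOf p.2) := Odd.of_dvd_nat ho (orderOf_dvd_of_pow_eq_one (congrArg Prod.snd hpn))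
  have he1 : e1 F ≠ 0 := e1_ne
  have he2 : e2 F ≠ 0 := e2_ne
  have hp1 : p.1 ≠ 1 := by
    intro h3
    have h4 : rho 2 F (iota p) (e1 F) = e1 F := by
      rw [iota_apply, h3]
      funext i
      rcases i with i | i <;> (revert i; simp [e1, e2, f1, f2, _root_.Fin.forall_fin_succ])
    exact he1 (rho_inj_zero (hfix (conj_fix hk h4)))
  have hp2 : p.2 ≠ 1 := by
    intro h3
    have h4 : rho 2 F (iota p) (e2 F) = e2 F := by
      rw [iota_apply, h3]
      funext i
      rcases i with i | i <;> (revert i; simp [e1, e2, f1, f2, _root_.Fin.forall_fin_succ])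
    exact he2 (rho_inj_zero (hfix (conj_fix hk h4)))
  have ht1 := trace_ne_zero hp1 ho1
  have ht2 := trace_ne_zero hp2 ho2
  have hne : p.1.1.trace ≠ p.2.1.trace := by
    intro h3
    refine no_quad hq hδ hz hz1 ho ⟨p.1.1.trace, fun v => ?_⟩
    obtain ⟨v, rfl⟩ := (rho 2 F k).surjective v
    have h4 : ∀ u, rho 2 F z (rho 2 F k u) = rho 2 F k (rho 2 F (iota p) u) := by
      intro u
      rw [← rho_mul_apply, hk, inv_mul_cancel_right, rho_mul_apply]
    rw [h4, h4, ← rho_smul, ← rho_add, ← rho_add, iota_quad h3, rho_zero_vec]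
  have hrel : p.1.1.trace + p.2.1.trace = φ (p.1.1.trace * p.2.1.trace) := by
    have h3 := htr z hz
    rw [hk, map_mul (graphEquiv F), map_mul (graphEquiv F), map_inv (graphEquiv F), trace_conj, trace_conj,
      trace_graph_iota, trace_iota] at h3
    exact h3
  obtain ⟨x1, hx1⟩ := exists_root hφ hne hrel
  obtain ⟨x2, hx2⟩ := exists_root hφ hne.symm (by rw [add_comm, mul_comm]; exact hrel)
  obtain ⟨k1, a, ha⟩ := exists_dgl p.1 hx1 ht1
  obtain ⟨k2, b, hb⟩ := exists_dgl p.2 hx2 ht2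
  have hta : p.1.1.trace = a + (a⁻¹ : Fˣ) := by
    rw [← trace_dgl, ha]
    change (k1.1 * (dgl a).1 * (k1⁻¹).1).trace = _
    rw [Matrix.trace_mul_cycle]
    have : (k1⁻¹).1 * k1.1 = 1 := congrArg (fun g : SL2 F => g.1) (inv_mul_cancel k1)
    rw [this, one_mul]
  have htb : p.2.1.trace = b + (b⁻¹ : Fˣ) := by
    rw [← trace_dgl, hb]
    change (k2.1 * (dgl b).1 * (k2⁻¹).1).trace = _
    rw [Matrix.trace_mul_cycle]
    have : (k2⁻¹).1 * k2.1 = 1 := congrArg (fun g : SL2 F => g.1) (inv_mul_cancel k2)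
    rw [this, one_mul]
  rw [hta] at ht1 hne
  rw [htb] at ht2 hne
  refine ⟨k * iota (k1, k2), a, b, ?_, ⟨?_, ?_, ?_, ?_⟩⟩
  · rw [hk]
    have h3 : iota p = iota (k1, k2) * tor a b * (iota (k1, k2))⁻¹ := by
      rw [tor, ← map_mul, ← map_inv, ← map_mul]
      congr 1
      exact Prod.ext ha hb
    rw [h3]
    group
  · intro h3
    apply ht1
    rw [← h3]
    exact CharTwo.add_self_eq_zero _
  · intro h3
    apply ht2
    rw [← h3]
    exact CharTwo.add_self_eq_zero _
  · intro h3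
    apply hne
    rw [Units.ext h3]
  · intro h3
    apply hne
    have h4 : a = b⁻¹ := Units.ext h3
    rw [h4, inv_inv, add_comm]

/-- **The centraliser of a regular element of the torus.** -/
theorem cent_tor {a b : Fˣ} (h : Reg a b) {X : Sp4 F} (hX : X * tor a b = tor a b * X) :
    ∃ a' b' : Fˣ, X = tor a' b' := by
  have hai : (a : F) * ((a⁻¹ : Fˣ) : F) = 1 := by rw [← Units.val_mul, mul_inv_cancel, Units.val_one]
  have hbi : (b : F) * ((b⁻¹ : Fˣ) : F) = 1 := by rw [← Units.val_mul, mul_inv_cancel, Units.val_one]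
  have hc : ∀ v, rho 2 F X (rho 2 F (tor a b) v) = rho 2 F (tor a b) (rho 2 F X v) := by
    intro v
    rw [← rho_mul_apply, hX, rho_mul_apply]
  have hcoord : ∀ (c : F) (v : V4 F), rho 2 F (tor a b) v = c • v →
      ((a : F) - c) * (rho 2 F X v) (.inl 0) = 0 ∧ ((b : F) - c) * (rho 2 F X v) (.inl 1) = 0 ∧
      ((((a⁻¹ : Fˣ) : F)) - c) * (rho 2 F X v) (.inr 0) = 0 ∧ ((((b⁻¹ : Fˣ) : F)) - c) * (rho 2 F X v) (.inr 1) = 0 := by
    intro c v hv
    have h1 := hc v
    rw [hv, rho_smul, tor_apply] at h1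
    have g1 := congrFun h1 (.inl 0)
    have g2 := congrFun h1 (.inl 1)
    have g3 := congrFun h1 (.inr 0)
    have g4 := congrFun h1 (.inr 1)
    simp [e1, e2, f1, f2, -mul_eq_mul_right_iff, -mul_eq_mul_left_iff] at g1 g2 g3 g4
    refine ⟨?_, ?_, ?_, ?_⟩
    · linear_combination -g1
    · linear_combination -g2
    · rw [Units.val_inv_eq_inv_val]; linear_combination -g3
    · rw [Units.val_inv_eq_inv_val]; linear_combination -g4
  have t1 : rho 2 F (tor a b) (e1 F) = (a : F) • e1 F := by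
    rw [tor_apply]; funext i; rcases i with i | i <;> (revert i; simp [e1, e2, f1, f2, _root_.Fin.forall_fin_succ])
  have t2 : rho 2 F (tor a b) (e2 F) = (b : F) • e2 F := by
    rw [tor_apply]; funext i; rcases i with i | i <;> (revert i; simp [e1, e2, f1, f2, _root_.Fin.forall_fin_succ])
  have t3 : rho 2 F (tor a b) (f1 F) = ((a⁻¹ : Fˣ) : F) • f1 F := by
    rw [tor_apply]; funext i; rcases i with i | i <;> (revert i; simp [e1, e2, f1, f2, _root_.Fin.forall_fin_succ])
  have t4 : rho 2 F (tor a b) (f2 F) = ((b⁻¹ : Fˣ) : F) • f2 F := by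
    rw [tor_apply]; funext i; rcases i with i | i <;> (revert i; simp [e1, e2, f1, f2, _root_.Fin.forall_fin_succ])
  have z0 : ∀ {c d : F} {t : F}, (c - d) * t = 0 → c ≠ d → t = 0 := by
    intro c d t h1 h2
    exact (mul_eq_zero.1 h1).resolve_left (sub_ne_zero.2 h2)
  have hab' : ((a⁻¹ : Fˣ) : F) ≠ b := by
    intro h0
    apply h.h4
    have : a⁻¹ = b := Units.ext h0
    rw [← this, inv_inv]
  have haib : ((a⁻¹ : Fˣ) : F) ≠ ((b⁻¹ : Fˣ) : F) := by
    intro h0
    apply h.h3
    have : a⁻¹ = b⁻¹ := Units.ext h0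
    rw [inv_inj.1 this]
  obtain ⟨-, p2, p3, p4⟩ := hcoord _ _ t1
  obtain ⟨q1, -, q3, q4⟩ := hcoord _ _ t2
  obtain ⟨r1, r2, -, r4⟩ := hcoord _ _ t3
  obtain ⟨s1, s2, s3, -⟩ := hcoord _ _ t4
  have u1 : rho 2 F X (e1 F) = (rho 2 F X (e1 F) (.inl 0)) • e1 F := by
    conv_lhs => rw [decomp4 (rho 2 F X (e1 F)), z0 p2 h.h3.symm, z0 p3 h.h1.symm, z0 p4 h.h4.symm]
    simp
  have u2 : rho 2 F X (e2 F) = (rho 2 F X (e2 F) (.inl 1)) • e2 F := by
    conv_lhs => rw [decomp4 (rho 2 F X (e2 F)), z0 q1 h.h3, z0 q3 hab', z0 q4 h.h2.symm]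
    simp
  have u3 : rho 2 F X (f1 F) = (rho 2 F X (f1 F) (.inr 0)) • f1 F := by
    conv_lhs => rw [decomp4 (rho 2 F X (f1 F)), z0 r1 h.h1, z0 r2 hab'.symm, z0 r4 haib.symm]
    simp
  have u4 : rho 2 F X (f2 F) = (rho 2 F X (f2 F) (.inr 1)) • f2 F := by
    conv_lhs => rw [decomp4 (rho 2 F X (f2 F)), z0 s1 h.h4, z0 s2 h.h2, z0 s3 haib]
    simp
  obtain ⟨a1, ha1⟩ : ∃ t, t = rho 2 F X (e1 F) (.inl 0) := ⟨_, rfl⟩
  obtain ⟨b1, hb1⟩ : ∃ t, t = rho 2 F X (e2 F) (.inl 1) := ⟨_, rfl⟩
  obtain ⟨a2, ha2⟩ : ∃ t, t = rho 2 F X (f1 F) (.inr 0) := ⟨_, rfl⟩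
  obtain ⟨b2, hb2⟩ : ∃ t, t = rho 2 F X (f2 F) (.inr 1) := ⟨_, rfl⟩
  rw [← ha1] at u1
  rw [← hb1] at u2
  rw [← ha2] at u3
  rw [← hb2] at u4
  have v3 : a1 * a2 = 1 := by
    have h1 := sympForm_rho X (e1 F) (f1 F)
    rw [u1, u3, sympForm_smul_left, sympForm_smul_right, form_e1_f1, mul_one] at h1
    exact h1
  have v4 : b1 * b2 = 1 := by
    have h1 := sympForm_rho X (e2 F) (f2 F)
    rw [u2, u4, sympForm_smul_left, sympForm_smul_right, form_e2_f2, mul_one] at h1
    exact h1
  have i3 : a1⁻¹ = a2 := inv_eq_of_mul_eq_one_right v3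
  have i4 : b1⁻¹ = b2 := inv_eq_of_mul_eq_one_right v4
  refine ⟨Units.mk0 a1 (left_ne_zero_of_mul_eq_one v3), Units.mk0 b1 (left_ne_zero_of_mul_eq_one v4), ?_⟩
  refine sp_ext4 (v := e1 F) (w := e2 F) (v' := f1 F) (w' := f2 F) form_e1_e2 form_e1_f1
    form_e1_f2 form_e2_f1 form_e2_f2 form_f1_f2 ?_ ?_ ?_ ?_
  · rw [u1, tor_apply]; funext i; rcases i with i | i <;> (revert i; simp [e1, e2, f1, f2, _root_.Fin.forall_fin_succ])
  · rw [u2, tor_apply]; funext i; rcases i with i | i <;> (revert i; simp [e1, e2, f1, f2, _root_.Fin.forall_fin_succ])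
  · rw [u3, tor_apply]; funext i; rcases i with i | i <;> (revert i; simp [e1, e2, f1, f2, i3, _root_.Fin.forall_fin_succ])
  · rw [u4, tor_apply]; funext i; rcases i with i | i <;> (revert i; simp [e1, e2, f1, f2, i4, _root_.Fin.forall_fin_succ])

theorem dgl_mul (a b : Fˣ) : (dgl (a * b) : SL2 F) = dgl a * dgl b := by
  apply Subtype.ext
  change (dgl (a * b)).1 = (dgl a).1 * (dgl b).1
  ext i j
  (revert i j; simp only [dgl, Matrix.mul_apply, Fin.sum_univ_two, mul_comm, _root_.Fin.forall_fin_succ, _root_.Units.val_mul, _root_.mul_inv_rev, _root_.Units.val_inv_eq_inv_val, _root_.Matrix.of_apply, _root_.Matrix.cons_val', _root_.Matrix.cons_val_fin_one, Fin.isValue, _root_.Matrix.cons_val_zero, _root_.Matrix.cons_val_one, _root_.MulZeroClass.zero_mul, _root_.add_zero, _root_.Matrix.cons_val_succ, _root_.zero_add, _root_.forall_const, _root_.MulZeroClass.mul_zero, _root_.and_self, _root_.implies_true])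

theorem tor_mul (a b a' b' : Fˣ) : (tor (a * a') (b * b') : Sp4 F) = tor a b * tor a' b' := by
  rw [tor, tor, tor, ← map_mul, dgl_mul, dgl_mul]
  rfl

theorem tor_comm (a b a' b' : Fˣ) : (tor a b * tor a' b' : Sp4 F) = tor a' b' * tor a b := by
  rw [← tor_mul, ← tor_mul, mul_comm a, mul_comm b]

theorem tor_one : (tor 1 1 : Sp4 F) = 1 := by
  have h := tor_mul (F := F) 1 1 1 1
  rw [mul_one] at h
  exact (left_eq_mul.1 h)

theorem tor_pow (a b : Fˣ) (n : ℕ) : (tor a b : Sp4 F) ^ n = tor (a ^ n) (b ^ n) := by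
  induction n with
  | zero => rw [pow_zero, pow_zero, pow_zero, tor_one]
  | succ n ih => rw [pow_succ, ih, pow_succ, pow_succ, tor_mul]

theorem tor_e1 (a b : Fˣ) : rho 2 F (tor a b) (e1 F) = (a : F) • e1 F := by
  rw [tor_apply]; funext i; rcases i with i | i <;> (revert i; simp [e1, e2, f1, f2, _root_.Fin.forall_fin_succ])

theorem tor_e2 (a b : Fˣ) : rho 2 F (tor a b) (e2 F) = (b : F) • e2 F := by
  rw [tor_apply]; funext i; rcases i with i | i <;> (revert i; simp [e1, e2, f1, f2, _root_.Fin.forall_fin_succ])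

end Cfsg.Agent.H332.RC
end

-- part: H688/FC/Singer
section
/-!
# S5764, SP4G-F2: an irreducible matrix over a finite field (helper688)

`exists_field` : the centraliser algebra of an irreducible matrix is a field of degree `card ι`.
`gen_of` : an element of a finite extension of degree four not fixed by `x ↦ x ^ (q ^ 2)` generates the extension.
`aut_four`, `star_pow` : Galois group.
-/

set_option autoImplicit false
set_option linter.unusedSectionVars false

namespace Cfsg.Agent.H688.FC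

open Module Matrix

universe u

section irr

variable {ι : Type} [Fintype ι] [DecidableEq ι] {F : Type u} [Field F] [Finite F]

/-- **the centraliser algebra of an irreducible matrix** -/
theorem exists_field [Nonempty ι] {z : Matrix ι ι F}
    (hirr : ∀ W : Submodule F (ι → F), (∀ v ∈ W, z *ᵥ v ∈ W) → W = ⊥ ∨ W = ⊤) :
    ∃ (L : Type u) (_ : Field L) (_ : Finite L) (_ : Algebra F L) (θ : L →ₐ[F] Matrix ι ι F),
      Function.Injective θ ∧ finrank F L = Fintype.card ι ∧ ∀ a : Matrix ι ι F, z * a = a * z ↔ ∃ l, θ l = a := by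
  set E := Algebra.adjoin F {z} with hE
  have hcomm : ∀ a ∈ E, ∀ b ∈ E, a * b = b * a := by
    let _ : CommRing E := Algebra.adjoinCommRingOfComm F (by
      intro a ha b hb
      rw [Set.mem_singleton_iff.1 ha, Set.mem_singleton_iff.1 hb])
    intro a ha b hb
    have h1 := mul_comm (⟨a, ha⟩ : E) ⟨b, hb⟩
    exact congrArg Subtype.val h1
  have hzE : z ∈ E := Algebra.self_mem_adjoin_singleton F z
  have hinj : ∀ a : Matrix ι ι F, z * a = a * z → ∀ v : ι → F, v ≠ 0 → a *ᵥ v = 0 → a = 0 := by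
    intro a ha v hv hav
    rcases hirr (LinearMap.ker (Matrix.toLin' a)) (by
      intro w hw
      rw [LinearMap.mem_ker, Matrix.toLin'_apply] at hw ⊢
      rw [Matrix.mulVec_mulVec, ← ha, ← Matrix.mulVec_mulVec, hw, Matrix.mulVec_zero]) with h | h
    · have h1 : v ∈ LinearMap.ker (Matrix.toLin' a) := by
        rw [LinearMap.mem_ker, Matrix.toLin'_apply, hav]
      rw [h] at h1
      exact absurd ((Submodule.mem_bot F).1 h1) hv
    · rw [LinearMap.ker_eq_top] at h
      exact Matrix.toLin'.injective (by rw [h, map_zero])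
  have hsurj : ∀ v₀ : ι → F, v₀ ≠ 0 → ∀ v, ∃ a ∈ E, a *ᵥ v₀ = v := by
    intro v₀ hv₀ v
    let ev : E →ₗ[F] (ι → F) :=
      { toFun := fun a => (a : Matrix ι ι F) *ᵥ v₀
        map_add' := fun a b => Matrix.add_mulVec _ _ _
        map_smul' := fun c a => Matrix.smul_mulVec _ _ _ }
    have h1 : LinearMap.range ev = ⊤ := by
      refine (hirr (LinearMap.range ev) ?_).resolve_left ?_
      · rintro _ ⟨a, rfl⟩
        refine ⟨⟨z * a, E.mul_mem hzE a.2⟩, ?_⟩
        exact (Matrix.mulVec_mulVec _ _ _).symm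
      · intro h0
        have h2 : v₀ ∈ LinearMap.range ev := ⟨⟨1, E.one_mem⟩, Matrix.one_mulVec v₀⟩
        rw [h0] at h2
        exact hv₀ ((Submodule.mem_bot F).1 h2)
    have h2 : v ∈ LinearMap.range ev := by rw [h1]; trivial
    obtain ⟨a, ha⟩ := h2
    exact ⟨a, a.2, ha⟩
  obtain ⟨v₀, hv₀⟩ : ∃ v₀ : ι → F, v₀ ≠ 0 := exists_ne 0
  have hmem : ∀ a : Matrix ι ι F, z * a = a * z ↔ a ∈ E := by
    intro a
    constructor
    · intro ha
      obtain ⟨b, hb, hbv⟩ := hsurj v₀ hv₀ (a *ᵥ v₀)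
      have h1 : a - b = 0 := by
        refine hinj (a - b) ?_ v₀ hv₀ ?_
        · rw [mul_sub, sub_mul, ha, hcomm z hzE b hb]
        · rw [Matrix.sub_mulVec, hbv, sub_self]
      rw [sub_eq_zero.1 h1]
      exact hb
    · exact fun ha => hcomm z hzE a ha
  have hnt : Nontrivial E := by
    refine ⟨⟨0, 1, fun h => ?_⟩⟩
    have h1 : (0 : Matrix ι ι F) = 1 := congrArg Subtype.val h
    exact zero_ne_one h1
  have hfield : IsField E :=
    { exists_pair_ne := exists_pair_ne E
      mul_comm := fun a b => Subtype.ext (hcomm a a.2 b b.2)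
      mul_inv_cancel := by
        intro a ha
        have ha' : (a : Matrix ι ι F) ≠ 0 := fun h => ha (Subtype.ext h)
        have hav : (a : Matrix ι ι F) *ᵥ v₀ ≠ 0 := fun h => ha' (hinj a ((hmem _).2 a.2) v₀ hv₀ h)
        obtain ⟨b, hb, hbv⟩ := hsurj _ hav v₀
        refine ⟨⟨b, hb⟩, Subtype.ext ?_⟩
        change (a : Matrix ι ι F) * b = 1
        have h1 : (a : Matrix ι ι F) * b - 1 = 0 := by
          refine hinj _ ?_ v₀ hv₀ ?_
          · rw [mul_sub, sub_mul, mul_one, one_mul, hcomm z hzE _ (E.mul_mem a.2 hb)]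
          · rw [hcomm a a.2 b hb, Matrix.sub_mulVec, ← Matrix.mulVec_mulVec, hbv, Matrix.one_mulVec, sub_self]
        exact sub_eq_zero.1 h1 }
  refine ⟨E, hfield.toField, inferInstance, inferInstance, E.val, Subtype.val_injective, ?_, ?_⟩
  · let ev : E →ₗ[F] (ι → F) :=
      { toFun := fun a => (a : Matrix ι ι F) *ᵥ v₀
        map_add' := fun a b => Matrix.add_mulVec _ _ _
        map_smul' := fun c a => Matrix.smul_mulVec _ _ _ }
    have h1 : Function.Bijective ev := by
      constructor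
      · rw [← LinearMap.ker_eq_bot, LinearMap.ker_eq_bot']
        intro a ha
        exact Subtype.ext (hinj a ((hmem _).2 a.2) v₀ hv₀ ha)
      · intro v
        obtain ⟨a, ha, hav⟩ := hsurj v₀ hv₀ v
        exact ⟨⟨a, ha⟩, hav⟩
    have h2 := (LinearEquiv.ofBijective ev h1).finrank_eq
    rw [Module.finrank_fintype_fun_eq_card] at h2
    exact h2
  · intro a
    rw [hmem]
    constructor
    · exact fun ha => ⟨⟨a, ha⟩, rfl⟩
    · rintro ⟨l, rfl⟩
      exact l.2

end irr

section four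

variable {F : Type u} [Field F] [Finite F] {L : Type u} [Field L] [Finite L] [Algebra F L]

theorem card_L (h4 : finrank F L = 4) : Nat.card L = Nat.card F ^ 4 := by
  have : FiniteDimensional F L := Module.Finite.of_finite
  rw [Module.natCard_eq_pow_finrank (K := F) (V := L), h4]

/-- generation -/
theorem gen_of (h4 : finrank F L = 4) {y : L} (hy : y ^ (Nat.card F ^ 2) ≠ y) (k : L) : k ∈ Algebra.adjoin F {y} := by
  have hfd : FiniteDimensional F L := Module.Finite.of_finite
  have hint : IsIntegral F y := Algebra.IsIntegral.isIntegral _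
  set N := IntermediateField.adjoin F {y} with hN
  have hd : finrank F N * finrank N L = 4 := by rw [Module.finrank_mul_finrank, h4]
  have hcardN : Nat.card N = Nat.card F ^ finrank F N := Module.natCard_eq_pow_finrank (K := F)
  have hyN : y ^ (Nat.card F ^ finrank F N) = y := by
    have hmem : y ∈ N := IntermediateField.mem_adjoin_simple_self F y
    have := Fintype.ofFinite N
    have h1 := FiniteField.pow_card (⟨y, hmem⟩ : N)
    rw [← Nat.card_eq_fintype_card, hcardN] at h1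
    exact congrArg Subtype.val h1
  have hdvd : finrank F N ∣ 2 ^ 2 := Dvd.intro _ hd
  obtain ⟨i, hi, hi'⟩ := (Nat.dvd_prime_pow Nat.prime_two).1 hdvd
  have hi2 : i = 2 := by
    by_contra hne
    apply hy
    have h2 : i = 0 ∨ i = 1 := by omega
    rcases h2 with rfl | rfl
    · rw [hi', pow_zero, pow_one] at hyN
      rw [pow_two, pow_mul, hyN, hyN]
    · rw [hi', pow_one] at hyN
      exact hyN
  have htop : N = ⊤ := by
    apply IntermediateField.eq_of_le_of_finrank_eq le_top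
    rw [hi', hi2, IntermediateField.finrank_top', h4]
    norm_num
  have h1 : k ∈ N := by rw [htop]; trivial
  have h2 := IntermediateField.adjoin_simple_toSubalgebra_of_isAlgebraic (F := F) (α := y) hint.isAlgebraic
  rw [← h2]
  exact h1

/-- an involution of the field is `x ↦ x ^ (q ^ 2)` -/
theorem star_pow (h4 : finrank F L = 4) (τ : L ≃ₐ[F] L) (h2 : τ * τ = 1) (h1 : τ ≠ 1) (x : L) :
    τ x = x ^ (Nat.card F ^ 2) := by
  have := Fintype.ofFinite F
  have hfd : FiniteDimensional F L := Module.Finite.of_finite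
  obtain ⟨n, hn⟩ := (FiniteField.bijective_frobeniusAlgEquivOfAlgebraic_pow F L).2 τ
  have hord : orderOf (FiniteField.frobeniusAlgEquivOfAlgebraic F L) = 4 := by
    rw [FiniteField.orderOf_frobeniusAlgEquivOfAlgebraic, h4]
  have hn4 : n.1 < 4 := lt_of_lt_of_eq n.2 h4
  have hn' : FiniteField.frobeniusAlgEquivOfAlgebraic F L ^ n.1 = τ := hn
  have h3 : FiniteField.frobeniusAlgEquivOfAlgebraic F L ^ (n.1 + n.1) = 1 := by rw [pow_add, hn', h2]
  have h5 : 4 ∣ n.1 + n.1 := by
    rw [← hord]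
    exact orderOf_dvd_of_pow_eq_one h3
  have h6 : n.1 ≠ 0 := by
    intro h0
    rw [h0, pow_zero] at hn'
    exact h1 hn'.symm
  have h7 : n.1 = 2 := by omega
  rw [← hn', h7, pow_two, AlgEquiv.mul_apply, FiniteField.coe_frobeniusAlgEquivOfAlgebraic, Nat.card_eq_fintype_card]
  change (x ^ Fintype.card F) ^ Fintype.card F = _
  rw [← pow_mul, pow_two]

/-- the fourth power of an automorphism is trivial -/
theorem aut_four (h4 : finrank F L = 4) (τ : L ≃ₐ[F] L) : τ ^ 4 = 1 := by
  have hfd : FiniteDimensional F L := Module.Finite.of_finite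
  have h1 : Nat.card (L ≃ₐ[F] L) = 4 := by rw [IsGalois.card_aut_eq_finrank, h4]
  rw [← h1]
  exact pow_card_eq_one'

/-- an element of order `q ^ 2 + 1` -/
theorem exists_c (h4 : finrank F L = 4) : ∃ c : L, orderOf c = Nat.card F ^ 2 + 1 ∧
    ∀ x : L, x ^ (Nat.card F ^ 2 + 1) = 1 → ∃ k : ℕ, x = c ^ k := by
  have hq : 1 < Nat.card F := Finite.one_lt_card
  have hq2 : 1 < Nat.card F ^ 2 := Nat.one_lt_pow (by omega) hq
  obtain ⟨b, hb⟩ := IsCyclic.exists_ofOrder_eq_natCard (α := Lˣ)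
  have hcardu : Nat.card Lˣ = (Nat.card F ^ 2 - 1) * (Nat.card F ^ 2 + 1) := by
    rw [Nat.card_units, card_L h4]
    have h3 := Nat.sq_sub_sq (Nat.card F ^ 2) 1
    rw [one_pow, ← pow_mul] at h3
    rw [h3, mul_comm]
  have hcu : orderOf (b ^ (Nat.card F ^ 2 - 1)) = Nat.card F ^ 2 + 1 := by
    rw [orderOf_pow, hb, hcardu, Nat.gcd_eq_right (Dvd.intro _ rfl)]
    exact Nat.mul_div_cancel_left _ (by omega)
  refine ⟨(b ^ (Nat.card F ^ 2 - 1) : Lˣ), by rw [orderOf_units, hcu], ?_⟩
  intro x hx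
  have hx0 : x ≠ 0 := by
    rintro rfl
    rw [zero_pow (by omega)] at hx
    exact zero_ne_one hx
  obtain ⟨k, hk⟩ := IsPrimitiveRoot.eq_pow_of_pow_eq_one
    (ζ := ((b ^ (Nat.card F ^ 2 - 1) : Lˣ) : L)) (k := Nat.card F ^ 2 + 1) (by
      have := IsPrimitiveRoot.orderOf ((b ^ (Nat.card F ^ 2 - 1) : Lˣ) : L)
      rwa [orderOf_units, hcu] at this) hx
  exact ⟨k, hk.2.symm⟩

/-- a subring containing all powers of an element of order `q ^ 2 + 1` is everything -/
theorem subring_top (h4 : finrank F L = 4) {c : L} (hc : orderOf c = Nat.card F ^ 2 + 1) (R : Subring L) (hcR : c ∈ R)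
    (x : L) : x ∈ R := by
  have hq : 1 < Nat.card F := Finite.one_lt_card
  have hfin : Finite R := inferInstance
  let _ : Field R := (Finite.isField_of_domain R).toField
  have hfd : Module.Finite R L := Module.Finite.of_finite
  have h1 : Nat.card L = Nat.card R ^ finrank R L := Module.natCard_eq_pow_finrank (K := R) (V := L)
  have h2 : Nat.card F ^ 2 + 1 ≤ Nat.card R := by
    rw [← hc]
    let f : Fin (orderOf c) → R := fun i => ⟨c ^ (i : ℕ), R.pow_mem hcR _⟩
    have hf : Function.Injective f := by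
      intro i j hij
      have h3 : c ^ (i : ℕ) = c ^ (j : ℕ) := congrArg Subtype.val hij
      exact Fin.ext (pow_injOn_Iio_orderOf i.2 j.2 h3)
    have := Nat.card_le_card_of_injective f hf
    rwa [Nat.card_eq_fintype_card, Fintype.card_fin] at this
  have h3 : finrank R L = 1 := by
    have hpos : 0 < finrank R L := Module.finrank_pos
    by_contra hne
    have h5 : 2 ≤ finrank R L := by omega
    have h6 : Nat.card R ^ 2 ≤ Nat.card R ^ finrank R L := Nat.pow_le_pow_right (by omega) h5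
    rw [← h1, card_L h4] at h6
    have h7 : (Nat.card F ^ 2 + 1) ^ 2 ≤ Nat.card R ^ 2 := Nat.pow_le_pow_left h2 2
    linarith only [h6, h7, _root_.sq_nonneg (↑(Nat.card F) : ℤ)]
  rw [h3, pow_one] at h1
  have h8 : Function.Surjective (Subtype.val : R → L) := by
    have h9 : Function.Bijective (Subtype.val : R → L) := by
      rw [Nat.bijective_iff_injective_and_card]
      exact ⟨Subtype.val_injective, h1.symm⟩
    exact h9.2
  obtain ⟨r, rfl⟩ := h8 x
  exact r.2

end four

end Cfsg.Agent.H688.FC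
end

-- part: H688/FC/F2
section
/-!
# S5764, SP4G-F2: the torus of order `q ^ 2 + 1` of `Sp_4(q)` (helper688)
-/

set_option autoImplicit false
set_option linter.unusedSectionVars false

namespace Cfsg.Agent.H688.FC

open Module Matrix Cfsg
open Cfsg.Agent.H319.FC
open Cfsg.Agent.ClassicalGeometry.SympBasic Cfsg.Agent.ClassicalGeometry.SympAutSemi

universe u

variable {F : Type u} [Field F]

/-- the algebra of the matrices -/
abbrev M4 (F : Type u) := Matrix (Fin 2 ⊕ Fin 2) (Fin 2 ⊕ Fin 2) F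

/-- the adjoint -/
def adj (A : M4 F) : M4 F := -(Matrix.J (Fin 2) F * Aᵀ * Matrix.J (Fin 2) F)

theorem adj_form (A : M4 F) (u v : V4 F) : sympForm 2 F (A *ᵥ u) v = sympForm 2 F u (adj A *ᵥ v) := by
  have h1 : Matrix.J (Fin 2) F * adj A = Aᵀ * Matrix.J (Fin 2) F := by
    rw [adj, mul_neg, ← mul_assoc, ← mul_assoc, Matrix.J_squared]
    simp
  rw [sympForm_def, sympForm_def, Matrix.mulVec_mulVec, h1, ← Matrix.mulVec_mulVec, dotProduct_comm,
    Matrix.dotProduct_mulVec, ← Matrix.mulVec_transpose, dotProduct_comm]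

theorem adj_ext {A B : M4 F} (h : ∀ u v, sympForm 2 F u (A *ᵥ v) = sympForm 2 F u (B *ᵥ v)) : A = B := by
  apply Matrix.toLin'.injective
  apply LinearMap.ext
  intro v
  rw [Matrix.toLin'_apply, Matrix.toLin'_apply]
  exact eq_of_forall_sympForm_left fun u => h u v

theorem adj_mul (A B : M4 F) : adj (A * B) = adj B * adj A := by
  apply adj_ext
  intro u v
  rw [← adj_form, ← Matrix.mulVec_mulVec, ← Matrix.mulVec_mulVec, adj_form, adj_form]

theorem adj_one : adj (1 : M4 F) = 1 := by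
  apply adj_ext
  intro u v
  rw [← adj_form, Matrix.one_mulVec, Matrix.one_mulVec]

theorem adj_zero : adj (0 : M4 F) = 0 := by
  rw [adj, Matrix.transpose_zero, mul_zero, zero_mul, neg_zero]

theorem adj_add (A B : M4 F) : adj (A + B) = adj A + adj B := by
  rw [adj, adj, adj, Matrix.transpose_add, mul_add, add_mul, neg_add]

theorem adj_algebraMap (r : F) : adj (algebraMap F (M4 F) r) = algebraMap F (M4 F) r := by
  apply adj_ext
  intro u v
  have h : ∀ w : V4 F, algebraMap F (M4 F) r *ᵥ w = r • w := by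
    intro w
    rw [Algebra.algebraMap_eq_smul_one, Matrix.smul_mulVec, Matrix.one_mulVec]
  rw [← adj_form, h, h, sympForm_smul_left, sympForm_smul_right]

theorem adj_adj (A : M4 F) : adj (adj A) = A := by
  apply adj_ext
  intro u v
  rw [← adj_form, sympForm_swap, ← adj_form, sympForm_swap, neg_neg]

theorem adj_mul_self (x : Sp4 F) : adj (x : M4 F) * (x : M4 F) = 1 := by
  apply adj_ext
  intro u v
  rw [← Matrix.mulVec_mulVec, ← adj_form, Matrix.one_mulVec]
  exact mem_symplecticGroup_iff.1 x.2 u v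

theorem mem_of_adj {A : M4 F} (h : adj A * A = 1) : A ∈ Matrix.symplecticGroup (Fin 2) F := by
  rw [mem_symplecticGroup_iff]
  intro u v
  rw [adj_form, Matrix.mulVec_mulVec, h, Matrix.one_mulVec]

theorem inv_coe (x : Sp4 F) : ((x⁻¹ : Sp4 F) : M4 F) * (x : M4 F) = 1 ∧ (x : M4 F) * ((x⁻¹ : Sp4 F) : M4 F) = 1 := by
  constructor
  · have := congrArg (fun y : Sp4 F => (y : M4 F)) (inv_mul_cancel x)
    exact this
  · have := congrArg (fun y : Sp4 F => (y : M4 F)) (mul_inv_cancel x)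
    exact this

theorem comm_coe {x y : Sp4 F} : x * y = y * x ↔ (x : M4 F) * (y : M4 F) = (y : M4 F) * (x : M4 F) := by
  constructor
  · intro h
    exact congrArg (fun y : Sp4 F => (y : M4 F)) h
  · intro h
    exact Subtype.ext h

theorem stF2 [Finite F] [CharP F 2] : StF2 F := by
  intro z hz1 hzo hirr
  have hq : 1 < Nat.card F := Finite.one_lt_card
  have hev : Even (Nat.card F) := by
    rw [even_iff_two_dvd]
    have := Fintype.ofFinite F
    rw [← CharP.cast_eq_zero_iff F 2, Nat.card_eq_fintype_card]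
    exact Nat.cast_card_eq_zero F
  have hodd : Odd (Nat.card F ^ 2 + 1) := (hev.pow_of_ne_zero two_ne_zero).add_one
  obtain ⟨L, _, _, _, θ, hθ, hL, hcent⟩ := exists_field (z := (z : M4 F)) hirr
  have h4 : finrank F L = 4 := by
    rw [hL]
    rfl
  -- the adjoint
  have hst : ∀ l : L, ∃ l' : L, θ l' = adj (θ l) := by
    intro l
    rw [← hcent]
    have h1 : (z : M4 F) * θ l = θ l * (z : M4 F) := (hcent _).2 ⟨l, rfl⟩
    have h2 := congrArg adj h1
    rw [adj_mul, adj_mul] at h2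
    have h3 := adj_mul_self z
    have h3' : (z : M4 F) * adj (z : M4 F) = 1 := mul_eq_one_comm.1 h3
    calc (z : M4 F) * adj (θ l) = (z : M4 F) * adj (θ l) * (adj (z : M4 F) * (z : M4 F)) := by rw [h3, mul_one]
      _ = (z : M4 F) * (adj (θ l) * adj (z : M4 F)) * (z : M4 F) := by simp only [mul_assoc]
      _ = ((z : M4 F) * adj (z : M4 F)) * adj (θ l) * (z : M4 F) := by rw [h2]; simp only [mul_assoc]
      _ = adj (θ l) * (z : M4 F) := by rw [h3', one_mul]
  choose st hst using hst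
  let τ₀ : L →ₐ[F] L :=
    { toFun := st
      map_one' := hθ (by rw [hst, map_one, adj_one])
      map_mul' := fun a b => hθ (by rw [map_mul, hst, hst, hst, map_mul, adj_mul, ← hst, ← hst, ← map_mul, ← map_mul, mul_comm])
      map_zero' := hθ (by rw [hst, map_zero, adj_zero])
      map_add' := fun a b => hθ (by rw [map_add, hst, hst, hst, map_add, adj_add])
      commutes' := fun r => hθ (by rw [hst, θ.commutes, adj_algebraMap]) }
  have hτ₀ : ∀ l, τ₀ (τ₀ l) = l := by
    intro l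
    apply hθ
    change θ (st (st l)) = θ l
    rw [hst, hst, adj_adj]
  let τ : L ≃ₐ[F] L := AlgEquiv.ofAlgHom τ₀ τ₀ (AlgHom.ext hτ₀) (AlgHom.ext hτ₀)
  have hτ : ∀ l, τ l = st l := fun _ => rfl
  obtain ⟨ζ, hζ⟩ := (hcent (z : M4 F)).1 rfl
  have hττ : τ * τ = 1 := AlgEquiv.ext hτ₀
  have hτ1 : τ ≠ 1 := by
    intro h0
    have h1 : st ζ = ζ := by rw [← hτ, h0]; rfl
    have h2 : adj (z : M4 F) = (z : M4 F) := by rw [← hζ, ← hst, h1]
    have h3 := adj_mul_self z
    rw [h2] at h3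
    have h4 : z * z = 1 := Subtype.ext h3
    have h5 : orderOf z ∣ 2 := orderOf_dvd_of_pow_eq_one (by rw [pow_two, h4])
    rcases (Nat.dvd_prime Nat.prime_two).1 h5 with h6 | h6
    · exact hz1 (orderOf_eq_one_iff.1 h6)
    · rw [h6] at hzo
      exact absurd hzo (by decide)
  have hstp : ∀ l, st l = l ^ (Nat.card F ^ 2) := fun l => star_pow h4 τ hττ hτ1 l
  have hunit : ∀ l : L, adj (θ l) * θ l = 1 ↔ l ^ (Nat.card F ^ 2 + 1) = 1 := by
    intro l
    rw [← hst, ← map_mul, hstp, ← pow_succ, ← map_one θ]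
    exact hθ.eq_iff
  obtain ⟨c₀, hc₀, hc₀'⟩ := exists_c h4
  have hc₀1 : c₀ ^ (Nat.card F ^ 2 + 1) = 1 := by rw [← hc₀]; exact pow_orderOf_eq_one c₀
  let c : Sp4 F := ⟨θ c₀, mem_of_adj ((hunit c₀).2 hc₀1)⟩
  have hc : (c : M4 F) = θ c₀ := rfl
  have hcpow : ∀ k : ℕ, ((c ^ k : Sp4 F) : M4 F) = θ (c₀ ^ k) := by
    intro k
    rw [SubmonoidClass.coe_pow, hc, map_pow]
  have hc1 : c ^ (Nat.card F ^ 2 + 1) = 1 := by
    apply Subtype.ext
    rw [hcpow, hc₀1, map_one]
    rfl
  -- elements commuting with `z`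
  have hmem : ∀ x : Sp4 F, (z : M4 F) * (x : M4 F) = (x : M4 F) * (z : M4 F) →
      ∃ l : L, θ l = (x : M4 F) ∧ l ^ (Nat.card F ^ 2 + 1) = 1 ∧ x ∈ Subgroup.zpowers c := by
    intro x hx
    obtain ⟨l, hl⟩ := (hcent _).1 hx
    have h1 : l ^ (Nat.card F ^ 2 + 1) = 1 := by
      rw [← hunit, hl]
      exact adj_mul_self x
    obtain ⟨k, rfl⟩ := hc₀' l h1
    refine ⟨_, hl, h1, ?_⟩
    have h2 : x = c ^ k := Subtype.ext (by rw [hcpow, hl])
    rw [h2]
    exact Subgroup.pow_mem _ (Subgroup.mem_zpowers c) k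
  have hczp : ∀ y ∈ Subgroup.zpowers c, (z : M4 F) * (y : M4 F) = (y : M4 F) * (z : M4 F) := by
    intro y hy
    have h1 : z * c = c * z := comm_coe.2 ((hcent _).2 ⟨c₀, rfl⟩)
    obtain ⟨k, rfl⟩ := hy
    exact comm_coe.1 (Commute.zpow_right h1 k)
  -- nontrivial elements of the torus
  have hgen : ∀ y ∈ Subgroup.zpowers c, y ≠ 1 → ∀ a : M4 F, (y : M4 F) * a = a * (y : M4 F) →
      (z : M4 F) * a = a * (z : M4 F) := by
    intro y hy hy1 a ha
    obtain ⟨l, hl, hl1, -⟩ := hmem y (hczp y hy)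
    have hl0 : l ≠ 1 := by
      rintro rfl
      apply hy1
      apply Subtype.ext
      rw [← hl, map_one]
      rfl
    have hl2 : l ^ (Nat.card F ^ 2) ≠ l := by
      intro h0
      rw [pow_succ, h0, ← pow_two] at hl1
      have hl1' : l ^ (Nat.card F ^ 2 + 1) = 1 := by rw [pow_succ, h0, ← pow_two, hl1]
      have h2 : orderOf l ∣ 2 := orderOf_dvd_of_pow_eq_one hl1
      have h3 : orderOf l ∣ Nat.card F ^ 2 + 1 := orderOf_dvd_of_pow_eq_one hl1'
      rcases (Nat.dvd_prime Nat.prime_two).1 h2 with h6 | h6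
      · exact hl0 (orderOf_eq_one_iff.1 h6)
      · rw [h6] at h3
        have h7 := Odd.of_dvd_nat hodd h3
        exact absurd h7 (by decide)
    have key : ∀ k ∈ Algebra.adjoin F {l}, θ k * a = a * θ k := by
      intro k hk
      induction hk using Algebra.adjoin_induction with
      | mem x hx =>
        rw [Set.mem_singleton_iff.1 hx, hl]
        exact ha
      | algebraMap r =>
        rw [θ.commutes]
        exact Algebra.commutes r a
      | add x y _ _ h1 h2 => rw [map_add, add_mul, mul_add, h1, h2]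
      | mul x y _ _ h1 h2 => rw [map_mul, mul_assoc, h2, ← mul_assoc, h1, mul_assoc]
    rw [← hζ]
    exact key ζ (gen_of h4 hl2 ζ)
  have hzc : Subgroup.centralizer {z} = Subgroup.zpowers c := by
    ext x
    rw [Subgroup.mem_centralizer_singleton_iff, comm_coe]
    constructor
    · intro h
      exact (hmem x (by first | exact h | exact h.symm)).choose_spec.2.2
    · intro h
      have := hczp x h
      first | exact this | exact this.symm
  refine ⟨c, hzc, Odd.of_dvd_nat hodd (orderOf_dvd_of_pow_eq_one hc1), ?_, ?_, ?_⟩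
  · intro y hy hy1
    ext x
    rw [Subgroup.mem_centralizer_singleton_iff]
    constructor
    · intro h
      have h1 : (y : M4 F) * (x : M4 F) = (x : M4 F) * (y : M4 F) := by
        first | exact comm_coe.1 h | exact (comm_coe.1 h).symm
      obtain ⟨-, -, -, h2⟩ := hmem x (hgen y hy hy1 _ h1)
      exact h2
    · intro h
      have h1 : y * x = x * y := by
        obtain ⟨i, rfl⟩ := hy
        obtain ⟨k, rfl⟩ := h
        exact (zpow_mul_comm c i k)
      first | exact h1 | exact h1.symm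
  · intro n hn
    have hcne : c ≠ 1 := by
      intro h0
      have h1 : θ c₀ = θ 1 := by rw [map_one, ← hc, h0]; rfl
      have h2 := hθ h1
      rw [h2, orderOf_one] at hc₀
      have : 0 < Nat.card F ^ 2 := Nat.pow_pos (by omega)
      omega
    have hy' := hn c (Subgroup.mem_zpowers c)
    have hy'1 : n * c * n⁻¹ ≠ 1 := by
      intro h0
      apply hcne
      have : c = n⁻¹ * (n * c * n⁻¹) * n := by group
      rw [this, h0, mul_one, inv_mul_cancel]
    obtain ⟨i1, i2⟩ := inv_coe n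
    have hcj : ∀ l : L, ∃ l' : L, θ l' = (n : M4 F) * θ l * ((n⁻¹ : Sp4 F) : M4 F) := by
      intro l
      rw [← hcent]
      refine hgen _ hy' hy'1 _ ?_
      change ((n : M4 F) * θ c₀ * ((n⁻¹ : Sp4 F) : M4 F)) * _ = _ * ((n : M4 F) * θ c₀ * ((n⁻¹ : Sp4 F) : M4 F))
      have h1 : ∀ a b : M4 F, ((n : M4 F) * a * ((n⁻¹ : Sp4 F) : M4 F)) * ((n : M4 F) * b * ((n⁻¹ : Sp4 F) : M4 F)) =
          (n : M4 F) * (a * b) * ((n⁻¹ : Sp4 F) : M4 F) := by
        intro a b
        calc _ = (n : M4 F) * a * (((n⁻¹ : Sp4 F) : M4 F) * (n : M4 F)) * b * ((n⁻¹ : Sp4 F) : M4 F) := by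
              simp only [mul_assoc]
          _ = _ := by rw [i1, mul_one]; simp only [mul_assoc]
      rw [h1, h1, ← map_mul, ← map_mul, mul_comm]
    choose cn hcn using hcj
    have h1 : ∀ a b : M4 F, ((n : M4 F) * a * ((n⁻¹ : Sp4 F) : M4 F)) * ((n : M4 F) * b * ((n⁻¹ : Sp4 F) : M4 F)) =
        (n : M4 F) * (a * b) * ((n⁻¹ : Sp4 F) : M4 F) := by
      intro a b
      calc _ = (n : M4 F) * a * (((n⁻¹ : Sp4 F) : M4 F) * (n : M4 F)) * b * ((n⁻¹ : Sp4 F) : M4 F) := by
            simp only [mul_assoc]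
        _ = _ := by rw [i1, mul_one]; simp only [mul_assoc]
    let κ₀ : L →ₐ[F] L :=
      { toFun := cn
        map_one' := hθ (by rw [hcn, map_one, mul_one, i2])
        map_mul' := fun a b => hθ (by rw [map_mul, hcn, hcn, hcn, map_mul, h1])
        map_zero' := hθ (by rw [hcn, map_zero, mul_zero, zero_mul])
        map_add' := fun a b => hθ (by rw [map_add, hcn, hcn, hcn, map_add, mul_add, add_mul])
        commutes' := fun r => hθ (by rw [hcn, θ.commutes, ← Algebra.commutes, mul_assoc, i2, mul_one]) }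
    let κ : L ≃ₐ[F] L := AlgEquiv.ofBijective κ₀ (Finite.injective_iff_bijective.1 κ₀.toRingHom.injective)
    have hκ : ∀ l, θ (κ l) = (n : M4 F) * θ l * ((n⁻¹ : Sp4 F) : M4 F) := hcn
    have hκp : ∀ (k : ℕ) (l : L), θ ((κ ^ k) l) = ((n ^ k : Sp4 F) : M4 F) * θ l * (((n ^ k)⁻¹ : Sp4 F) : M4 F) := by
      intro k
      induction k with
      | zero =>
        intro l
        rw [pow_zero, pow_zero, inv_one, AlgEquiv.one_apply]
        change θ l = 1 * θ l * 1
        rw [one_mul, mul_one]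
      | succ k ih =>
        intro l
        rw [pow_succ, AlgEquiv.mul_apply, ih, hκ, pow_succ, _root_.mul_inv_rev]
        change _ = ((n ^ k : Sp4 F) : M4 F) * (n : M4 F) * θ l * (((n⁻¹ : Sp4 F) : M4 F) * (((n ^ k)⁻¹ : Sp4 F) : M4 F))
        simp only [mul_assoc]
    have h5 := hκp 4 ζ
    rw [aut_four h4, AlgEquiv.one_apply, hζ] at h5
    obtain ⟨j1, j2⟩ := inv_coe (n ^ 4)
    have h6 : (z : M4 F) * ((n ^ 4 : Sp4 F) : M4 F) = ((n ^ 4 : Sp4 F) : M4 F) * (z : M4 F) := by
      nth_rewrite 1 [h5]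
      rw [mul_assoc, j1, mul_one]
    obtain ⟨-, -, -, h7⟩ := hmem _ h6
    exact h7
  · intro g φ l hl hg hgc a
    have h1 : ∀ v, g.1 ((c : M4 F) *ᵥ v) = (c : M4 F) *ᵥ g.1 v := by
      intro v
      have h2 := rho_conjHom g c
      rw [hgc] at h2
      have h3 := DFunLike.congr_fun h2 (g.1 v)
      have h4 : g.1⁻¹ (g.1 v) = v := g.1.symm_apply_apply v
      rw [Equiv.Perm.mul_apply, Equiv.Perm.mul_apply, h4, rho_apply, rho_apply] at h3
      exact h3.symm
    have hg0 : g.1 0 = 0 := by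
      have h2 := hg.1 0 0
      rw [add_zero] at h2
      exact (left_eq_add.1 h2)
    have hgneg : ∀ v, g.1 (-v) = -g.1 v := by
      intro v
      have h2 := hg.1 (-v) v
      rw [neg_add_cancel, hg0] at h2
      exact eq_neg_of_add_eq_zero_left h2.symm
    let R : Subring L :=
      { carrier := {k | ∀ v, g.1 (θ k *ᵥ v) = θ k *ᵥ g.1 v}
        mul_mem' := by
          intro a b ha hb v
          rw [map_mul, ← Matrix.mulVec_mulVec, ha, hb, Matrix.mulVec_mulVec]
        one_mem' := by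
          intro v
          rw [map_one, Matrix.one_mulVec, Matrix.one_mulVec]
        add_mem' := by
          intro a b ha hb v
          rw [map_add, Matrix.add_mulVec, hg.1, ha, hb, Matrix.add_mulVec]
        zero_mem' := by
          intro v
          rw [map_zero, Matrix.zero_mulVec, Matrix.zero_mulVec, hg0]
        neg_mem' := by
          intro a ha v
          rw [map_neg, Matrix.neg_mulVec, Matrix.neg_mulVec, hgneg, ha] }
    have hR := subring_top h4 hc₀ R h1 (algebraMap F L a)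
    obtain ⟨v, hv⟩ : ∃ v : V4 F, v ≠ 0 := exists_ne 0
    have h2 := hR v
    have h3 : ∀ w : V4 F, algebraMap F (M4 F) a *ᵥ w = a • w := by
      intro w
      rw [Algebra.algebraMap_eq_smul_one, Matrix.smul_mulVec, Matrix.one_mulVec]
    rw [θ.commutes, h3, h3, hg.2.1] at h2
    have hgv : g.1 v ≠ 0 := by
      intro h0
      apply hv
      apply g.1.injective
      rw [h0, hg0]
    rw [← sub_eq_zero, ← sub_smul] at h2
    exact sub_eq_zero.1 ((smul_eq_zero.1 h2).resolve_right hgv)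

end Cfsg.Agent.H688.FC
end

-- part: H332/RC/GrMain
section
/-!
# S3510, row D, box GR(2): a graph involution of `Sp_4(q)`, the other members in `N` (helper332)

* `gr_plane` : some member leaves a nondegenerate plane invariant
* `gr_irr` : some member is irreducible
* `gr_two` : **GR(2)**
-/

set_option autoImplicit false
set_option linter.unusedSectionVars false

namespace Cfsg.Agent.H332.RC

open Cfsg Matrix MulAction
open Cfsg.Agent.H319.FC Cfsg.Agent.H193.FC Cfsg.Agent.H688.FC Cfsg.Agent.H523.FC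
open Cfsg.Agent.ClassicalGeometry.SympBasic Cfsg.Agent.ClassicalGeometry.SympAutSemi
open Cfsg.Agent.ClassicalGeometry.Sp4Graph Cfsg.Agent.ClassicalGeometry.Sp4GraphAut
open Cfsg.Agent.H106.RC Cfsg.Agent.H380.RC

variable {F : Type} [Field F] [CharP F 2]

/-! ### the long root subgroup -/

theorem transv_mul (v : V4 F) (c d : F) : (transv v c * transv v d : Sp4 F) = transv v (c + d) := by
  apply rho_injective
  ext1 x
  rw [rho_mul_apply, rho_transv, rho_transv, rho_transv, sympForm_add_left, sympForm_smul_left, sympForm_self,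
    mul_zero, add_zero]
  funext i
  simp only [Pi.add_apply, Pi.smul_apply, smul_eq_mul]
  ring

/-- the root subgroup in `G` -/
def rootG {G : Type} [Group G] {N : Subgroup G} (ε : Sp4 F ≃* N) (v : V4 F) : Subgroup G where
  carrier := {g | ∃ c : F, g = (ε (transv v c) : G)}
  mul_mem' := by
    rintro _ _ ⟨c, rfl⟩ ⟨d, rfl⟩
    exact ⟨c + d, by rw [← transv_mul, map_mul, Subgroup.coe_mul]⟩
  one_mem' := ⟨0, by
    have h : (transv v (0 : F) : Sp4 F) = 1 := by
      apply rho_injective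
      ext1 x
      rw [rho_transv, zero_mul, zero_smul, add_zero, rho_one_apply]
    rw [h, map_one, Subgroup.coe_one]⟩
  inv_mem' := by
    rintro _ ⟨c, rfl⟩
    refine ⟨c, ?_⟩
    rw [inv_eq_iff_mul_eq_one, ← Subgroup.coe_mul, ← map_mul, transv_mul, CharTwo.add_self_eq_zero]
    have h : (transv v (0 : F) : Sp4 F) = 1 := by
      apply rho_injective
      ext1 x
      rw [rho_transv, zero_mul, zero_smul, add_zero, rho_one_apply]
    rw [h, map_one, Subgroup.coe_one]

variable {G : Type} [Group G] {N : Subgroup G} {ε : Sp4 F ≃* N}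

theorem rootG_sq {v : V4 F} {g : G} (hg : g ∈ rootG ε v) : g ^ 2 = 1 := by
  obtain ⟨c, rfl⟩ := hg
  have h : (transv v (0 : F) : Sp4 F) = 1 := by
    apply rho_injective
    ext1 x
    rw [rho_transv, zero_mul, zero_smul, add_zero, rho_one_apply]
  rw [pow_two, ← Subgroup.coe_mul, ← map_mul, transv_mul, CharTwo.add_self_eq_zero, h, map_one, Subgroup.coe_one]

theorem rootG_two (v : V4 F) : IsPGroup 2 (rootG ε v) := by
  intro g
  refine ⟨1, ?_⟩
  rw [pow_one]
  exact Subtype.ext (rootG_sq g.2)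

theorem rootG_conj {v : V4 F} {X : Sp4 F} {a : F} (hX : rho 2 F X v = a • v) {u : G} (hu : u ∈ rootG ε v) :
    (ε X : G) * u * (ε X : G)⁻¹ ∈ rootG ε v := by
  obtain ⟨c, rfl⟩ := hu
  refine ⟨a ^ 2 * c, ?_⟩
  have h1 : X * transv v c * X⁻¹ = transv v (a ^ 2 * c) := by
    rw [conj_transv', hX]
    apply rho_injective
    ext1 x
    rw [rho_transv, rho_transv, sympForm_smul_right, smul_smul]
    congr 2
    ring
  rw [← h1, map_mul, map_mul, map_inv]
  rfl

theorem rootG_cmm {v : V4 F} {X : Sp4 F} {a : F} (hX : rho 2 F X v = a • v) (ha : a ≠ 1) :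
    (ε (transv v 1) : G) ∈ cmm (rootG ε v) (ε X : G) := by
  have h0 : 1 + a ^ 2 ≠ 0 := by
    intro h
    apply ha
    have h22 : (2 : F) = 0 := CharTwo.two_eq_zero
    have h3 : (a - 1) ^ 2 = 0 := by linear_combination h - a * h22
    exact sub_eq_zero.1 (pow_eq_zero_iff two_ne_zero |>.1 h3)
  have h1 : transv v (1 : F) = transv v (1 + a ^ 2)⁻¹ * X * (transv v (1 + a ^ 2)⁻¹)⁻¹ * X⁻¹ := by
    have h2 : (transv v (1 + a ^ 2)⁻¹ : Sp4 F)⁻¹ = transv v (1 + a ^ 2)⁻¹ := by
      rw [inv_eq_iff_mul_eq_one, transv_mul, CharTwo.add_self_eq_zero]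
      apply rho_injective
      ext1 x
      rw [rho_transv, zero_mul, zero_smul, add_zero, rho_one_apply]
    have h3 : X * transv v (1 + a ^ 2)⁻¹ * X⁻¹ = transv v (a ^ 2 * (1 + a ^ 2)⁻¹) := by
      rw [conj_transv', hX]
      apply rho_injective
      ext1 x
      rw [rho_transv, rho_transv, sympForm_smul_right, smul_smul]
      congr 2
      ring
    rw [h2, mul_assoc, mul_assoc, ← mul_assoc X, h3, transv_mul]
    congr 1
    have : (1 + a ^ 2)⁻¹ + a ^ 2 * (1 + a ^ 2)⁻¹ = (1 + a ^ 2) * (1 + a ^ 2)⁻¹ := by ring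
    rw [this, mul_inv_cancel₀ h0]
  have h4 : (ε (transv v 1) : G) = (ε (transv v (1 + a ^ 2)⁻¹) : G) * (ε X : G) * (ε (transv v (1 + a ^ 2)⁻¹) : G)⁻¹ *
      (ε X : G)⁻¹ := by
    rw [h1, map_mul, map_mul, map_mul, map_inv, map_inv]
    rfl
  rw [h4]
  exact mem_cmm ⟨_, rfl⟩

variable {Ω : Type} [MulAction G Ω] {ι : Type} {x : ι → G} {r : ι → ℕ}

/-- **End of the split case**: a cover by elements of odd prime order of `N` with a common eigenvector `v`, no
eigenvalue `1`. -/
theorem dead_eig [Finite G] [Nonempty Ω] [Finite ι] (hE : Env G Ω N) (hr : ∀ i, (r i).Prime) (hr2 : ∀ i, r i ≠ 2)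
    (hx : ∀ i, x i ^ r i = 1) (hc : ∀ i j, x i * x j = x j * x i) (hcov : Cov Ω x) {X : ι → Sp4 F}
    (hX : ∀ i, x i = (ε (X i) : G)) {v : V4 F} (hv : v ≠ 0) (hev : ∀ i, ∃ a : F, a ≠ 1 ∧ rho 2 F (X i) v = a • v) :
    False := by
  have : Fact (Nat.Prime 2) := ⟨Nat.prime_two⟩
  have hco : ∀ i, (r i).Coprime (Nat.card (rootG ε v)) := by
    intro i
    obtain ⟨n, hn⟩ := (IsPGroup.iff_card (p := 2) (G := rootG ε v)).1 (rootG_two v)
    rw [hn]
    exact Nat.Coprime.pow_right _ ((Nat.coprime_primes (hr i) Nat.prime_two).2 (hr2 i))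
  refine not_cov_point hE hr hx hc (U := rootG ε v) hcov (fun i u hu => ?_) (rootG_two v).isNilpotent hco
    (y := (ε (transv v 1) : G)) ?_ (fun i => ?_)
  · obtain ⟨a, -, ha⟩ := hev i
    rw [hX]
    exact rootG_conj ha hu
  · intro h
    have h1 : ε (transv v 1) = 1 := Subtype.ext h
    rw [map_eq_one_iff ε ε.injective] at h1
    exact Cfsg.Agent.ClassicalGeometry.SympAutExists.transv_ne_one hv one_ne_zero h1
  · obtain ⟨a, ha1, ha⟩ := hev i
    rw [hX]
    exact rootG_cmm ha ha1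

/-! ### replacing the graph involution -/

/-- replacing `x i0` by a power of `c (δ c)⁻¹` -/
theorem cov_repl [DecidableEq ι] (hcov : Cov Ω x) {i0 : ι} {δ : MulAut (Sp4 F)}
    (hxδ : ∀ n, x i0 * (ε n : G) * (x i0)⁻¹ = (ε (δ n) : G)) {c : Sp4 F}
    (hc : ∀ j, j ≠ i0 → (ε c : G) * x j = x j * (ε c : G)) (m : ℕ) :
    Cov Ω (Function.update x i0 (ε ((c * (δ c)⁻¹) ^ m) : G)) := by
  have h1 := hcov.mv_comm i0 hc
  have h2 : (ε c : G) * x i0 * (ε c : G)⁻¹ * (x i0)⁻¹ = (ε (c * (δ c)⁻¹) : G) := by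
    have h3 := hxδ c⁻¹
    rw [map_inv ε, map_inv δ, map_inv ε, Subgroup.coe_inv, Subgroup.coe_inv] at h3
    rw [mul_assoc, mul_assoc, ← mul_assoc (x i0), h3, map_mul, map_inv]
    rfl
  rw [h2] at h1
  have h4 := h1.update i0 (y := (ε ((c * (δ c)⁻¹) ^ m) : G)) (fun ω hω _ => by
    rw [Function.update_self] at hω
    rw [map_pow, Subgroup.coe_pow]
    have h5 : (ε (c * (δ c)⁻¹) : G) ∈ stabilizer G ω := hω
    exact (stabilizer G ω).pow_mem h5 m)
  rwa [Function.update_idem] at h4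

/-- a power of prime order -/
theorem exists_prime_pow {H : Type*} [Group H] [Finite H] {y : H} (hy : y ≠ 1) :
    ∃ (m p : ℕ), p.Prime ∧ p ∣ orderOf y ∧ orderOf (y ^ m) = p := by
  obtain ⟨p, hp, hpd⟩ := Nat.exists_prime_and_dvd (n := orderOf y) (fun h => hy (orderOf_eq_one_iff.1 h))
  refine ⟨orderOf y / p, p, hp, hpd, ?_⟩
  have hpos := orderOf_pos y
  rw [orderOf_pow' y (Nat.div_pos (Nat.le_of_dvd hpos hpd) hp.pos).ne', Nat.gcd_eq_right (Nat.div_dvd_of_dvd hpd),
    Nat.div_div_self hpd hpos.ne']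

/-- the subgroup of prime order of a cyclic group -/
theorem mem_zp {H : Type*} [Group H] [Finite H] {c y w : H} (hy : y ∈ Subgroup.zpowers c)
    (hw : w ∈ Subgroup.zpowers c) {p : ℕ} (hp : p.Prime) (hyp : orderOf y = p) (hwp : orderOf w = p) :
    w ∈ Subgroup.zpowers y := by
  have := Fact.mk hp
  obtain ⟨n, hn⟩ : p ∣ orderOf c := hyp ▸ orderOf_dvd_of_mem_zpowers hy
  have hp0 : (p : ℤ) ≠ 0 := by exact_mod_cast hp.ne_zero
  have key : ∀ u ∈ Subgroup.zpowers c, orderOf u = p → u ∈ Subgroup.zpowers (c ^ n) := by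
    rintro _ ⟨k, rfl⟩ hu
    have h1 : c ^ (k * p) = 1 := by
      rw [_root_.zpow_mul, zpow_natCast, ← hu]
      exact pow_orderOf_eq_one _
    obtain ⟨t, ht⟩ := orderOf_dvd_iff_zpow_eq_one.2 h1
    rw [hn] at ht
    push_cast at ht
    have h2 : k = n * t := by
      apply mul_right_cancel₀ hp0
      linear_combination ht
    refine ⟨t, ?_⟩
    change (c ^ n) ^ t = c ^ k
    rw [h2, _root_.zpow_mul, zpow_natCast]
  have hpos := orderOf_pos c
  have hcard : Nat.card (Subgroup.zpowers (c ^ n)) = p := by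
    have hn0 : n ≠ 0 := by
      rintro rfl
      rw [hn, mul_zero] at hpos
      exact lt_irrefl _ hpos
    rw [Nat.card_zpowers, orderOf_pow' c hn0, hn, Nat.gcd_eq_right (Dvd.intro_left p rfl),
      Nat.mul_div_cancel _ (Nat.pos_of_ne_zero hn0)]
  have hy1 : (⟨y, key y hy hyp⟩ : Subgroup.zpowers (c ^ n)) ≠ 1 := by
    intro h
    have h1 : y = 1 := congrArg Subtype.val h
    rw [h1, orderOf_one] at hyp
    exact hp.one_lt.ne hyp
  obtain ⟨t, ht⟩ := mem_zpowers_of_prime_card hcard hy1 (g' := ⟨w, key w hw hwp⟩)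
  refine ⟨t, ?_⟩
  have := congrArg Subtype.val ht
  simpa using this

/-- the graph involution has order two -/
theorem r_eq_two [Finite F] (hq : 4 ≤ Nat.card F) (hx : PF x r) {i0 : ι} {δ : MulAut (Sp4 F)}
    (hδ : δ ∉ (conjHom 2 F).range) (hxδ : ∀ n, x i0 * (ε n : G) * (x i0)⁻¹ = (ε (δ n) : G)) :
    r i0 = 2 ∧ ∀ X, δ (δ X) = X := by
  have hpow : ∀ (n : ℕ) (X : Sp4 F), x i0 ^ n * (ε X : G) * (x i0 ^ n)⁻¹ = (ε ((δ ^ n) X) : G) := by
    intro n
    induction n with
    | zero => intro X; simp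
    | succ n ih =>
      intro X
      rw [pow_succ' δ, MulAut.mul_apply, ← hxδ, ← ih, pow_succ']
      group
  have hone : δ ^ r i0 = 1 := by
    ext1 X
    apply ε.injective
    apply Subtype.ext
    rw [← hpow, hx.pow]
    simp
  have h2 : r i0 = 2 := by
    by_contra hne
    obtain ⟨k, hk⟩ := (hx.prime i0).odd_of_ne_two hne
    apply hδ
    rw [hk, pow_succ, pow_mul] at hone
    have h3 : δ ^ 2 ∈ (conjHom 2 F).range := by
      rw [pow_two]
      exact Subgroup.mul_self_mem_of_index_two (index_P hq) δ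
    have h4 : δ = ((δ ^ 2) ^ k)⁻¹ := (inv_eq_of_mul_eq_one_right hone).symm
    rw [h4]
    exact Subgroup.inv_mem _ (Subgroup.pow_mem _ h3 k)
  refine ⟨h2, fun X => ?_⟩
  have h5 := congrArg (fun α : MulAut (Sp4 F) => α X) hone
  rw [h2, pow_two] at h5
  exact h5

/-- **GR(2)**: the members except the graph involution are in `N`. -/
theorem gr_two [Finite F] [Finite G] [Nonempty Ω] [Finite ι] (hq : 4 ≤ Nat.card F) (hE : Env G Ω N)
    (ε : Sp4 F ≃* N) (hx : PF x r) (hcov : Cov Ω x) (i0 : ι) {δ : MulAut (Sp4 F)} (hδ : δ ∉ (conjHom 2 F).range)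
    (hxδ : ∀ n, x i0 * (ε n : G) * (x i0)⁻¹ = (ε (δ n) : G)) (hlin : ∀ j, j ≠ i0 → x j ∈ N)
    (hirr : ∀ z : Sp4 F, z ≠ 1 → Odd (orderOf z) → Irr4 z → ∃ d : Sp4 F, z * d = d * z ∧ δ d ≠ d)
    (hM2O : ∀ (κ : Type) (_ : Finite κ) (y : κ → G) (s : κ → ℕ), PF y s → Cov Ω y → (∀ i, y i ∈ N) →
      (∀ i, s i ≠ 2) → False) : False := by
  classical
  obtain ⟨hr2, hδ2⟩ := r_eq_two hq hx hδ hxδ
  have hrj : ∀ j, j ≠ i0 → r j ≠ 2 := fun j hj h => hj (hx.inj (h.trans hr2.symm))
  -- the matrices of the other members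
  have hX : ∀ j, ∃ X : Sp4 F, j ≠ i0 → x j = (ε X : G) := by
    intro j
    by_cases hj : j = i0
    · exact ⟨1, fun h => absurd hj h⟩
    · exact ⟨ε.symm ⟨x j, hlin j hj⟩, fun _ => by rw [ε.apply_symm_apply]⟩
  choose X hX using hX
  have hXpow : ∀ j, j ≠ i0 → X j ^ r j = 1 := by
    intro j hj
    apply ε.injective
    apply Subtype.ext
    rw [map_pow, Subgroup.coe_pow, ← hX j hj, hx.pow, map_one, Subgroup.coe_one]
  have hX1 : ∀ j, j ≠ i0 → X j ≠ 1 := by
    intro j hj h
    apply hx.ne j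
    rw [hX j hj, h, map_one, Subgroup.coe_one]
  have hXord : ∀ j, j ≠ i0 → orderOf (X j) = r j := by
    intro j hj
    have := Fact.mk (hx.prime j)
    exact orderOf_eq_prime (hXpow j hj) (hX1 j hj)
  have hXodd : ∀ j, j ≠ i0 → Odd (orderOf (X j)) := by
    intro j hj
    rw [hXord j hj]
    exact (hx.prime j).odd_of_ne_two (hrj j hj)
  have hXδ : ∀ j, j ≠ i0 → δ (X j) = X j := by
    intro j hj
    apply ε.injective
    apply Subtype.ext
    rw [← hxδ, ← hX j hj, hx.comm i0 j, mul_inv_cancel_right]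
  have hXc : ∀ j k, j ≠ i0 → k ≠ i0 → X j * X k = X k * X j := by
    intro j k hj hk
    apply ε.injective
    apply Subtype.ext
    rw [map_mul, map_mul, Subgroup.coe_mul, Subgroup.coe_mul, ← hX j hj, ← hX k hk, hx.comm]
  by_cases hone : ∀ j, j = i0
  · apply hx.ne i0
    apply hE.single
    intro ω
    obtain ⟨i, hi⟩ := hcov ω
    rwa [hone i] at hi
  push Not at hone
  obtain ⟨j0, hj0⟩ := hone
  have hz := hXδ j0 hj0
  have hz1 := hX1 j0 hj0
  have hzo := hXodd j0 hj0
  by_cases hI : Irr4 (X j0)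
  · -- the irreducible case
    obtain ⟨d, hd, hdδ⟩ := hirr _ hz1 hzo hI
    obtain ⟨c, hcent, hco, -, -, -⟩ := stF2 _ hz1 hzo hI
    have hmem : ∀ y : Sp4 F, y * X j0 = X j0 * y → y ∈ Subgroup.zpowers c := by
      intro y hy
      rw [← hcent, Subgroup.mem_centralizer_singleton_iff]
      exact hy
    have hcomm : ∀ y ∈ Subgroup.zpowers c, ∀ y' ∈ Subgroup.zpowers c, y * y' = y' * y := by
      rintro _ ⟨a, rfl⟩ _ ⟨b, rfl⟩
      exact zpow_mul_comm c a b
    have hdm := hmem d hd.symm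
    have hXm : ∀ j, j ≠ i0 → X j ∈ Subgroup.zpowers c := fun j hj => hmem _ (hXc j j0 hj hj0)
    have hδd : δ d * X j0 = X j0 * δ d := by
      have h1 := congrArg δ hd.symm
      rwa [map_mul, map_mul, hz] at h1
    obtain ⟨y, hy⟩ : ∃ y, y = d * (δ d)⁻¹ := ⟨_, rfl⟩
    have hy1 : y ≠ 1 := by
      intro h
      apply hdδ
      rw [hy, mul_inv_eq_one] at h
      exact h.symm
    have hym : y ∈ Subgroup.zpowers c := by
      rw [hy]
      exact Subgroup.mul_mem _ hdm (Subgroup.inv_mem _ (hmem _ hδd))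
    obtain ⟨m, p, hp, hpd, hm⟩ := exists_prime_pow hy1
    have hcov' := cov_repl hcov hxδ (c := d) (fun j hj => by
      rw [hX j hj, ← Subgroup.coe_mul, ← Subgroup.coe_mul, ← map_mul, ← map_mul, hcomm d hdm _ (hXm j hj)]) m
    rw [← hy] at hcov'
    have hp2 : p ≠ 2 := by
      rintro rfl
      have h1 : 2 ∣ orderOf c := hpd.trans (orderOf_dvd_of_mem_zpowers hym)
      obtain ⟨k, hk⟩ := hco
      omega
    have hymm : y ^ m ∈ Subgroup.zpowers c := Subgroup.pow_mem _ hym m
    have hym1 : y ^ m ≠ 1 := by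
      intro h
      rw [h, orderOf_one] at hm
      exact hp.one_lt.ne hm
    by_cases hpj : ∃ j, j ≠ i0 ∧ r j = p
    · -- the group of order `p` of the cyclic group
      obtain ⟨j, hj, hjp⟩ := hpj
      have hcov'' : Cov Ω (fun i : {i // i ≠ i0} => x i) := by
        intro ω
        obtain ⟨i, hi⟩ := hcov' ω
        by_cases hii : i = i0
        · subst hii
          rw [Function.update_self] at hi
          refine ⟨⟨j, hj⟩, ?_⟩
          -- `X j` is a power of `y ^ m`
          obtain ⟨t, ht⟩ := mem_zp hymm (hXm j hj) hp hm ((hXord j hj).trans hjp)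
          change x j • ω = ω
          have h1 : x j = (ε (y ^ m) : G) ^ t := by
            rw [hX j hj, ← ht]
            change ((ε ((y ^ m) ^ t) : N) : G) = _
            rw [map_zpow, Subgroup.coe_zpow]
          rw [h1]
          exact (stabilizer G ω).zpow_mem hi t
        · rw [Function.update_of_ne hii] at hi
          exact ⟨⟨i, hii⟩, hi⟩
      refine hM2O _ inferInstance (fun i : {i // i ≠ i0} => x i) (fun i => r i) ?_ hcov'' (fun i => hlin i i.2)
        (fun i => hrj i i.2)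
      exact ⟨fun i => hx.prime i, fun a b h => Subtype.ext (hx.inj h), fun i => hx.pow i, fun i => hx.ne i,
        fun i j => hx.comm i j⟩
    · push Not at hpj
      refine hM2O ι inferInstance _ (Function.update r i0 p) ?_ hcov' ?_ ?_
      · refine ⟨?_, ?_, ?_, ?_, ?_⟩
        · intro i
          by_cases hi : i = i0
          · subst hi; rw [Function.update_self]; exact hp
          · rw [Function.update_of_ne hi]; exact hx.prime i
        · intro i j hij
          by_cases hi : i = i0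
          · subst hi
            by_cases hj : j = i
            · exact hj.symm
            · rw [Function.update_self, Function.update_of_ne hj] at hij
              exact absurd hij.symm (hpj j hj)
          · by_cases hj : j = i0
            · subst hj
              rw [Function.update_self, Function.update_of_ne hi] at hij
              exact absurd hij (hpj i hi)
            · rw [Function.update_of_ne hi, Function.update_of_ne hj] at hij
              exact hx.inj hij
        · intro i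
          by_cases hi : i = i0
          · subst hi
            rw [Function.update_self, Function.update_self, ← Subgroup.coe_pow, ← map_pow, ← hm,
              pow_orderOf_eq_one, map_one, Subgroup.coe_one]
          · rw [Function.update_of_ne hi, Function.update_of_ne hi]; exact hx.pow i
        · intro i
          by_cases hi : i = i0
          · subst hi
            rw [Function.update_self]
            intro h
            apply hym1
            apply ε.injective
            rw [map_one]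
            exact Subtype.ext h
          · rw [Function.update_of_ne hi]; exact hx.ne i
        · have hcj : ∀ j, j ≠ i0 → (ε (y ^ m) : G) * x j = x j * (ε (y ^ m) : G) := by
            intro j hj
            rw [hX j hj, ← Subgroup.coe_mul, ← Subgroup.coe_mul, ← map_mul, ← map_mul, hcomm _ hymm _ (hXm j hj)]
          intro i j
          by_cases hi : i = i0
          · subst hi
            by_cases hj : j = i
            · rw [hj]
            · rw [Function.update_self, Function.update_of_ne hj]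
              exact hcj j hj
          · by_cases hj : j = i0
            · subst hj
              rw [Function.update_self, Function.update_of_ne hi]
              exact (hcj i hi).symm
            · rw [Function.update_of_ne hi, Function.update_of_ne hj]
              exact hx.comm i j
      · intro i
        by_cases hi : i = i0
        · subst hi; rw [Function.update_self]; exact (ε (y ^ m)).2
        · rw [Function.update_of_ne hi]; exact hlin i hi
      · intro i
        by_cases hi : i = i0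
        · subst hi; rw [Function.update_self]; exact hp2
        · rw [Function.update_of_ne hi]; exact hrj i hi
  · -- the split case
    obtain ⟨v1, v2, hv12, hzv1, hzv2⟩ := stF3 (r j0) (X j0) (hx.prime j0) (hrj j0 hj0) (hXpow j0 hj0)
      (fun v hv => no_fix hq hδ hz hz1 hzo hv) (no_quad hq hδ hz hz1 hzo) hI
    obtain ⟨k, a, b, hk, hreg⟩ := split hq hδ hδ2 hz hz1 hzo hv12 hzv1 hzv2
    have hdiag : ∀ y : Sp4 F, y * X j0 = X j0 * y → ∃ a' b' : Fˣ, y = k * tor a' b' * k⁻¹ := by
      intro y hy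
      have h1 : (k⁻¹ * y * k) * tor a b = tor a b * (k⁻¹ * y * k) := by
        have h2 : tor a b = k⁻¹ * X j0 * k := by rw [hk]; group
        rw [h2]
        calc k⁻¹ * y * k * (k⁻¹ * X j0 * k) = k⁻¹ * (y * X j0) * k := by group
          _ = k⁻¹ * (X j0 * y) * k := by rw [hy]
          _ = _ := by group
      obtain ⟨a', b', h3⟩ := cent_tor hreg h1
      refine ⟨a', b', ?_⟩
      rw [← h3]
      group
    have hdc : ∀ a' b' a'' b'' : Fˣ, (k * tor a' b' * k⁻¹) * (k * tor a'' b'' * k⁻¹) =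
        (k * tor a'' b'' * k⁻¹) * (k * tor a' b' * k⁻¹) := by
      intro a' b' a'' b''
      calc (k * tor a' b' * k⁻¹) * (k * tor a'' b'' * k⁻¹) = k * (tor a' b' * tor a'' b'') * k⁻¹ := by group
        _ = k * (tor a'' b'' * tor a' b') * k⁻¹ := by rw [tor_comm]
        _ = _ := by group
    have hdpow : ∀ (a' b' : Fˣ) (n : ℕ), (k * tor a' b' * k⁻¹) ^ n = k * tor (a' ^ n) (b' ^ n) * k⁻¹ := by
      intro a' b' n
      rw [conj_pow, tor_pow]
    -- the element `d` with a fixed vector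
    obtain ⟨d, hd⟩ : ∃ d, d = k * tor a 1 * k⁻¹ := ⟨_, rfl⟩
    have ha1 : a ≠ 1 := by
      rintro rfl
      exact hreg.h1 (by rw [inv_one])
    have hunit : ∀ u : Fˣ, Odd (orderOf u) := by
      intro u
      have hF := Fintype.ofFinite F
      have h1 : orderOf u ∣ Nat.card Fˣ := orderOf_dvd_natCard u
      have h2 : Nat.card Fˣ + 1 = Nat.card F := by
        rw [Nat.card_units, Nat.sub_add_cancel Nat.card_pos]
      have h3 : Even (Nat.card F) := by
        rw [even_iff_two_dvd, ← CharP.cast_eq_zero_iff F 2, Nat.card_eq_fintype_card]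
        exact Nat.cast_card_eq_zero F
      refine Odd.of_dvd_nat ?_ h1
      rw [← h2] at h3
      exact (Nat.even_add_one.1 h3 |> Nat.not_even_iff_odd.1)
    have hd1 : d ≠ 1 := by
      intro h
      apply ha1
      rw [hd, mul_inv_eq_one, mul_eq_left] at h
      have h1 := tor_e1 (F := F) a 1
      rw [h, rho_one_apply] at h1
      have h2 := congrFun h1 (.inl 0)
      simp [e1] at h2
      exact Units.ext h2.symm
    have hdo : Odd (orderOf d) := by
      refine Odd.of_dvd_nat (hunit a) (orderOf_dvd_of_pow_eq_one ?_)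
      rw [hd, hdpow, pow_orderOf_eq_one, one_pow, tor_one, mul_one, mul_inv_cancel]
    have hdf : rho 2 F d (rho 2 F k (e2 F)) = rho 2 F k (e2 F) := by
      apply conj_fix hd
      rw [tor_e2, Units.val_one, one_smul]
    have hdδ : δ d ≠ d := by
      intro h
      exact e2_ne (rho_inj_zero (no_fix hq hδ h hd1 hdo hdf))
    have hdz : d * X j0 = X j0 * d := by
      rw [hd, hk, hdc]
    have hδd : δ d * X j0 = X j0 * δ d := by
      have h1 := congrArg δ hdz
      rwa [map_mul, map_mul, hz] at h1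
    obtain ⟨y, hy⟩ : ∃ y, y = d * (δ d)⁻¹ := ⟨_, rfl⟩
    have hy1 : y ≠ 1 := by
      intro h
      apply hdδ
      rw [hy, mul_inv_eq_one] at h
      exact h.symm
    have hyz : y * X j0 = X j0 * y := by
      have h1 : (δ d)⁻¹ * X j0 = X j0 * (δ d)⁻¹ := by
        rw [inv_mul_eq_iff_eq_mul, ← mul_assoc, hδd, mul_inv_cancel_right]
      rw [hy, mul_assoc, h1, ← mul_assoc, hdz, mul_assoc]
    obtain ⟨m, p, hp, hpd, hm⟩ := exists_prime_pow hy1
    obtain ⟨a1, b1, hyab⟩ := hdiag y hyz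
    choose A B hAB using fun j (hj : j ≠ i0) => hdiag (X j) (hXc j j0 hj hj0)
    have hcov' := cov_repl hcov hxδ (c := d) (fun j hj => by
      rw [hX j hj, ← Subgroup.coe_mul, ← Subgroup.coe_mul, ← map_mul, ← map_mul, hAB j hj, hd, hdc]) m
    rw [← hy] at hcov'
    have hym : y ^ m = k * tor (a1 ^ m) (b1 ^ m) * k⁻¹ := by rw [hyab, hdpow]
    have hym1 : y ^ m ≠ 1 := by
      intro h
      rw [h, orderOf_one] at hm
      exact hp.one_lt.ne hm
    have hp2 : p ≠ 2 := by
      intro h2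
      have h3 : y ^ (orderOf a1 * orderOf b1) = 1 := by
        rw [hyab, hdpow, pow_mul, pow_orderOf_eq_one, one_pow, mul_comm, pow_mul, pow_orderOf_eq_one, one_pow,
          tor_one, mul_one, mul_inv_cancel]
      have h4 : p ∣ orderOf a1 * orderOf b1 := hpd.trans (orderOf_dvd_of_pow_eq_one h3)
      rw [h2] at h4
      obtain ⟨t, ht⟩ := (hunit a1).mul (hunit b1)
      omega
    -- the common eigenvector
    have hev : ∃ v : V4 F, v ≠ 0 ∧ (∀ a' b' : Fˣ, ∃ c : F, rho 2 F (k * tor a' b' * k⁻¹) v = c • v) ∧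
        rho 2 F (y ^ m) v ≠ v := by
      by_cases h1 : a1 ^ m = 1
      · refine ⟨rho 2 F k (e2 F), fun h => e2_ne (rho_inj_zero h), fun a' b' => ⟨b', ?_⟩, ?_⟩
        · rw [rho_mul_apply, ← rho_mul_apply k⁻¹, inv_mul_cancel, rho_one_apply, rho_mul_apply, tor_e2, rho_smul]
        · intro h
          rw [hym, rho_mul_apply, ← rho_mul_apply k⁻¹, inv_mul_cancel, rho_one_apply, rho_mul_apply, tor_e2] at h
          have h2 := (rho 2 F k).injective h
          have h3 := congrFun h2 (.inl 1)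
          simp [e2, -Units.val_pow_eq_pow_val] at h3
          apply hym1
          rw [hym, h1, h3, tor_one, mul_one, mul_inv_cancel]
      · refine ⟨rho 2 F k (e1 F), fun h => e1_ne (rho_inj_zero h), fun a' b' => ⟨a', ?_⟩, ?_⟩
        · rw [rho_mul_apply, ← rho_mul_apply k⁻¹, inv_mul_cancel, rho_one_apply, rho_mul_apply, tor_e1, rho_smul]
        · intro h
          rw [hym, rho_mul_apply, ← rho_mul_apply k⁻¹, inv_mul_cancel, rho_one_apply, rho_mul_apply, tor_e1] at h
          have h2 := (rho 2 F k).injective h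
          have h3 := congrFun h2 (.inl 0)
          simp [e1, -Units.val_pow_eq_pow_val] at h3
          exact h1 h3
    obtain ⟨v, hv, hve, hvy⟩ := hev
    -- the family
    have hXX : ∀ i, Function.update x i0 (ε (y ^ m) : G) i = (ε (Function.update X i0 (y ^ m) i) : G) := by
      intro i
      by_cases hi : i = i0
      · subst hi; rw [Function.update_self, Function.update_self]
      · rw [Function.update_of_ne hi, Function.update_of_ne hi, hX i hi]
    have hform : ∀ i, ∃ a' b' : Fˣ, Function.update X i0 (y ^ m) i = k * tor a' b' * k⁻¹ := by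
      intro i
      by_cases hi : i = i0
      · subst hi; rw [Function.update_self]; exact ⟨_, _, hym⟩
      · rw [Function.update_of_ne hi]; exact ⟨_, _, hAB i hi⟩
    refine dead_eig (r := Function.update r i0 p) hE ?_ ?_ ?_ ?_ hcov' hXX hv ?_
    · intro i
      by_cases hi : i = i0
      · subst hi; rw [Function.update_self]; exact hp
      · rw [Function.update_of_ne hi]; exact hx.prime i
    · intro i
      by_cases hi : i = i0
      · subst hi; rw [Function.update_self]; exact hp2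
      · rw [Function.update_of_ne hi]; exact hrj i hi
    · intro i
      by_cases hi : i = i0
      · subst hi
        rw [Function.update_self, Function.update_self, ← Subgroup.coe_pow, ← map_pow, ← hm,
          pow_orderOf_eq_one, map_one, Subgroup.coe_one]
      · rw [Function.update_of_ne hi, Function.update_of_ne hi]; exact hx.pow i
    · intro i j
      obtain ⟨a', b', h1⟩ := hform i
      obtain ⟨a'', b'', h2⟩ := hform j
      rw [hXX i, hXX j, ← Subgroup.coe_mul, ← Subgroup.coe_mul, ← map_mul, ← map_mul, h1, h2, hdc]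
    · intro i
      obtain ⟨a', b', h1⟩ := hform i
      obtain ⟨c, hc⟩ := hve a' b'
      refine ⟨c, ?_, by rw [h1]; exact hc⟩
      rintro rfl
      rw [one_smul, ← h1] at hc
      by_cases hi : i = i0
      · subst hi
        rw [Function.update_self] at hc
        exact hvy hc
      · rw [Function.update_of_ne hi] at hc
        exact hv (no_fix hq hδ (hXδ i hi) (hX1 i hi) (hXodd i hi) hc)

end Cfsg.Agent.H332.RC
end

-- part: H195/RC/IrrGraph
section
/-!
# S3510, `Sp_4(q)`, `q` even: graph automorphisms do not centralise the torus of order `q² + 1` (helper195)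

* `quad_id` : `B² + tr(A) B + tr(mn A) = 0` for `B = A + A⁻¹`, `A ∈ Sp_4(F)`, characteristic two;
* `irr_not_cent`.
-/

set_option autoImplicit false
set_option linter.unusedSectionVars false

namespace Cfsg.Agent.H195.RC

open Module Matrix Cfsg Polynomial
open Cfsg.Agent.H319.FC Cfsg.Agent.H688.FC
open Cfsg.Agent.ClassicalGeometry.SympBasic Cfsg.Agent.ClassicalGeometry.SympAutSemi
open Cfsg.Agent.ClassicalGeometry.Sp4Graph

universe u

variable {F : Type u} [Field F]

section id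

variable [CharP F 2]

theorem adj_apply (A : M4 F) (i j : I4) : adj A i j = A (Sum.swap j) (Sum.swap i) := by
  have hneg : ∀ z : F, -z = z := fun z => CharTwo.neg_eq z
  rw [adj, Matrix.neg_apply, hneg, mul_eq]
  simp only [mul_eq, J_apply_eq, Matrix.transpose_apply]
  rcases i with i | i <;> rcases j with j | j <;> (revert i j; simp only [_root_.Fin.forall_fin_succ, Fin.isValue, _root_.Sum.swap_inl, reduceCtorEq, ↓reduceIte, _root_.MulZeroClass.zero_mul, _root_.add_zero, _root_.Sum.swap_inr, _root_.Sum.inl.injEq, _root_.ite_mul, _root_.one_mul, _root_.zero_add, _root_.MulZeroClass.mul_zero, _root_.Sum.inr.injEq, _root_.mul_ite, _root_.mul_one, _root_.one_ne_zero, _root_.Fin.succ_zero_eq_one, _root_.zero_ne_one, _root_.IsEmpty.forall_iff, _root_.and_true, _root_.and_self, _root_.Fin.succ_ne_zero])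

theorem quad_id (A : Sp4 F) :
    ((A : M4 F) + adj (A : M4 F)) * ((A : M4 F) + adj (A : M4 F)) +
      Matrix.trace (A : M4 F) • ((A : M4 F) + adj (A : M4 F)) + Matrix.trace (mn (A : M4 F)) • (1 : M4 F) = 0 := by
  have h2 : (2 : F) = 0 := CharTwo.two_eq_zero
  have r02 := row_rel A.2 (.inl 0) (.inr 0)
  have c02 := col_rel A.2 (.inl 0) (.inr 0)
  have r13 := row_rel A.2 (.inl 1) (.inr 1)
  have c13 := col_rel A.2 (.inl 1) (.inr 1)
  simp only [Sum.swap_inr, if_true] at r02 c02 r13 c13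
  have htr : Matrix.trace (A : M4 F) = (A : M4 F) (.inl 0) (.inl 0) + (A : M4 F) (.inl 1) (.inl 1) +
      (A : M4 F) (.inr 0) (.inr 0) + (A : M4 F) (.inr 1) (.inr 1) := by
    simp only [Matrix.trace, Fin.sum_univ_two, _root_.Matrix.diag_apply, _root_.Fintype.sum_sum_type, _root_.Fin.isValue]
    ring
  have htm : Matrix.trace (mn (A : M4 F)) = mn (A : M4 F) (.inl 0) (.inl 0) + mn (A : M4 F) (.inl 1) (.inl 1) +
      mn (A : M4 F) (.inr 0) (.inr 0) + mn (A : M4 F) (.inr 1) (.inr 1) := by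
    simp only [Matrix.trace, Fin.sum_univ_two, _root_.Matrix.diag_apply, _root_.Fintype.sum_sum_type, _root_.Fin.isValue]
    ring
  simp only [mn_apply, pa, pb, if_true, one_ne_zero, if_false] at htm
  ext i j
  rw [Matrix.add_apply, Matrix.add_apply, mul_eq, Matrix.smul_apply, Matrix.smul_apply, htr, htm, Matrix.zero_apply]
  simp only [Matrix.add_apply, adj_apply, smul_eq_mul, Matrix.one_apply]
  rcases i with i | i <;> rcases j with j | j <;> (revert i j; simp only [_root_.Fin.forall_fin_succ, Fin.isValue, _root_.Sum.swap_inl, _root_.Sum.swap_inr, _root_.Sum.inl.injEq, _root_.mul_ite, _root_.mul_one, _root_.MulZeroClass.mul_zero, _root_.Fin.succ_zero_eq_one, _root_.IsEmpty.forall_iff, ↓reduceIte, _root_.zero_ne_one, _root_.add_zero, _root_.Fin.succ_ne_zero, reduceCtorEq, _root_.Sum.inr.injEq, _root_.and_true, _root_.true_and]) <;> (repeat' with_reducible apply And.intro)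
  all_goals clear htr htm r13 c13
  all_goals grind

end id

/-- the number of elements of order dividing `q² + 1` is at most `4 q` if there are relations between the traces -/
theorem card_le_of {L : Type u} [Field L] [Finite F] (ι : F →+* L) (b : F → F) (S : Finset L)
    (h : ∀ l ∈ S, ∃ a : F, (l ^ 2 + 1) ^ 2 + ι a * l * (l ^ 2 + 1) + ι (b a) * l ^ 2 = 0) : S.card ≤ Nat.card F * 4 := by
  classical
  have := Fintype.ofFinite F
  let P : F → L[X] := fun a => X ^ 4 + (C (ι a) * X ^ 3 + (C (2 + ι (b a)) * X ^ 2 + (C (ι a) * X + C 1)))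
  have hdeg : ∀ a, (P a).natDegree = 4 := by
    intro a
    have h1 : (C (ι a) * X ^ 3 + (C (2 + ι (b a)) * X ^ 2 + (C (ι a) * X + C 1)) : L[X]).natDegree < 4 := by
      refine lt_of_le_of_lt ?_ (by norm_num : 3 < 4)
      refine natDegree_add_le_of_degree_le (natDegree_C_mul_X_pow_le _ _) ?_
      refine natDegree_add_le_of_degree_le ((natDegree_C_mul_X_pow_le _ _).trans (by norm_num)) ?_
      refine natDegree_add_le_of_degree_le ((natDegree_C_mul_le _ _).trans (natDegree_X_le.trans (by norm_num))) ?_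
      rw [natDegree_C]
      norm_num
    rw [natDegree_add_eq_left_of_natDegree_lt, natDegree_X_pow]
    rwa [natDegree_X_pow]
  have hne : ∀ a, P a ≠ 0 := fun a h0 => by
    have h1 := hdeg a
    rw [h0, natDegree_zero] at h1
    omega
  have hsub : S ⊆ (Finset.univ : Finset F).biUnion fun a => (P a).roots.toFinset := by
    intro l hl
    obtain ⟨a, ha⟩ := h l hl
    rw [Finset.mem_biUnion]
    refine ⟨a, Finset.mem_univ a, ?_⟩
    rw [Multiset.mem_toFinset, mem_roots (hne a), IsRoot.def]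
    simp only [P, eval_add, eval_mul, eval_pow, eval_X, eval_C]
    linear_combination ha
  refine (Finset.card_le_card hsub).trans ?_
  refine (Finset.card_biUnion_le_card_mul _ _ 4 fun a _ => ?_).trans ?_
  · refine (Multiset.toFinset_card_le _).trans ?_
    rw [← hdeg a]
    exact card_roots' _
  · rw [Finset.card_univ, Nat.card_eq_fintype_card]

/-- **A graph automorphism does not centralise the torus of order `q² + 1`.** -/
theorem irr_not_cent {F : Type u} [Field F] [Finite F] [CharP F 2] (hq : 4 ≤ Nat.card F) {z : Sp4 F} (hz1 : z ≠ 1)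
    (hzo : Odd (orderOf z)) (hirr : Irr4 z) {δ : MulAut (Sp4 F)} (hδ : δ ∉ (conjHom 2 F).range) :
    ∃ d : Sp4 F, z * d = d * z ∧ δ d ≠ d := by
  classical
  by_contra hcon
  push Not at hcon
  obtain ⟨g, rfl⟩ := exists_graph hq hδ
  obtain ⟨φ, l₀, hl₀, hg⟩ := id g.2
  -- traces
  have htr : ∀ d : Sp4 F, z * d = d * z →
      Matrix.trace (mn (d : M4 F)) = φ.symm (Matrix.trace (d : M4 F)) := by
    intro d hd
    have h1 := hcon d hd
    have h2 := trace_conjHom hg (graphEquiv F d)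
    rw [MulAut.mul_apply] at h1
    rw [h1, graphEquiv_apply, graphHom_coe] at h2
    rw [h2, RingEquiv.symm_apply_apply]
  obtain ⟨L, _, _, _, θ, hθ, hL, hcent⟩ := exists_field (z := (z : M4 F)) hirr
  have h4 : finrank F L = 4 := by
    rw [hL]
    rfl
  -- the adjoint
  have hst : ∀ l : L, ∃ l' : L, θ l' = adj (θ l) := by
    intro l
    rw [← hcent]
    have h1 : (z : M4 F) * θ l = θ l * (z : M4 F) := (hcent _).2 ⟨l, rfl⟩
    have h2 := congrArg adj h1
    rw [adj_mul, adj_mul] at h2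
    have h3 := adj_mul_self z
    have h3' : (z : M4 F) * adj (z : M4 F) = 1 := mul_eq_one_comm.1 h3
    calc (z : M4 F) * adj (θ l) = (z : M4 F) * adj (θ l) * (adj (z : M4 F) * (z : M4 F)) := by rw [h3, mul_one]
      _ = (z : M4 F) * (adj (θ l) * adj (z : M4 F)) * (z : M4 F) := by simp only [mul_assoc]
      _ = ((z : M4 F) * adj (z : M4 F)) * adj (θ l) * (z : M4 F) := by rw [h2]; simp only [mul_assoc]
      _ = adj (θ l) * (z : M4 F) := by rw [h3', one_mul]
  choose st hst using hst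
  let τ₀ : L →ₐ[F] L :=
    { toFun := st
      map_one' := hθ (by rw [hst, map_one, adj_one])
      map_mul' := fun a b => hθ (by rw [map_mul, hst, hst, hst, map_mul, adj_mul, ← hst, ← hst, ← map_mul, ← map_mul, mul_comm])
      map_zero' := hθ (by rw [hst, map_zero, adj_zero])
      map_add' := fun a b => hθ (by rw [map_add, hst, hst, hst, map_add, adj_add])
      commutes' := fun r => hθ (by rw [hst, θ.commutes, adj_algebraMap]) }
  have hτ₀ : ∀ l, τ₀ (τ₀ l) = l := by
    intro l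
    apply hθ
    change θ (st (st l)) = θ l
    rw [hst, hst, adj_adj]
  let τ : L ≃ₐ[F] L := AlgEquiv.ofAlgHom τ₀ τ₀ (AlgHom.ext hτ₀) (AlgHom.ext hτ₀)
  have hτ : ∀ l, τ l = st l := fun _ => rfl
  obtain ⟨ζ, hζ⟩ := (hcent (z : M4 F)).1 rfl
  have hττ : τ * τ = 1 := AlgEquiv.ext hτ₀
  have hτ1 : τ ≠ 1 := by
    intro h0
    have h1 : st ζ = ζ := by rw [← hτ, h0]; rfl
    have h2 : adj (z : M4 F) = (z : M4 F) := by rw [← hζ, ← hst, h1]
    have h3 := adj_mul_self z
    rw [h2] at h3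
    have h4 : z * z = 1 := Subtype.ext h3
    have h5 : orderOf z ∣ 2 := orderOf_dvd_of_pow_eq_one (by rw [pow_two, h4])
    rcases (Nat.dvd_prime Nat.prime_two).1 h5 with h6 | h6
    · exact hz1 (orderOf_eq_one_iff.1 h6)
    · rw [h6] at hzo
      exact absurd hzo (by decide)
  have hstp : ∀ l, st l = l ^ (Nat.card F ^ 2) := fun l => _root_.Cfsg.Agent.H688.FC.star_pow h4 τ hττ hτ1 l
  have hunit : ∀ l : L, adj (θ l) * θ l = 1 ↔ l ^ (Nat.card F ^ 2 + 1) = 1 := by
    intro l
    rw [← hst, ← map_mul, hstp, ← pow_succ, ← map_one θ]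
    exact hθ.eq_iff
  obtain ⟨c₀, hc₀, -⟩ := exists_c h4
  have hc₀1 : c₀ ^ (Nat.card F ^ 2 + 1) = 1 := by rw [← hc₀]; exact pow_orderOf_eq_one c₀
  let S : Finset L := (Finset.range (Nat.card F ^ 2 + 1)).image fun k => c₀ ^ k
  have hS : S.card = Nat.card F ^ 2 + 1 := by
    rw [Finset.card_image_of_injOn, Finset.card_range]
    intro i hi j hj hij
    rw [Finset.coe_range, Set.mem_Iio, ← hc₀] at hi hj
    exact pow_injOn_Iio_orderOf hi hj hij
  have hle : S.card ≤ Nat.card F * 4 := by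
    refine card_le_of (algebraMap F L) (fun a => φ.symm a) S fun l hl => ?_
    obtain ⟨k, -, rfl⟩ := Finset.mem_image.1 hl
    have hk1 : (c₀ ^ k) ^ (Nat.card F ^ 2 + 1) = 1 := by rw [← pow_mul, mul_comm, pow_mul, hc₀1, one_pow]
    set l := c₀ ^ k with hlk
    let d : Sp4 F := ⟨θ l, mem_of_adj ((hunit l).2 hk1)⟩
    have hd : (d : M4 F) = θ l := rfl
    have hzd : z * d = d * z := comm_coe.2 ((hcent _).2 ⟨l, rfl⟩)
    have h1 := quad_id d
    rw [htr d hzd, hd, ← hst] at h1
    set a := Matrix.trace (θ l : M4 F) with ha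
    have h2 : θ ((l + st l) * (l + st l) + algebraMap F L a * (l + st l) + algebraMap F L (φ.symm a)) = θ 0 := by
      rw [map_zero, ← h1]
      simp only [map_add, map_mul, θ.commutes]
      rw [Algebra.algebraMap_eq_smul_one, Algebra.algebraMap_eq_smul_one, smul_mul_assoc, one_mul]
    have h3 := hθ h2
    have h5 : st l * l = 1 := by
      apply hθ
      rw [map_mul, hst, map_one]
      exact (hunit l).2 hk1
    refine ⟨a, ?_⟩
    have h6 : l * (l + st l) = l ^ 2 + 1 := by rw [mul_add, mul_comm l (st l), h5]; ring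
    calc (l ^ 2 + 1) ^ 2 + algebraMap F L a * l * (l ^ 2 + 1) + algebraMap F L (φ.symm a) * l ^ 2
        = l ^ 2 * ((l + st l) * (l + st l) + algebraMap F L a * (l + st l) + algebraMap F L (φ.symm a)) := by
          rw [← h6]; ring
      _ = 0 := by rw [h3, mul_zero]
  rw [hS] at hle
  nlinarith only [hq, hle]

end Cfsg.Agent.H195.RC
end

-- part: H332/RC/GrPsp
section
/-!
# S3510, row D, box GR(2), for `e : N ≃* PSp 2 F` (helper332)
-/

set_option autoImplicit false
set_option linter.unusedSectionVars false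

namespace Cfsg.Agent.H332.RC

open Cfsg Cfsg.Agent.H106.RC Cfsg.Agent.H385.RC Cfsg.Agent.H319.FC
open Cfsg.Agent.ClassicalGeometry.SympAutSemi

variable {F : Type} [Field F] [Finite F] {G : Type} [Group G] {N : Subgroup G}

theorem card_four (h2 : (2 : F) = 0) (hq : 3 ≤ Nat.card F) : 4 ≤ Nat.card F := by
  have hF := Fintype.ofFinite F
  have hchar : CharP F 2 := CharTwo.of_one_ne_zero_of_two_eq_zero one_ne_zero h2
  have h3 : 2 ∣ Nat.card F := by
    rw [← CharP.cast_eq_zero_iff F 2, Nat.card_eq_fintype_card]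
    exact Nat.cast_card_eq_zero F
  omega

/-- **the matrices**: an element which does not induce a semisimilitude induces an automorphism of `Sp_4(F)` outside
`PΓSp` -/
theorem exists_delta (h2 : (2 : F) = 0) (e : N ≃* PSp 2 F) (hN : N.Normal) {g : G} (hg : ¬ IndPsi e g) :
    ∃ (ε : Sp4 F ≃* N) (δ : MulAut (Sp4 F)), δ ∉ (conjHom 2 F).range ∧
      (∀ n, g * (ε n : G) * g⁻¹ = (ε (δ n) : G)) ∧ ∀ A, e (ε A) = QuotientGroup.mk A := by
  have hchar : CharP F 2 := CharTwo.of_one_ne_zero_of_two_eq_zero one_ne_zero h2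
  refine ⟨(mkE F).trans e.symm, (congE F).symm (indAut hN e g), fun h => hg ?_, fun n => ?_, fun A => ?_⟩
  · rw [← congE_mem_range, MulEquiv.apply_symm_apply] at h
    rw [indPsi_iff hN]
    exact h
  · have h1 := indAut_apply hN e g (e.symm (mkE F n))
    rw [e.apply_symm_apply] at h1
    have h3 : indAut hN e g (mkE F n) = mkE F (((congE F).symm (indAut hN e g)) n) := by
      rw [← congE_mk, MulEquiv.apply_symm_apply]
    rw [h3] at h1
    exact h1.symm
  · change e (e.symm (mkE F A)) = _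
    rw [e.apply_symm_apply]
    rfl

/-- **GR(2)** -/
theorem gr_two_psp {Ω ι : Type} [MulAction G Ω] [Finite G] [Nonempty Ω] [Finite ι] {x : ι → G} {r : ι → ℕ}
    (h2 : (2 : F) = 0) (hq : 3 ≤ Nat.card F) (hE : Env G Ω N) (e : N ≃* PSp 2 F) (hx : PF x r) (hcov : Cov Ω x)
    (i0 : ι) (hi0 : ¬ IndPsi e (x i0)) (hlin : ∀ j, j ≠ i0 → x j ∈ N)
    (hM2O : ∀ (κ : Type) (_ : Finite κ) (y : κ → G) (s : κ → ℕ), PF y s → Cov Ω y → (∀ i, y i ∈ N) →
      (∀ i, s i ≠ 2) → False) : False := by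
  have hchar : CharP F 2 := CharTwo.of_one_ne_zero_of_two_eq_zero one_ne_zero h2
  have hq4 := card_four h2 hq
  obtain ⟨ε, δ, hδ, hxδ, -⟩ := exists_delta h2 e hE.norm hi0
  exact gr_two hq4 hE ε hx hcov i0 hδ hxδ hlin
    (fun z hz1 hzo hI => Cfsg.Agent.H195.RC.irr_not_cent hq4 hz1 hzo hI hδ) hM2O

end Cfsg.Agent.H332.RC
end

private theorem dce_c6dadc006db3 : _root_.True := by
  try have : _root_.True := by simp only [_root_.Cfsg.Agent.H319.FC.iota.congr_simp]
  try have : _root_.True := by simp only [_root_.Cfsg.Agent.H332.RC.dgl.eq_1]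
  try have : _root_.True := by simp only [_root_.Cfsg.Agent.H332.RC.tor.eq_1]
  try have : _root_.True := by simp only [_root_.Cfsg.Agent.H688.FC.adj.eq_1]
  try have : _root_.True := by simp only [_root_.Cfsg.Agent.H332.RC.tor.congr_simp]
  try have : _root_.True := by simp only [_root_.Cfsg.Agent.ClassicalGeometry.Sp4Graph.graphEquiv.congr_simp]
  exact _root_.True.intro
end

-- part: H452/RC/SUTwo
section
set_option linter.all false
open scoped Cfsg.Agent.FastGrp

/-!
# `SU_2(q)`, `q ≥ 4` : perfect, simple modulo the centre, `PSU_2(q) = PSL_2(q)` (helper452)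

* `comm_two`, `simple_two`, `nc_two`, `rc_two`.
-/

set_option autoImplicit false
set_option linter.unusedSectionVars false

namespace Cfsg.Agent.H452.RC

open Matrix Cfsg Cfsg.Agent.LieClassical.HermBasic Cfsg.Agent.ClassicalGeometry.PSUAutBasic

section gen

variable {G H : Type*} [Group G] [Group H]

theorem map_center_eq (e : G ≃* H) : (Subgroup.center G).map (e : G →* H) = Subgroup.center H := by
  ext h
  rw [Subgroup.mem_map, Subgroup.mem_center_iff]
  constructor
  · rintro ⟨g, hg, rfl⟩ k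
    rw [Subgroup.mem_center_iff] at hg
    have h1 := congrArg e (hg (e.symm k))
    rw [map_mul, map_mul, MulEquiv.apply_symm_apply] at h1
    exact h1
  · intro hh
    refine ⟨e.symm h, ?_, e.apply_symm_apply h⟩
    rw [Subgroup.mem_center_iff]
    intro g
    apply e.injective
    rw [map_mul, map_mul, MulEquiv.apply_symm_apply]
    exact hh _

theorem commutator_top_of_equiv (e : G ≃* H) (h : commutator H = ⊤) : commutator G = ⊤ := by
  have h1 : Subgroup.map e.symm.toMonoidHom ⊤ = (⊤ : Subgroup G) :=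
    Subgroup.map_top_of_surjective _ e.symm.surjective
  have h2 : Subgroup.map e.symm.toMonoidHom (commutator H) = commutator G := by
    rw [commutator_def, commutator_def, Subgroup.map_commutator, h1]
  rw [← h2, h, h1]

theorem nc_of_perfect [Nontrivial G] (h : commutator G = ⊤) : ¬ IsMulCommutative G := by
  intro hc
  have h1 : commutator G = ⊥ := by
    rw [commutator_def, Subgroup.commutator_eq_bot_iff_le_centralizer]
    intro x _
    rw [Subgroup.mem_centralizer_iff]
    intro y _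
    exact hc.is_comm.comm _ _
  exact bot_ne_top (h1.symm.trans h)

end gen

/-- `SL_2(K)` is perfect, `|K| ≥ 4` -/
theorem sl_perfect {K : Type*} [Field K] [Fintype K] (hK : 4 ≤ Fintype.card K) :
    commutator (Matrix.SpecialLinearGroup (Fin 2) K) = ⊤ := by
  classical
  obtain ⟨a, ha0, ha1, ha2⟩ : ∃ a : K, a ≠ 0 ∧ a ≠ 1 ∧ a ≠ -1 := by
    have h1 : ({0, 1, -1} : Finset K).card < Fintype.card K :=
      lt_of_le_of_lt Finset.card_le_three (by omega)
    obtain ⟨a, ha⟩ := Finset.exists_mem_notMem_of_card_lt_card (s := ({0, 1, -1} : Finset K)) (t := Finset.univ)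
      (by rwa [Finset.card_univ])
    have h2 := ha.2
    simp only [Finset.mem_insert, Finset.mem_singleton, not_or] at h2
    exact ⟨a, h2.1, h2.2.1, h2.2.2⟩
  refine Matrix.SL2.commutator_eq_top ha0 ?_
  intro h
  have h3 : (a - 1) * (a + 1) = 0 := by linear_combination h
  rcases mul_eq_zero.1 h3 with h4 | h4
  · exact ha1 (sub_eq_zero.1 h4)
  · exact ha2 (eq_neg_of_add_eq_zero_left h4)

section

variable {F : Type*} [Field F] [Fintype F] {q : ℕ}

/-- a field with `q` elements -/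
theorem exists_field (hF : Fintype.card F = q ^ 2) :
    ∃ (K : Type) (_ : Field K) (_ : Fintype K), Fintype.card K = q := by
  obtain ⟨p, k, hp, -, hk, hk0⟩ := exists_prime_pow hF
  have := Fact.mk hp
  letI : Fintype (GaloisField p k) := Fintype.ofFinite _
  refine ⟨GaloisField p k, inferInstance, inferInstance, ?_⟩
  rw [← Nat.card_eq_fintype_card, GaloisField.card p k hk0.ne', hk]

theorem comm_two (hF : Fintype.card F = q ^ 2) (hq : 4 ≤ q) : commutator (SU 2 F q) = ⊤ := by
  obtain ⟨K, _, _, hK⟩ := exists_field hF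
  obtain ⟨e⟩ := S0281.result hF hK
  exact commutator_top_of_equiv e (sl_perfect (by omega))

/-- `PSU_2(q) = PSL_2(q)` -/
theorem psu_psl (hF : Fintype.card F = q ^ 2) {K : Type*} [Field K] [Fintype K] (hK : Fintype.card K = q) :
    Nonempty (PSU 2 F q ≃* Matrix.ProjectiveSpecialLinearGroup (Fin 2) K) := by
  obtain ⟨e⟩ := S0281.result hF hK
  exact ⟨QuotientGroup.congr (Subgroup.center (SU 2 F q)) (Subgroup.center (Matrix.SpecialLinearGroup (Fin 2) K)) e
    (map_center_eq e)⟩

theorem simple_two (hF : Fintype.card F = q ^ 2) (hq : 4 ≤ q) : IsSimpleGroup (PSU 2 F q) := by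
  obtain ⟨K, _, _, hK⟩ := exists_field hF
  obtain ⟨e⟩ := psu_psl hF hK
  have h1 : IsSimpleGroup (Matrix.ProjectiveSpecialLinearGroup (Fin 2) K) :=
    LieClassical.SLGen.psl_isSimpleGroup_of_perfect (sl_perfect (by omega))
  have : Nontrivial (PSU 2 F q) := e.toEquiv.nontrivial
  exact IsSimpleGroup.isSimpleGroup_of_surjective e.symm.toMonoidHom e.symm.surjective

theorem nc_two (hF : Fintype.card F = q ^ 2) (hq : 4 ≤ q) : ¬ IsMulCommutative (PSU 2 F q) := by
  have h1 := simple_two hF hq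
  have h2 : Nontrivial (PSU 2 F q) := h1.toNontrivial
  apply nc_of_perfect
  have h3 := comm_two hF hq
  have h4 : Subgroup.map (pr 2 F q) (commutator (SU 2 F q)) = commutator (PSU 2 F q) := by
    rw [commutator_def, commutator_def, Subgroup.map_commutator,
      Subgroup.map_top_of_surjective _ (pr_surjective (n := 2) (F := F) (q := q))]
  rw [← h4, h3, Subgroup.map_top_of_surjective _ (pr_surjective (n := 2) (F := F) (q := q))]

theorem rc_two (hF : Fintype.card F = q ^ 2)
    (h : ∀ (K : Type) [Field K] [Fintype K], Fintype.card K = q →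
      H106.RC.RC (Matrix.ProjectiveSpecialLinearGroup (Fin 2) K)) : H106.RC.RC (PSU 2 F q) := by
  obtain ⟨K, _, _, hK⟩ := exists_field hF
  obtain ⟨e⟩ := psu_psl hF hK
  exact (h K hK).congr e.symm

end

end Cfsg.Agent.H452.RC
end
end
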